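import Mathlib
import Cfsg.Prelude.Def_OddOrderChar
import Cfsg.Agent.Lib.Helper26.Coh

set_option autoImplicit false

namespace Cfsg.Agent.Lib.Helper25

open Cfsg Cfsg.Agent.Lib.Helper26

/-- A generalized character of norm two vanishing at the identity is a difference of two
distinct irreducible characters. -/
theorem gen_norm_two {G : Type*} [Group G] [Fintype G] {θ : G → ℂ}
    (hθ : IsGeneralizedCharacter G θ) (h2 : classInner θ θ = 2) (h1 : θ 1 = 0) :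
    ∃ θ₁ θ₂ : G → ℂ, IsIrrCharacter G θ₁ ∧ IsIrrCharacter G θ₂ ∧ θ₁ ≠ θ₂ ∧ θ = θ₁ - θ₂ := by
  classical
  have hfin : Fintype (IrrCharacter G) := Fintype.ofFinite _
  obtain ⟨n, rfl⟩ := gen_expansion hθ
  rw [classInner_expansion] at h2
  have hs : ∑ ψ : IrrCharacter G, (n ψ) ^ 2 = 2 := by
    have : ((∑ ψ : IrrCharacter G, (n ψ) ^ 2 : ℤ) : ℂ) = ((2 : ℤ) : ℂ) := by
      push_cast
      rw [← h2]
      refine Finset.sum_congr rfl (fun ψ _ => ?_)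
      simp [sq]
    exact_mod_cast this
  have hex : ∃ ψ₀, n ψ₀ ≠ 0 := by
    by_contra hcon
    simp only [not_exists, not_not] at hcon
    simp [hcon] at hs
  obtain ⟨ψ₀, hψ₀⟩ := hex
  have hsplit : (n ψ₀) ^ 2 + ∑ ψ ∈ Finset.univ.erase ψ₀, (n ψ) ^ 2 = 2 :=
    (Finset.add_sum_erase Finset.univ (fun ψ => (n ψ) ^ 2) (Finset.mem_univ ψ₀)).trans hs
  have hnn : 0 ≤ ∑ ψ ∈ Finset.univ.erase ψ₀, (n ψ) ^ 2 :=
    Finset.sum_nonneg (fun ψ _ => sq_nonneg _)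
  have hsq0 : (n ψ₀) ^ 2 = 1 := by
    have h3 : 0 < (n ψ₀) ^ 2 := by positivity
    have h4 : (n ψ₀) ^ 2 ≤ 2 := by omega
    have h5 : |n ψ₀| ≤ 1 := by
      by_contra hc
      push Not at hc
      have h6 : 2 ≤ |n ψ₀| := hc
      nlinarith [sq_abs (n ψ₀)]
    have h7 : (n ψ₀) ^ 2 ≤ 1 := by nlinarith [sq_abs (n ψ₀), abs_nonneg (n ψ₀)]
    omega
  have hrest : ∑ ψ ∈ Finset.univ.erase ψ₀, (n ψ) ^ 2 = 1 := by omega
  have hex1 : ∃ ψ₁ ∈ Finset.univ.erase ψ₀, n ψ₁ ≠ 0 := by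
    by_contra hcon
    push Not at hcon
    have : ∑ ψ ∈ Finset.univ.erase ψ₀, (n ψ) ^ 2 = 0 :=
      Finset.sum_eq_zero (fun ψ hψ => by rw [hcon ψ hψ]; ring)
    omega
  obtain ⟨ψ₁, hψ₁mem, hψ₁⟩ := hex1
  have hsplit1 : (n ψ₁) ^ 2 + ∑ ψ ∈ (Finset.univ.erase ψ₀).erase ψ₁, (n ψ) ^ 2 = 1 :=
    (Finset.add_sum_erase _ (fun ψ => (n ψ) ^ 2) hψ₁mem).trans hrest
  have hnn1 : 0 ≤ ∑ ψ ∈ (Finset.univ.erase ψ₀).erase ψ₁, (n ψ) ^ 2 :=
    Finset.sum_nonneg (fun ψ _ => sq_nonneg _)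
  have hsq1 : (n ψ₁) ^ 2 = 1 := by
    have h3 : 0 < (n ψ₁) ^ 2 := by positivity
    omega
  have hrest1 : ∑ ψ ∈ (Finset.univ.erase ψ₀).erase ψ₁, (n ψ) ^ 2 = 0 := by omega
  have hzero : ∀ ψ, ψ ≠ ψ₀ → ψ ≠ ψ₁ → n ψ = 0 := by
    intro ψ h0 h1'
    have := (Finset.sum_eq_zero_iff_of_nonneg (fun ψ _ => sq_nonneg (n ψ))).mp hrest1 ψ
      (Finset.mem_erase.mpr ⟨h1', Finset.mem_erase.mpr ⟨h0, Finset.mem_univ ψ⟩⟩)
    exact pow_eq_zero_iff (two_ne_zero) |>.mp this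
  have hne : ψ₁ ≠ ψ₀ := (Finset.mem_erase.mp hψ₁mem).1
  have hsum : ∑ ψ : IrrCharacter G, (n ψ : ℂ) • (ψ : G → ℂ) =
      (n ψ₀ : ℂ) • (ψ₀ : G → ℂ) + (n ψ₁ : ℂ) • (ψ₁ : G → ℂ) := by
    rw [← Finset.add_sum_erase Finset.univ _ (Finset.mem_univ ψ₀),
      ← Finset.add_sum_erase _ _ hψ₁mem]
    rw [Finset.sum_eq_zero, add_zero]
    intro ψ hψ
    rw [Finset.mem_erase, Finset.mem_erase] at hψ
    rw [hzero ψ hψ.2.1 hψ.1]
    simp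
  rw [hsum] at h1 ⊢
  obtain ⟨d₀, hd₀, hd₀'⟩ := irr_degree ψ₀.2
  obtain ⟨d₁, hd₁, hd₁'⟩ := irr_degree ψ₁.2
  have hval : (n ψ₀ : ℂ) * d₀ + (n ψ₁ : ℂ) * d₁ = 0 := by
    have h3 := h1
    simp only [Pi.add_apply, Pi.smul_apply, smul_eq_mul, hd₀', hd₁'] at h3
    exact h3
  have hvalZ : n ψ₀ * d₀ + n ψ₁ * d₁ = 0 := by exact_mod_cast hval
  have hpm0 : n ψ₀ = 1 ∨ n ψ₀ = -1 := by
    have h3 : (n ψ₀ - 1) * (n ψ₀ + 1) = 0 := by ring_nf; omega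
    rcases mul_eq_zero.mp h3 with h | h
    · left; omega
    · right; omega
  have hpm1 : n ψ₁ = 1 ∨ n ψ₁ = -1 := by
    have h3 : (n ψ₁ - 1) * (n ψ₁ + 1) = 0 := by ring_nf; omega
    rcases mul_eq_zero.mp h3 with h | h
    · left; omega
    · right; omega
  have hd₀Z : (0 : ℤ) < d₀ := by exact_mod_cast hd₀
  have hd₁Z : (0 : ℤ) < d₁ := by exact_mod_cast hd₁
  rcases hpm0 with h0 | h0 <;> rcases hpm1 with h1' | h1'
  · exfalso; rw [h0, h1'] at hvalZ; omega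
  · refine ⟨ψ₀, ψ₁, ψ₀.2, ψ₁.2, fun h => hne (Subtype.ext h).symm, ?_⟩
    rw [h0, h1']; simp [sub_eq_add_neg]
  · refine ⟨ψ₁, ψ₀, ψ₁.2, ψ₀.2, fun h => hne (Subtype.ext h), ?_⟩
    rw [h0, h1']; simp [sub_eq_add_neg, add_comm]
  · exfalso; rw [h0, h1'] at hvalZ; omega

/-- The inner product of complex conjugates. -/
theorem classInner_conjFun {G : Type*} [Group G] [Fintype G] (a b : G → ℂ) :
    classInner (conjFun a) (conjFun b) = classInner b a := by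
  rw [← classInner_conj_symm a b]
  simp only [classInner, conjFun, map_mul, map_inv₀, map_natCast, map_sum, Complex.conj_conj]

theorem conjFun_conjFun {X : Type*} (a : X → ℂ) : conjFun (conjFun a) = a := by
  funext x
  simp [conjFun]

end Cfsg.Agent.Lib.Helper25
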