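import Mathlib
import Cfsg.Prelude.Def_OddOrderChar
import Cfsg.Agent.Lib.Helper26.Coh
import Cfsg.Agent.Lib.Helper25.NormTwo

set_option autoImplicit false

namespace Cfsg.Agent.Lib.Helper25

open Cfsg Cfsg.Agent.Lib.Helper26
open scoped ComplexConjugate

section bessel

variable {G : Type*} [Group G] [Fintype G]

theorem classInner_self_eq (f : G → ℂ) :
    classInner f f = (((Nat.card G : ℝ)⁻¹ * ∑ g : G, Complex.normSq (f g) : ℝ) : ℂ) := by
  unfold classInner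
  push_cast
  congr 1
  apply Finset.sum_congr rfl
  intro g _
  rw [Complex.mul_conj]

theorem classInner_self_re_nonneg (f : G → ℂ) : 0 ≤ (classInner f f).re := by
  rw [classInner_self_eq, Complex.ofReal_re]
  apply mul_nonneg
  · positivity
  · exact Finset.sum_nonneg (fun g _ => Complex.normSq_nonneg _)

theorem classInner_self_ofReal (f : G → ℂ) : classInner f f = (((classInner f f).re : ℝ) : ℂ) := by
  conv_lhs => rw [classInner_self_eq]
  rw [classInner_self_eq, Complex.ofReal_re]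

/-- Bessel's identity for a finite orthogonal family. -/
theorem bessel_identity {ι : Type*} (s : Finset ι) (e : ι → G → ℂ) (N : ι → ℝ)
    (hN : ∀ i ∈ s, N i ≠ 0)
    (horth : ∀ i ∈ s, ∀ j ∈ s, i ≠ j → classInner (e i) (e j) = 0)
    (hnorm : ∀ i ∈ s, classInner (e i) (e i) = (N i : ℂ)) (u : G → ℂ) :
    classInner (u - ∑ i ∈ s, (classInner u (e i) / (N i : ℂ)) • e i)
        (u - ∑ i ∈ s, (classInner u (e i) / (N i : ℂ)) • e i)
      = classInner u u - ((∑ i ∈ s, ‖classInner u (e i)‖ ^ 2 / N i : ℝ) : ℂ) := by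
  classical
  set c : ι → ℂ := fun i => classInner u (e i) with hc
  set P : G → ℂ := ∑ i ∈ s, (c i / (N i : ℂ)) • e i with hP
  have hsq : ∀ i, c i * conj (c i) = ((‖c i‖ ^ 2 : ℝ) : ℂ) := by
    intro i
    rw [Complex.mul_conj, Complex.normSq_eq_norm_sq]
  have h1 : classInner u P = ((∑ i ∈ s, ‖c i‖ ^ 2 / N i : ℝ) : ℂ) := by
    rw [hP, classInner_sum_right]
    push_cast
    apply Finset.sum_congr rfl
    intro i hi
    rw [classInner_smul_right, map_div₀, Complex.conj_ofReal]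
    have h := hsq i
    push_cast at h
    rw [← h]
    ring
  have h2 : classInner P u = ((∑ i ∈ s, ‖c i‖ ^ 2 / N i : ℝ) : ℂ) := by
    rw [← classInner_conj_symm, h1, Complex.conj_ofReal]
  have h3 : classInner P P = ((∑ i ∈ s, ‖c i‖ ^ 2 / N i : ℝ) : ℂ) := by
    conv_lhs => rw [hP]
    rw [classInner_sum_left]
    push_cast
    apply Finset.sum_congr rfl
    intro i hi
    rw [classInner_smul_left]
    have h4 : classInner (e i) P = conj (c i / (N i : ℂ)) * (N i : ℂ) := by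
      rw [hP, classInner_sum_right, Finset.sum_eq_single i]
      · rw [classInner_smul_right, hnorm i hi]
      · intro j hj hne
        rw [classInner_smul_right, horth i hi j hj (Ne.symm hne), mul_zero]
      · intro h; exact absurd hi h
    rw [h4, map_div₀, Complex.conj_ofReal]
    have h := hsq i
    push_cast at h
    rw [← h]
    have hNi : (N i : ℂ) ≠ 0 := by exact_mod_cast hN i hi
    field_simp
  rw [classInner_sub_left, classInner_sub_right, classInner_sub_right, h1, h2, h3]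
  ring

/-- Bessel's inequality for a finite orthogonal family. -/
theorem bessel_le {ι : Type*} (s : Finset ι) (e : ι → G → ℂ) (N : ι → ℝ)
    (hN : ∀ i ∈ s, N i ≠ 0)
    (horth : ∀ i ∈ s, ∀ j ∈ s, i ≠ j → classInner (e i) (e j) = 0)
    (hnorm : ∀ i ∈ s, classInner (e i) (e i) = (N i : ℂ)) (u : G → ℂ) :
    ∑ i ∈ s, ‖classInner u (e i)‖ ^ 2 / N i ≤ (classInner u u).re := by
  have h := bessel_identity s e N hN horth hnorm u
  have h2 := classInner_self_re_nonneg (u - ∑ i ∈ s, (classInner u (e i) / (N i : ℂ)) • e i)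
  rw [h, Complex.sub_re, Complex.ofReal_re] at h2
  linarith

end bessel

/-- A nonzero character has positive degree. -/
theorem char_one_pos {G : Type*} [Group G] {φ : G → ℂ} (h : IsCharacter G φ) (hne : φ ≠ 0) :
    ∃ k : ℕ, 0 < k ∧ φ 1 = k := by
  obtain ⟨k, ρ, rfl⟩ := h
  refine ⟨k, ?_, by rw [Representation.char_one]; simp⟩
  rcases Nat.eq_zero_or_pos k with hk | hk
  · exfalso
    subst hk
    apply hne
    funext g
    have h0 : ρ g = 0 := Subsingleton.elim _ _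
    simp [Representation.character, h0]
  · exact hk

section cohsys

variable {L : Type*} [Group L] [Fintype L] {G : Type*} [Group G] [Fintype G]

theorem int_le_sq (k : ℤ) : k ≤ k ^ 2 := by
  nlinarith [sq_nonneg (k - 1), sq_nonneg k, sq_nonneg (2 * k - 1)]

theorem one_le_sq_add_sq (p r : ℤ) (h : p - r = 1) : 1 ≤ p ^ 2 + r ^ 2 := by
  have hp : p = r + 1 := by omega
  subst hp
  nlinarith [sq_nonneg r, sq_nonneg (r + 1), int_le_sq (-r)]

/-- In a coherence system, an isometric extension sends `φ` into the span of `R φ`. -/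
theorem tau_mem_span_R {S : Set (L → ℂ)} {τ : (L → ℂ) → (G → ℂ)}
    {R : (L → ℂ) → Finset (G → ℂ)} (hS : IsCoherenceSystem S τ R) {S₁ : Set (L → ℂ)}
    (hS₁ : S₁ ⊆ S) {τ₁ : (L → ℂ) → (G → ℂ)} (hτ₁ : IsLinearIsometryOn (zspan S₁) τ₁)
    (hτ₁τ : ∀ α ∈ zspanOn S₁ {1}ᶜ, τ₁ α = τ α) {φ : L → ℂ} (hφ : φ ∈ S₁)
    (hφc : conjFun φ ∈ S₁) :
    τ₁ φ = ∑ ρ ∈ R φ, classInner (τ₁ φ) ρ • ρ := by
  classical
  have hfin : Fintype (IrrCharacter G) := Fintype.ofFinite _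
  have hτ₁' : IsLinearIsometryOn ((Submodule.span ℤ S₁ : Submodule ℤ (L → ℂ)) :
      Set (L → ℂ)) τ₁ := hτ₁
  have hτ' : IsLinearIsometryOn ((zspanOnSub S {1}ᶜ : Submodule ℤ (L → ℂ)) : Set (L → ℂ)) τ :=
    hS.isometry
  have hφS := hS₁ hφ
  have hφcS := hS₁ hφc
  have hmφ : φ ∈ Submodule.span ℤ S₁ := Submodule.subset_span hφ
  have hmφc : conjFun φ ∈ Submodule.span ℤ S₁ := Submodule.subset_span hφc
  have hdiff : φ - conjFun φ ∈ zspanOn S₁ {1}ᶜ := by
    rw [mem_zspanOn_one]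
    refine ⟨Submodule.sub_mem _ hmφ hmφc, ?_⟩
    obtain ⟨k, hk⟩ := char_degree (hS.isCharacter φ hφS)
    simp [conjFun, hk]
  have hdiffS : φ - conjFun φ ∈ zspanOnSub S {1}ᶜ := zspanOn_mono hS₁ _ hdiff
  set u := τ₁ φ with hu
  set v := τ₁ (conjFun φ) with hv
  have huv : u - v = ∑ ρ ∈ R φ, ρ := by
    rw [hu, hv, ← lin_sub hτ₁' hmφ hmφc, hτ₁τ _ hdiff, hS.sum_eq φ hφS]
  have horthR := hS.orthonormal φ hφS
  have hugen : IsGeneralizedCharacter G u := lin_gen hτ₁' hmφ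
  have hvgen : IsGeneralizedCharacter G v := lin_gen hτ₁' hmφc
  have hp : ∀ ρ ∈ R φ, ∃ p : ℤ, classInner u ρ = p := fun ρ hρ =>
    classInner_gen_int hugen (hS.virtual φ hφS ρ hρ)
  have hr : ∀ ρ ∈ R φ, ∃ p : ℤ, classInner v ρ = p := fun ρ hρ =>
    classInner_gen_int hvgen (hS.virtual φ hφS ρ hρ)
  choose! p hp using hp
  choose! r hr using hr
  have hpr : ∀ ρ ∈ R φ, p ρ - r ρ = 1 := by
    intro ρ hρ
    have h1 : classInner (u - v) ρ = 1 := by
      rw [huv, classInner_sum_left, Finset.sum_eq_single ρ]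
      · rw [horthR ρ hρ ρ hρ, if_pos rfl]
      · intro ρ' hρ' hne
        rw [horthR ρ' hρ' ρ hρ, if_neg hne]
      · intro h; exact absurd hρ h
    rw [classInner_sub_left, hp ρ hρ, hr ρ hρ] at h1
    exact_mod_cast h1
  -- norms
  set ν : ℝ := (classInner φ φ).re with hν
  have hφφ : classInner φ φ = (ν : ℂ) := classInner_self_ofReal φ
  have huu : classInner u u = (ν : ℂ) := by
    rw [hu, lin_inner hτ₁' hmφ hmφ, hφφ]
  have hvv : classInner v v = (ν : ℂ) := by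
    rw [hv, lin_inner hτ₁' hmφc hmφc, classInner_conjFun, hφφ]
  have hne : conjFun φ ≠ φ := hS.conj_ne φ hφS
  have hcard : ((R φ).card : ℝ) = 2 * ν := by
    have h1 : classInner (∑ ρ ∈ R φ, ρ) (∑ ρ ∈ R φ, ρ) = ((R φ).card : ℂ) := by
      rw [classInner_sum_left]
      have h2 : ∀ ρ ∈ R φ, classInner ρ (∑ ρ' ∈ R φ, ρ') = 1 := by
        intro ρ hρ
        rw [classInner_sum_right, Finset.sum_eq_single ρ]
        · rw [horthR ρ hρ ρ hρ, if_pos rfl]
        · intro ρ' hρ' hne'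
          rw [horthR ρ hρ ρ' hρ', if_neg (Ne.symm hne')]
        · intro h; exact absurd hρ h
      rw [Finset.sum_congr rfl h2]
      simp
    have h3 : classInner (∑ ρ ∈ R φ, ρ) (∑ ρ ∈ R φ, ρ) = 2 * (ν : ℂ) := by
      rw [← hS.sum_eq φ hφS, lin_inner hτ' hdiffS hdiffS, classInner_sub_left,
        classInner_sub_right, classInner_sub_right, hφφ, classInner_conjFun, hφφ,
        hS.orthogonal φ hφS _ hφcS (Ne.symm hne), hS.orthogonal _ hφcS φ hφS hne]
      ring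
    rw [h1] at h3
    exact_mod_cast h3
  have hnormR : ∀ ρ ∈ R φ, classInner ρ ρ = ((1 : ℝ) : ℂ) := by
    intro ρ hρ
    rw [horthR ρ hρ ρ hρ, if_pos rfl]
    simp
  have horthR' : ∀ ρ ∈ R φ, ∀ ρ' ∈ R φ, ρ ≠ ρ' → classInner ρ ρ' = 0 := by
    intro ρ hρ ρ' hρ' hne'
    rw [horthR ρ hρ ρ' hρ', if_neg hne']
  have hbu := bessel_le (R φ) id (fun _ => (1 : ℝ)) (fun _ _ => one_ne_zero) horthR' hnormR u
  have hbv := bessel_le (R φ) id (fun _ => (1 : ℝ)) (fun _ _ => one_ne_zero) horthR' hnormR v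
  rw [huu, Complex.ofReal_re] at hbu
  rw [hvv, Complex.ofReal_re] at hbv
  have hsu : ∑ ρ ∈ R φ, ‖classInner u (id ρ)‖ ^ 2 / (1 : ℝ) = ∑ ρ ∈ R φ, ((p ρ : ℝ)) ^ 2 := by
    apply Finset.sum_congr rfl
    intro ρ hρ
    rw [id, hp ρ hρ, div_one]
    have : ‖((p ρ : ℤ) : ℂ)‖ = |(p ρ : ℝ)| := by
      rw [← Complex.ofReal_intCast, Complex.norm_real, Real.norm_eq_abs]
    rw [this, sq_abs]
  have hsv : ∑ ρ ∈ R φ, ‖classInner v (id ρ)‖ ^ 2 / (1 : ℝ) = ∑ ρ ∈ R φ, ((r ρ : ℝ)) ^ 2 := by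
    apply Finset.sum_congr rfl
    intro ρ hρ
    rw [id, hr ρ hρ, div_one]
    have : ‖((r ρ : ℤ) : ℂ)‖ = |(r ρ : ℝ)| := by
      rw [← Complex.ofReal_intCast, Complex.norm_real, Real.norm_eq_abs]
    rw [this, sq_abs]
  rw [hsu] at hbu
  rw [hsv] at hbv
  have hge : ((R φ).card : ℝ) ≤ ∑ ρ ∈ R φ, (((p ρ : ℝ)) ^ 2 + ((r ρ : ℝ)) ^ 2) := by
    have h1 : ∀ ρ ∈ R φ, (1 : ℝ) ≤ ((p ρ : ℝ)) ^ 2 + ((r ρ : ℝ)) ^ 2 := by
      intro ρ hρ
      exact_mod_cast one_le_sq_add_sq (p ρ) (r ρ) (hpr ρ hρ)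
    calc ((R φ).card : ℝ) = ∑ ρ ∈ R φ, (1 : ℝ) := by simp
      _ ≤ _ := Finset.sum_le_sum h1
  rw [Finset.sum_add_distrib] at hge
  have hpν : ∑ ρ ∈ R φ, ((p ρ : ℝ)) ^ 2 = ν := by linarith
  -- Bessel identity gives the expansion
  have hid := bessel_identity (R φ) id (fun _ => (1 : ℝ)) (fun _ _ => one_ne_zero) horthR'
    hnormR u
  rw [hsu, hpν, huu, sub_self] at hid
  have hzero := classInner_self_eq_zero hid
  have hfinal : u = ∑ ρ ∈ R φ, (classInner u (id ρ) / ((1 : ℝ) : ℂ)) • id ρ :=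
    sub_eq_zero.mp hzero
  rw [hfinal]
  apply Finset.sum_congr rfl
  intro ρ hρ
  rw [← hfinal]
  simp

/-- In a coherence system, the image of `φ ∈ S₁` is orthogonal to `R χ` when `χ` and its
conjugate are orthogonal to `φ`. -/
theorem tau_orth_R {S : Set (L → ℂ)} {τ : (L → ℂ) → (G → ℂ)}
    {R : (L → ℂ) → Finset (G → ℂ)} (hS : IsCoherenceSystem S τ R) {S₁ : Set (L → ℂ)}
    (hS₁ : S₁ ⊆ S) {τ₁ : (L → ℂ) → (G → ℂ)} (hτ₁ : IsLinearIsometryOn (zspan S₁) τ₁)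
    (hτ₁τ : ∀ α ∈ zspanOn S₁ {1}ᶜ, τ₁ α = τ α) {φ : L → ℂ} (hφ : φ ∈ S₁)
    (hφc : conjFun φ ∈ S₁) {χ : L → ℂ} (hχ : χ ∈ S) (h1 : classInner φ χ = 0)
    (h2 : classInner φ (conjFun χ) = 0) {ρ : G → ℂ} (hρ : ρ ∈ R χ) :
    classInner (τ₁ φ) ρ = 0 := by
  rw [tau_mem_span_R hS hS₁ hτ₁ hτ₁τ hφ hφc, classInner_sum_left]
  apply Finset.sum_eq_zero
  intro ρ' hρ'
  rw [classInner_smul_left, hS.disjoint χ hχ φ (hS₁ hφ) h1 h2 ρ' hρ' ρ hρ, mul_zero]

end cohsys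

end Cfsg.Agent.Lib.Helper25
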