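import Mathlib
import Cfsg.Prelude.Def_OddOrderChar
import Cfsg.Agent.Lib.Helper25.CohSys
import Cfsg.Agent.S1516

/-!
# Growing a coherent subset of a coherence system

`coherent_of_subset`: a subset of a coherent set carrying a nonzero degree-zero combination is coherent.
`coherent_of_step`: the maximal-coherent-subset principle built on the extension criterion S1516.
-/

set_option autoImplicit false

namespace Cfsg.Agent.Lib.Helper25

open Cfsg Cfsg.Agent.Lib.Helper26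
open scoped ComplexConjugate

variable {L : Type*} [Group L] [Fintype L] {G : Type*} [Group G] [Fintype G]

theorem coherent_of_subset {S' T : Set (L → ℂ)} {τ : (L → ℂ) → (G → ℂ)} (hsub : S' ⊆ T)
    (hT : IsCoherent T {1}ᶜ τ) (hne : ∃ α ∈ zspanOn S' {1}ᶜ, α ≠ 0) :
    IsCoherent S' {1}ᶜ τ := by
  obtain ⟨-, τ₁, hτ₁, hag⟩ := hT
  have h1 : zspan S' ⊆ zspan T := zspan_mono hsub
  have h2 : zspanOn S' {1}ᶜ ⊆ zspanOn T {1}ᶜ := zspanOn_mono hsub _
  refine ⟨hne, τ₁, ⟨fun a ha b hb => hτ₁.1 a (h1 ha) b (h1 hb), fun a ha k => hτ₁.2.1 a (h1 ha) k,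
    fun a ha b hb => hτ₁.2.2.1 a (h1 ha) b (h1 hb), fun a ha => hτ₁.2.2.2 a (h1 ha)⟩,
    fun α hα => hag α (h2 hα)⟩

/-- In a coherence system, a member minus its conjugate is a nonzero combination vanishing at 1. -/
theorem exists_nonzero_of_mem {S : Set (L → ℂ)} {τ : (L → ℂ) → (G → ℂ)}
    {R : (L → ℂ) → Finset (G → ℂ)} (hS : IsCoherenceSystem S τ R) {S' : Set (L → ℂ)}
    (hS' : S' ⊆ S) (hc : ∀ χ ∈ S', conjFun χ ∈ S') (hne : S'.Nonempty) :
    ∃ α ∈ zspanOn S' {1}ᶜ, α ≠ 0 := by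
  obtain ⟨χ, hχ⟩ := hne
  refine ⟨χ - conjFun χ, ⟨Submodule.sub_mem _ (Submodule.subset_span hχ)
    (Submodule.subset_span (hc χ hχ)), ?_⟩, ?_⟩
  · intro x hx
    have hx1 : x = 1 := by
      by_contra h
      exact hx h
    subst hx1
    obtain ⟨k, hk⟩ := char_degree (hS.isCharacter χ (hS' hχ))
    simp [conjFun, hk]
  · intro h0
    apply hS.conj_ne χ (hS' hχ)
    exact (sub_eq_zero.mp h0).symm

/-- The maximal-coherent-subset principle: if every coherent conjugation-closed `T` between `T₀` and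
`U`, other than `U`, can be enlarged through the criterion of S1516, then `U` is coherent. -/
theorem coherent_of_step {S : Set (L → ℂ)} {τ : (L → ℂ) → (G → ℂ)}
    {R : (L → ℂ) → Finset (G → ℂ)} (hS : IsCoherenceSystem S τ R)
    (d n : (L → ℂ) → ℕ) (hd : ∀ φ ∈ S, φ 1 = (d φ : ℂ))
    (hn : ∀ φ ∈ S, classInner φ φ = (n φ : ℂ))
    (U T₀ : Finset (L → ℂ)) (hU : ↑U ⊆ S) (hUc : ∀ φ ∈ U, conjFun φ ∈ U)
    (hT₀U : T₀ ⊆ U) (hT₀c : ∀ φ ∈ T₀, conjFun φ ∈ T₀)
    (hT₀ : IsCoherent (↑T₀ : Set (L → ℂ)) {1}ᶜ τ)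
    (hstep : ∀ T : Finset (L → ℂ), T₀ ⊆ T → T ⊆ U → (∀ φ ∈ T, conjFun φ ∈ T) →
      IsCoherent (↑T : Set (L → ℂ)) {1}ᶜ τ → T ≠ U →
      ∃ ψ ∈ U, ψ ∉ T ∧ ∃ χ₁ ∈ T, d χ₁ ∣ d ψ ∧
        (2 * d ψ * d χ₁ : ℝ) < ∑ φ ∈ T, ((d φ : ℝ) ^ 2 / (n φ : ℝ))) :
    IsCoherent (↑U : Set (L → ℂ)) {1}ᶜ τ := by
  classical
  let good : Finset (L → ℂ) → Prop := fun T => T₀ ⊆ T ∧ (∀ φ ∈ T, conjFun φ ∈ T) ∧
    IsCoherent (↑T : Set (L → ℂ)) {1}ᶜ τ
  have hne : (U.powerset.filter good).Nonempty :=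
    ⟨T₀, Finset.mem_filter.mpr ⟨Finset.mem_powerset.mpr hT₀U, subset_rfl, hT₀c, hT₀⟩⟩
  obtain ⟨T, hTmem, hTmax⟩ := Finset.exists_max_image (U.powerset.filter good) Finset.card hne
  obtain ⟨hTU, hT₀T, hTc, hTcoh⟩ := Finset.mem_filter.mp hTmem
  have hTU' : T ⊆ U := Finset.mem_powerset.mp hTU
  by_cases hEq : T = U
  · rw [← hEq]
    exact hTcoh
  · exfalso
    obtain ⟨ψ, hψU, hψT, χ₁, hχ₁T, hdvd, hineq⟩ := hstep T hT₀T hTU' hTc hTcoh hEq
    have hψc : conjFun ψ ∉ T := by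
      intro h
      apply hψT
      have := hTc _ h
      rwa [conjFun_conjFun] at this
    have hTS : (↑T : Set (L → ℂ)) ⊆ S := fun φ hφ => hU (Finset.mem_coe.mpr (hTU' (Finset.mem_coe.mp hφ)))
    have hnew := Cfsg.Agent.S1516.result S τ R hS d n hd hn T hTS hTc hTcoh ψ
      (hU (Finset.mem_coe.mpr hψU)) hψT hψc χ₁ hχ₁T hdvd hineq
    set T' : Finset (L → ℂ) := insert ψ (insert (conjFun ψ) T) with hT'
    have hcoe : (↑T' : Set (L → ℂ)) = ↑T ∪ {ψ, conjFun ψ} := by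
      ext φ
      simp only [hT', Finset.coe_insert, Set.mem_insert_iff, Finset.mem_coe, Set.mem_union,
        Set.mem_singleton_iff]
      tauto
    have hT'good : T' ∈ U.powerset.filter good := by
      refine Finset.mem_filter.mpr ⟨Finset.mem_powerset.mpr ?_, ?_, ?_, ?_⟩
      · intro φ hφ
        rcases Finset.mem_insert.mp hφ with rfl | hφ
        · exact hψU
        · rcases Finset.mem_insert.mp hφ with rfl | hφ
          · exact hUc _ hψU
          · exact hTU' hφ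
      · intro φ hφ
        exact Finset.mem_insert_of_mem (Finset.mem_insert_of_mem (hT₀T hφ))
      · intro φ hφ
        rcases Finset.mem_insert.mp hφ with rfl | hφ
        · exact Finset.mem_insert_of_mem (Finset.mem_insert_self _ _)
        · rcases Finset.mem_insert.mp hφ with rfl | hφ
          · rw [conjFun_conjFun]
            exact Finset.mem_insert_self _ _
          · exact Finset.mem_insert_of_mem (Finset.mem_insert_of_mem (hTc _ hφ))
      · rw [hcoe]
        exact hnew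
    have hcard := hTmax T' hT'good
    have hlt : T.card < T'.card := by
      rw [hT', Finset.card_insert_of_notMem, Finset.card_insert_of_notMem hψc]
      · omega
      · intro h
        rcases Finset.mem_insert.mp h with h | h
        · exact hS.conj_ne ψ (hU (Finset.mem_coe.mpr hψU)) h.symm
        · exact hψT h
    omega

end Cfsg.Agent.Lib.Helper25
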