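import Mathlib
import Cfsg.Prelude.Def_Characters

set_option autoImplicit false

namespace Cfsg.Agent.Lib.Helper25

open scoped ComplexConjugate

variable {G : Type*} [Group G]

theorem extendByZero_of_mem (H : Subgroup G) (θ : H → ℂ) {g : G} (hg : g ∈ H) :
    Cfsg.extendByZero H θ g = θ ⟨g, hg⟩ := by
  unfold Cfsg.extendByZero
  exact Subtype.val_injective.extend_apply θ 0 ⟨g, hg⟩

theorem extendByZero_of_not_mem (H : Subgroup G) (θ : H → ℂ) {g : G} (hg : g ∉ H) :
    Cfsg.extendByZero H θ g = 0 := by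
  unfold Cfsg.extendByZero
  rw [Function.extend_apply']
  · rfl
  · rintro ⟨a, rfl⟩
    exact hg a.2

theorem extendByZero_coe (H : Subgroup G) (θ : H → ℂ) (h : H) :
    Cfsg.extendByZero H θ (h : G) = θ h := by
  rw [extendByZero_of_mem H θ h.2]

/-- The induced function is a class function, whatever the function induced. -/
theorem isClassFunction_indFun [Fintype G] (H : Subgroup G) (θ : H → ℂ) :
    Cfsg.IsClassFunction G (Cfsg.indFun H θ) := by
  intro g h
  unfold Cfsg.indFun
  congr 1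
  refine Fintype.sum_equiv (Equiv.mulLeft h⁻¹) _ _ (fun x => ?_)
  congr 1
  simp only [Equiv.coe_mulLeft]
  group

/-- Frobenius reciprocity for `indFun`, in sum form (class function on the left). -/
theorem sum_mul_conj_indFun [Fintype G] (H : Subgroup G) (θ : H → ℂ) (f : G → ℂ)
    (hf : Cfsg.IsClassFunction G f) :
    ∑ g, f g * conj (Cfsg.indFun H θ g) =
      (Nat.card H : ℂ)⁻¹ * (Fintype.card G : ℂ) * ∑ g, f g * conj (Cfsg.extendByZero H θ g) := by
  unfold Cfsg.indFun
  have h1 : ∀ g : G, f g * conj ((Nat.card H : ℂ)⁻¹ * ∑ x : G, Cfsg.extendByZero H θ (x⁻¹ * g * x)) =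
      (Nat.card H : ℂ)⁻¹ * ∑ x : G, f g * conj (Cfsg.extendByZero H θ (x⁻¹ * g * x)) := by
    intro g
    rw [map_mul, map_inv₀, Complex.conj_natCast, map_sum, Finset.mul_sum, Finset.mul_sum,
      Finset.mul_sum]
    refine Finset.sum_congr rfl (fun x _ => ?_)
    ring
  simp_rw [h1]
  rw [← Finset.mul_sum, Finset.sum_comm, mul_assoc]
  congr 1
  have h2 : ∀ x : G, ∑ g : G, f g * conj (Cfsg.extendByZero H θ (x⁻¹ * g * x)) =
      ∑ g : G, f g * conj (Cfsg.extendByZero H θ g) := by
    intro x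
    refine Fintype.sum_equiv (MulAut.conj x⁻¹).toEquiv _ _ (fun g => ?_)
    simp only [MulEquiv.toEquiv_eq_coe, MulEquiv.coe_toEquiv, MulAut.conj_apply, inv_inv]
    have := hf g x⁻¹
    rw [inv_inv] at this
    rw [this]
  simp_rw [h2]
  rw [Finset.sum_const, Finset.card_univ, nsmul_eq_mul]

/-- Frobenius reciprocity for `indFun`, in sum form (class function on the right). -/
theorem sum_indFun_mul_conj [Fintype G] (H : Subgroup G) (θ : H → ℂ) (f : G → ℂ)
    (hf : Cfsg.IsClassFunction G f) :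
    ∑ g, Cfsg.indFun H θ g * conj (f g) =
      (Nat.card H : ℂ)⁻¹ * (Fintype.card G : ℂ) * ∑ g, Cfsg.extendByZero H θ g * conj (f g) := by
  unfold Cfsg.indFun
  have h1 : ∀ g : G, ((Nat.card H : ℂ)⁻¹ * ∑ x : G, Cfsg.extendByZero H θ (x⁻¹ * g * x)) * conj (f g) =
      (Nat.card H : ℂ)⁻¹ * ∑ x : G, Cfsg.extendByZero H θ (x⁻¹ * g * x) * conj (f g) := by
    intro g
    rw [mul_assoc, Finset.sum_mul]
  simp_rw [h1]
  rw [← Finset.mul_sum, Finset.sum_comm, mul_assoc]
  congr 1
  have h2 : ∀ x : G, ∑ g : G, Cfsg.extendByZero H θ (x⁻¹ * g * x) * conj (f g) =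
      ∑ g : G, Cfsg.extendByZero H θ g * conj (f g) := by
    intro x
    refine Fintype.sum_equiv (MulAut.conj x⁻¹).toEquiv _ _ (fun g => ?_)
    simp only [MulEquiv.toEquiv_eq_coe, MulEquiv.coe_toEquiv, MulAut.conj_apply, inv_inv]
    have := hf g x⁻¹
    rw [inv_inv] at this
    rw [this]
  simp_rw [h2]
  rw [Finset.sum_const, Finset.card_univ, nsmul_eq_mul]

theorem card_ne_zero_complex [Fintype G] : (Fintype.card G : ℂ) ≠ 0 :=
  Nat.cast_ne_zero.mpr Fintype.card_ne_zero

/-- Frobenius reciprocity for `classInner` (class function on the left). -/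
theorem classInner_indFun_right [Fintype G] (H : Subgroup G) (θ : H → ℂ) (f : G → ℂ)
    (hf : Cfsg.IsClassFunction G f) :
    Cfsg.classInner f (Cfsg.indFun H θ) =
      (Nat.card H : ℂ)⁻¹ * ∑ g, f g * conj (Cfsg.extendByZero H θ g) := by
  unfold Cfsg.classInner
  rw [sum_mul_conj_indFun H θ f hf, Nat.card_eq_fintype_card]
  have := card_ne_zero_complex (G := G)
  field_simp

/-- Frobenius reciprocity for `classInner` (class function on the right). -/
theorem classInner_indFun_left [Fintype G] (H : Subgroup G) (θ : H → ℂ) (f : G → ℂ)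
    (hf : Cfsg.IsClassFunction G f) :
    Cfsg.classInner (Cfsg.indFun H θ) f =
      (Nat.card H : ℂ)⁻¹ * ∑ g, Cfsg.extendByZero H θ g * conj (f g) := by
  unfold Cfsg.classInner
  rw [sum_indFun_mul_conj H θ f hf, Nat.card_eq_fintype_card]
  have := card_ne_zero_complex (G := G)
  field_simp

end Cfsg.Agent.Lib.Helper25
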