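import Mathlib
import Cfsg.Prelude.Def_Characters
import Cfsg.Agent.Lib.Helper25.IndFun

set_option autoImplicit false

namespace Cfsg.Agent.Lib.Helper25

open scoped ComplexConjugate

/-- Composing an irreducible representation with a surjective homomorphism keeps it irreducible. -/
theorem isIrreducible_comp {k G G' V : Type*} [Field k] [Monoid G] [Monoid G'] [AddCommGroup V]
    [Module k V] (ρ : Representation k G V) [h : ρ.IsIrreducible] (f : G' →* G)
    (hf : Function.Surjective f) : Representation.IsIrreducible (ρ.comp f) := by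
  let e : Subrepresentation (ρ.comp f) ≃o Subrepresentation ρ :=
    { toFun := fun σ => ⟨σ.toSubmodule, fun g v hv => by
        obtain ⟨g', rfl⟩ := hf g
        exact σ.apply_mem_toSubmodule g' hv⟩
      invFun := fun τ => ⟨τ.toSubmodule, fun g' v hv => τ.apply_mem_toSubmodule (f g') hv⟩
      left_inv := fun σ => rfl
      right_inv := fun τ => rfl
      map_rel_iff' := Iff.rfl }
  exact (OrderIso.isSimpleOrder_iff e).mpr h

/-- Composing an irreducible character with a group isomorphism gives an irreducible character. -/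
theorem isIrrCharacter_comp_mulEquiv {H H' : Type*} [Group H] [Group H'] (α : H' ≃* H)
    {θ : H → ℂ} (hθ : Cfsg.IsIrrCharacter H θ) : Cfsg.IsIrrCharacter H' (fun h => θ (α h)) := by
  obtain ⟨n, ρ, hρ, rfl⟩ := hθ
  exact ⟨n, ρ.comp α.toMonoidHom, isIrreducible_comp ρ α.toMonoidHom α.surjective, rfl⟩

/-- Composing a character with a group homomorphism gives a character. -/
theorem isCharacter_comp_monoidHom {H H' : Type*} [Group H] [Group H'] (α : H' →* H)
    {θ : H → ℂ} (hθ : Cfsg.IsCharacter H θ) : Cfsg.IsCharacter H' (fun h => θ (α h)) := by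
  obtain ⟨n, ρ, rfl⟩ := hθ
  exact ⟨n, ρ.comp α, rfl⟩

/-- The conjugate of an irreducible character of a normal subgroup is irreducible. -/
theorem isIrrCharacter_conj_normal {G : Type*} [Group G] (H : Subgroup G) [hN : H.Normal]
    {θ : H → ℂ} (hθ : Cfsg.IsIrrCharacter H θ) (g : G) :
    Cfsg.IsIrrCharacter H (fun h : H => θ ⟨g * h * g⁻¹, hN.conj_mem h h.2 g⟩) :=
  isIrrCharacter_comp_mulEquiv (MulAut.conjNormal g : H ≃* H) hθ

/-- A sum over the group against an extension by zero is a sum over the subgroup. -/
theorem sum_extendByZero_mul {G : Type*} [Group G] [Fintype G] (H : Subgroup G) [Fintype H]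
    (θ : H → ℂ) (F : G → ℂ) :
    ∑ g : G, Cfsg.extendByZero H θ g * F g = ∑ h : H, θ h * F h := by
  classical
  have h1 : ∑ g : G, Cfsg.extendByZero H θ g * F g =
      ∑ g ∈ Finset.univ.filter (fun g : G => g ∈ H), Cfsg.extendByZero H θ g * F g := by
    symm
    apply Finset.sum_subset (Finset.filter_subset _ _)
    intro g _ hg
    have : g ∉ H := fun h => hg (Finset.mem_filter.mpr ⟨Finset.mem_univ _, h⟩)
    rw [extendByZero_of_not_mem H θ this, zero_mul]
  rw [h1, Finset.sum_subtype (p := fun g : G => g ∈ H) _ (fun x => by simp)]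
  refine Finset.sum_congr rfl (fun h _ => ?_)
  rw [extendByZero_coe]

end Cfsg.Agent.Lib.Helper25
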