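import Mathlib
import Cfsg.Prelude.Def_Characters
import Cfsg.Agent.Lib.Helper25.IrrComp

set_option autoImplicit false

namespace Cfsg.Agent.Lib.Helper25

open scoped ComplexConjugate

theorem conj_extendByZero {G : Type*} [Group G] (H : Subgroup G) (θ : H → ℂ) (g : G) :
    conj (Cfsg.extendByZero H θ g) = Cfsg.extendByZero H (fun h => conj (θ h)) g := by
  by_cases hg : g ∈ H
  · rw [extendByZero_of_mem H θ hg, extendByZero_of_mem H _ hg]
  · rw [extendByZero_of_not_mem H θ hg, extendByZero_of_not_mem H _ hg, map_zero]

/-- A sum over the group against the conjugate of an extension by zero is a sum over the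
subgroup. -/
theorem sum_mul_conj_extendByZero {G : Type*} [Group G] [Fintype G] (H : Subgroup G) [Fintype H]
    (θ : H → ℂ) (F : G → ℂ) :
    ∑ g : G, F g * conj (Cfsg.extendByZero H θ g) = ∑ h : H, F h * conj (θ h) := by
  simp_rw [conj_extendByZero, mul_comm (F _)]
  rw [sum_extendByZero_mul]

end Cfsg.Agent.Lib.Helper25
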