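import Mathlib
import Cfsg.Prelude.Def_Characters
import Cfsg.Prelude.Def_Blocks
import Cfsg.Prelude.Def_OddOrderChar
import Cfsg.Agent.Lib.Helper25.IrrComp
import Cfsg.Agent.Lib.Helper25.IndFun
import Cfsg.Agent.Lib.Helper80.Orthogonality
import Cfsg.Agent.Lib.Helper80.CharKer
import Cfsg.Agent.Lib.Helper26.CharBase

/-!
# Norms and fibres of characters induced from a normal subgroup

For `K` normal in `L` and irreducible characters `φ θ` of `K`:
the inner product of the induced functions counts the `x` with `φ = θ^x`,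
the fibre of `θ ↦ Ind θ` is the orbit, and a lower bound for the sum of
`φ(1)^2 / ‖φ‖^2` over a set of induced characters.
-/

set_option autoImplicit false

namespace Cfsg.Agent.Lib.Helper25

open scoped ComplexConjugate
open Cfsg.Agent.Lib.Helper80

variable {L : Type*} [Group L] [Fintype L] (K : Subgroup L) [hK : K.Normal]

/-- The conjugate by `x` of a function on a normal subgroup. -/
def cj (θ : K → ℂ) (x : L) : K → ℂ := fun h => θ ⟨x * h * x⁻¹, hK.conj_mem h h.2 x⟩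

theorem cj_irr {θ : K → ℂ} (hθ : Cfsg.IsIrrCharacter K θ) (x : L) :
    Cfsg.IsIrrCharacter K (cj K θ x) :=
  isIrrCharacter_conj_normal K hθ x

theorem cj_one (θ : K → ℂ) : cj K θ 1 = θ := by
  funext h
  unfold cj
  congr 1
  apply Subtype.ext
  simp

theorem cj_apply_one (θ : K → ℂ) (x : L) : cj K θ x 1 = θ 1 := by
  unfold cj
  congr 1
  apply Subtype.ext
  simp

theorem indFun_cj (θ : K → ℂ) (x : L) : Cfsg.indFun K (cj K θ x) = Cfsg.indFun K θ := by
  classical
  have hext : ∀ z : L, Cfsg.extendByZero K (cj K θ x) z = Cfsg.extendByZero K θ (x * z * x⁻¹) := by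
    intro z
    by_cases hz : z ∈ K
    · rw [extendByZero_of_mem K _ hz, extendByZero_of_mem K θ (hK.conj_mem z hz x)]
      rfl
    · have hz' : x * z * x⁻¹ ∉ K := by
        intro h
        apply hz
        have := hK.conj_mem _ h x⁻¹
        simpa [mul_assoc] using this
      rw [extendByZero_of_not_mem K _ hz, extendByZero_of_not_mem K θ hz']
  funext y
  unfold Cfsg.indFun
  congr 1
  refine Fintype.sum_equiv (Equiv.mulRight x⁻¹) _ _ (fun w => ?_)
  rw [hext]
  congr 1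
  simp only [Equiv.coe_mulRight, mul_inv_rev, inv_inv]
  group

theorem indFun_apply_one (θ : K → ℂ) : Cfsg.indFun K θ 1 = (K.index : ℂ) * θ 1 := by
  classical
  have h1 : ∀ x : L, Cfsg.extendByZero K θ (x⁻¹ * 1 * x) = θ 1 := by
    intro x
    have : x⁻¹ * 1 * x = ((1 : K) : L) := by simp
    rw [this, extendByZero_coe]
  unfold Cfsg.indFun
  simp only [h1, Finset.sum_const, Finset.card_univ, nsmul_eq_mul]
  have hc : (Nat.card K : ℂ) ≠ 0 := Nat.cast_ne_zero.mpr Nat.card_pos.ne'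
  have h2 : (Fintype.card L : ℂ) = (K.index : ℂ) * (Nat.card K : ℂ) := by
    rw [← Nat.card_eq_fintype_card, ← Subgroup.index_mul_card K]
    push_cast
    ring
  rw [h2]
  field_simp

theorem indFun_apply_coe (θ : K → ℂ) (h : K) :
    Cfsg.indFun K θ (h : L) = (Nat.card K : ℂ)⁻¹ * ∑ x : L, cj K θ x h := by
  unfold Cfsg.indFun
  congr 1
  refine Fintype.sum_equiv (Equiv.inv L) _ _ (fun x => ?_)
  have hx : x⁻¹ * (h : L) * x ∈ K := by
    have := hK.conj_mem h h.2 x⁻¹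
    rwa [inv_inv] at this
  rw [extendByZero_of_mem K θ hx]
  simp only [cj, Equiv.inv_apply]
  congr 1
  apply Subtype.ext
  simp

/-- Inner product of two functions induced from irreducible characters of a normal subgroup. -/
theorem classInner_indFun_indFun {φ θ : K → ℂ} (hφ : Cfsg.IsIrrCharacter K φ)
    (hθ : Cfsg.IsIrrCharacter K θ) :
    Cfsg.classInner (Cfsg.indFun K φ) (Cfsg.indFun K θ) =
      (Nat.card K : ℂ)⁻¹ * (Nat.card {x : L // φ = cj K θ x} : ℂ) := by
  classical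
  letI : Fintype K := Fintype.ofFinite K
  rw [classInner_indFun_left K φ (Cfsg.indFun K θ) (isClassFunction_indFun K θ),
    sum_extendByZero_mul]
  have hcard : (Nat.card K : ℂ) ≠ 0 := Nat.cast_ne_zero.mpr Nat.card_pos.ne'
  have horth : ∀ x : L, ∑ h : K, φ h * conj (cj K θ x h) =
      if φ = cj K θ x then (Nat.card K : ℂ) else 0 := by
    intro x
    have h1 := classInner_irr_fun hφ (cj_irr K hθ x)
    unfold Cfsg.classInner at h1
    split_ifs with hx
    · rw [if_pos hx] at h1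
      field_simp at h1
      rw [h1]
    · rw [if_neg hx] at h1
      exact (mul_eq_zero.mp h1).resolve_left (inv_ne_zero hcard)
  have h2 : ∑ h : K, φ h * conj (Cfsg.indFun K θ h) =
      (Nat.card K : ℂ)⁻¹ * ∑ x : L, ∑ h : K, φ h * conj (cj K θ x h) := by
    rw [Finset.sum_comm, Finset.mul_sum]
    refine Finset.sum_congr rfl (fun h _ => ?_)
    rw [indFun_apply_coe K θ h, map_mul, map_inv₀, Complex.conj_natCast, map_sum, Finset.mul_sum,
      Finset.mul_sum, Finset.mul_sum]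
    refine Finset.sum_congr rfl (fun x _ => ?_)
    ring
  rw [h2]
  simp only [horth]
  rw [Finset.sum_ite, Finset.sum_const, Finset.sum_const_zero, add_zero, nsmul_eq_mul,
    Nat.card_eq_fintype_card (α := {x : L // φ = cj K θ x}), Fintype.card_subtype]
  field_simp

theorem stab_pos (θ : K → ℂ) : 0 < Nat.card {x : L // θ = cj K θ x} := by
  haveI : Nonempty {x : L // θ = cj K θ x} := ⟨⟨1, (cj_one K θ).symm⟩⟩
  exact Nat.card_pos

/-- If two irreducible characters of `K` induce the same function, they are conjugate. -/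
theorem exists_cj_of_indFun_eq {φ θ : K → ℂ} (hφ : Cfsg.IsIrrCharacter K φ)
    (hθ : Cfsg.IsIrrCharacter K θ) (h : Cfsg.indFun K φ = Cfsg.indFun K θ) :
    ∃ x : L, φ = cj K θ x := by
  by_contra hne
  have h0 : Nat.card {x : L // φ = cj K θ x} = 0 := by
    haveI : IsEmpty {x : L // φ = cj K θ x} := ⟨fun x => hne ⟨x.1, x.2⟩⟩
    exact Nat.card_of_isEmpty
  have h1 := classInner_indFun_indFun K hφ hθ
  have h2 := classInner_indFun_indFun K hθ hθ
  rw [h0, Nat.cast_zero, mul_zero, h] at h1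
  rw [h1] at h2
  have hcard : (Nat.card K : ℂ) ≠ 0 := Nat.cast_ne_zero.mpr Nat.card_pos.ne'
  have h3 : (Nat.card {x : L // θ = cj K θ x} : ℂ) = 0 := by
    rcases mul_eq_zero.mp h2.symm with h4 | h4
    · exact absurd h4 (inv_ne_zero hcard)
    · exact h4
  have := stab_pos K θ
  have h5 : Nat.card {x : L // θ = cj K θ x} = 0 := by exact_mod_cast h3
  omega

/-- Members of a fibre of `θ ↦ Ind θ` are hit equally often by conjugation. -/
theorem card_cj_eq {φ θ : K → ℂ} (hφ : Cfsg.IsIrrCharacter K φ)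
    (hθ : Cfsg.IsIrrCharacter K θ) (h : Cfsg.indFun K φ = Cfsg.indFun K θ) :
    Nat.card {x : L // φ = cj K θ x} = Nat.card {x : L // θ = cj K θ x} := by
  have h1 := classInner_indFun_indFun K hφ hθ
  have h2 := classInner_indFun_indFun K hθ hθ
  rw [h] at h1
  rw [h1] at h2
  have hcard : (Nat.card K : ℂ)⁻¹ ≠ 0 := inv_ne_zero (Nat.cast_ne_zero.mpr Nat.card_pos.ne')
  have h3 := mul_left_cancel₀ hcard h2
  exact_mod_cast h3

/-- Orbit-stabiliser for the fibre of `θ ↦ Ind θ`. -/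
theorem card_fiber_mul (θ₀ : Cfsg.IrrCharacter K) :
    Nat.card {θ : Cfsg.IrrCharacter K // Cfsg.indFun K (θ : K → ℂ) = Cfsg.indFun K (θ₀ : K → ℂ)} *
      Nat.card {x : L // (θ₀ : K → ℂ) = cj K (θ₀ : K → ℂ) x} = Nat.card L := by
  classical
  haveI : Finite (Cfsg.IrrCharacter K) := Cfsg.Agent.Lib.Helper26.irr_finite
  letI : Fintype {θ : Cfsg.IrrCharacter K // Cfsg.indFun K (θ : K → ℂ) = Cfsg.indFun K (θ₀ : K → ℂ)} :=
    Fintype.ofFinite _
  let e : L ≃ Σ θ : {θ : Cfsg.IrrCharacter K // Cfsg.indFun K (θ : K → ℂ) = Cfsg.indFun K (θ₀ : K → ℂ)},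
      {x : L // ((θ : Cfsg.IrrCharacter K) : K → ℂ) = cj K (θ₀ : K → ℂ) x} :=
    { toFun := fun x => ⟨⟨⟨cj K (θ₀ : K → ℂ) x, cj_irr K θ₀.2 x⟩, indFun_cj K _ x⟩, ⟨x, rfl⟩⟩
      invFun := fun p => p.2.1
      left_inv := fun x => rfl
      right_inv := by
        rintro ⟨⟨⟨θ, hθ⟩, hθ'⟩, ⟨x, hx⟩⟩
        simp only at hx
        subst hx
        rfl }
  rw [Nat.card_congr e, Nat.card_sigma]
  have hconst : ∀ θ : {θ : Cfsg.IrrCharacter K // Cfsg.indFun K (θ : K → ℂ) = Cfsg.indFun K (θ₀ : K → ℂ)},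
      Nat.card {x : L // ((θ : Cfsg.IrrCharacter K) : K → ℂ) = cj K (θ₀ : K → ℂ) x} =
        Nat.card {x : L // (θ₀ : K → ℂ) = cj K (θ₀ : K → ℂ) x} :=
    fun θ => card_cj_eq K θ.1.2 θ₀.2 θ.2
  simp only [hconst, Finset.sum_const, Finset.card_univ, smul_eq_mul]
  rw [Nat.card_eq_fintype_card]

/-- Lower bound for the sum of `φ(1)^2 / ‖φ‖^2` over a finite set containing the characters
induced from an `L`-stable set of irreducible characters of `K`. -/
theorem sum_sq_div_norm_ge [Fintype (Cfsg.IrrCharacter K)] (P : Cfsg.IrrCharacter K → Prop)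
    [DecidablePred P]
    (hP : ∀ θ : Cfsg.IrrCharacter K, P θ → ∀ x : L, P ⟨cj K (θ : K → ℂ) x, cj_irr K θ.2 x⟩)
    (T : Finset (L → ℂ)) (hT : ∀ θ : Cfsg.IrrCharacter K, P θ → Cfsg.indFun K (θ : K → ℂ) ∈ T)
    (d n : (L → ℂ) → ℕ) (hd : ∀ φ ∈ T, φ 1 = (d φ : ℂ))
    (hn : ∀ φ ∈ T, Cfsg.classInner φ φ = (n φ : ℂ)) :
    (K.index : ℝ) * ∑ θ ∈ Finset.univ.filter P, (Cfsg.charDegree (θ : K → ℂ) : ℝ) ^ 2 ≤
      ∑ φ ∈ T, (d φ : ℝ) ^ 2 / (n φ : ℝ) := by
  classical
  set U : Finset (Cfsg.IrrCharacter K) := Finset.univ.filter P with hU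
  set f : Cfsg.IrrCharacter K → (L → ℂ) := fun θ => Cfsg.indFun K (θ : K → ℂ) with hf
  have hsub : U.image f ⊆ T := by
    intro φ hφ
    obtain ⟨θ, hθ, rfl⟩ := Finset.mem_image.mp hφ
    exact hT θ (Finset.mem_filter.mp hθ).2
  have hnonneg : ∀ φ ∈ T, 0 ≤ (d φ : ℝ) ^ 2 / (n φ : ℝ) := fun φ _ => by positivity
  have hindex : 0 < K.index := Nat.pos_of_ne_zero (Subgroup.index_ne_zero_of_finite)
  have hKpos : 0 < Nat.card K := Nat.card_pos
  have key : ∀ φ ∈ U.image f,
      ∑ θ ∈ U.filter (fun θ => f θ = φ), (K.index : ℝ) * (Cfsg.charDegree (θ : K → ℂ) : ℝ) ^ 2 =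
        (d φ : ℝ) ^ 2 / (n φ : ℝ) := by
    intro φ hφ
    obtain ⟨θ₀, hθ₀, rfl⟩ := Finset.mem_image.mp hφ
    have hPθ₀ : P θ₀ := (Finset.mem_filter.mp hθ₀).2
    have hmemT : f θ₀ ∈ T := hT θ₀ hPθ₀
    -- the fibre
    have hfib : U.filter (fun θ => f θ = f θ₀) = Finset.univ.filter (fun θ => f θ = f θ₀) := by
      ext θ
      simp only [Finset.mem_filter, Finset.mem_univ, true_and, hU]
      constructor
      · exact fun h => h.2
      · intro h
        refine ⟨?_, h⟩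
        obtain ⟨x, hx⟩ := exists_cj_of_indFun_eq K θ.2 θ₀.2 h
        have : θ = ⟨cj K (θ₀ : K → ℂ) x, cj_irr K θ₀.2 x⟩ := Subtype.ext hx
        rw [this]
        exact hP θ₀ hPθ₀ x
    have hdeg : ∀ θ ∈ Finset.univ.filter (fun θ : Cfsg.IrrCharacter K => f θ = f θ₀),
        (K.index : ℝ) * (Cfsg.charDegree (θ : K → ℂ) : ℝ) ^ 2 =
          (K.index : ℝ) * (Cfsg.charDegree (θ₀ : K → ℂ) : ℝ) ^ 2 := by
      intro θ hθ
      have h1 : f θ = f θ₀ := (Finset.mem_filter.mp hθ).2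
      have h2 : f θ 1 = f θ₀ 1 := by rw [h1]
      simp only [hf] at h2
      rw [indFun_apply_one, indFun_apply_one] at h2
      have h3 : (θ : K → ℂ) 1 = (θ₀ : K → ℂ) 1 :=
        mul_left_cancel₀ (Nat.cast_ne_zero.mpr hindex.ne') h2
      unfold Cfsg.charDegree
      rw [h3]
    rw [hfib, Finset.sum_congr rfl hdeg, Finset.sum_const, nsmul_eq_mul]
    set F : ℕ := (Finset.univ.filter (fun θ : Cfsg.IrrCharacter K => f θ = f θ₀)).card with hF
    set N₀ : ℕ := Nat.card {x : L // (θ₀ : K → ℂ) = cj K (θ₀ : K → ℂ) x} with hN₀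
    have hFN : F * N₀ = Nat.card L := by
      have := card_fiber_mul K θ₀
      rw [Nat.card_eq_fintype_card (α := {θ : Cfsg.IrrCharacter K //
        Cfsg.indFun K (θ : K → ℂ) = Cfsg.indFun K (θ₀ : K → ℂ)}), Fintype.card_subtype] at this
      exact this
    have hnφ : n (f θ₀) * Nat.card K = N₀ := by
      have h1 := hn (f θ₀) hmemT
      simp only [hf] at h1
      rw [classInner_indFun_indFun K θ₀.2 θ₀.2] at h1
      have hc : (Nat.card K : ℂ) ≠ 0 := Nat.cast_ne_zero.mpr hKpos.ne'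
      have h2 : (N₀ : ℂ) = (n (f θ₀) : ℂ) * (Nat.card K : ℂ) := by
        simp only [hf]
        rw [← h1, mul_comm, ← mul_assoc, mul_inv_cancel₀ hc, one_mul]
      exact_mod_cast h2.symm
    have hdφ : d (f θ₀) = K.index * Cfsg.charDegree (θ₀ : K → ℂ) := by
      have h1 := hd (f θ₀) hmemT
      simp only [hf] at h1
      rw [indFun_apply_one, char_one_eq_charDegree (isCharacter_of_isIrrCharacter θ₀.2)] at h1
      exact_mod_cast h1.symm
    have hL : Nat.card L = K.index * Nat.card K := (Subgroup.index_mul_card K).symm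
    have hFn : F * n (f θ₀) = K.index := by
      have h1 : F * n (f θ₀) * Nat.card K = K.index * Nat.card K := by
        rw [mul_assoc, hnφ, hFN, hL]
      exact Nat.eq_of_mul_eq_mul_right hKpos h1
    have hn0 : 0 < n (f θ₀) := by
      rcases Nat.eq_zero_or_pos (n (f θ₀)) with h0 | h0
      · rw [h0, mul_zero] at hFn
        omega
      · exact h0
    have hn0' : (n (f θ₀) : ℝ) ≠ 0 := Nat.cast_ne_zero.mpr hn0.ne'
    rw [hdφ, ← hFn]
    push_cast
    field_simp
  calc (K.index : ℝ) * ∑ θ ∈ U, (Cfsg.charDegree (θ : K → ℂ) : ℝ) ^ 2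
      = ∑ θ ∈ U, (K.index : ℝ) * (Cfsg.charDegree (θ : K → ℂ) : ℝ) ^ 2 := Finset.mul_sum _ _ _
    _ = ∑ φ ∈ U.image f, ∑ θ ∈ U.filter (fun θ => f θ = φ),
          (K.index : ℝ) * (Cfsg.charDegree (θ : K → ℂ) : ℝ) ^ 2 :=
        (Finset.sum_fiberwise_of_maps_to (fun θ hθ => Finset.mem_image_of_mem f hθ) _).symm
    _ = ∑ φ ∈ U.image f, (d φ : ℝ) ^ 2 / (n φ : ℝ) := Finset.sum_congr rfl key
    _ ≤ ∑ φ ∈ T, (d φ : ℝ) ^ 2 / (n φ : ℝ) :=
        Finset.sum_le_sum_of_subset_of_nonneg hsub (fun φ hφ _ => hnonneg φ hφ)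

end Cfsg.Agent.Lib.Helper25
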