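import Mathlib
import Cfsg.Prelude.Def_OddOrderChar
import Cfsg.Agent.Lib.Helper25.IndNorm
import Cfsg.Agent.Lib.Helper25.IndFun2
import Cfsg.Agent.Lib.Helper25.Annih
import Cfsg.Agent.Lib.Helper74.CharOps
import Cfsg.Agent.Lib.Helper80.Codegree
import Cfsg.Agent.Lib.Helper80.PrimeCodeg

/-!
# The sets `inducedIrrAbove K A`

Basic facts: finiteness, closure under conjugation, existence of a member induced from a linear
character (for solvable `K`), and the lower bound `[L:K]([K:A] - 1)` for the weighted degree sum.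
-/

set_option autoImplicit false

namespace Cfsg.Agent.Lib.Helper25

open Cfsg Cfsg.Agent.Lib.Helper80
open scoped ComplexConjugate

variable {L : Type*} [Group L] [Fintype L] (K : Subgroup L) [hK : K.Normal]

omit [Fintype L] hK in
theorem above_anti {X Y : Subgroup L} (h : X ≤ Y) [Fintype L] :
    inducedIrrAbove K Y ⊆ inducedIrrAbove K X := by
  rintro φ ⟨θ, hθ, hne, hker, rfl⟩
  exact ⟨θ, hθ, hne, fun a ha => hker a (h ha), rfl⟩

omit hK in
theorem above_subset_bot (X : Subgroup L) : inducedIrrAbove K X ⊆ inducedIrrAbove K ⊥ :=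
  above_anti K bot_le

omit hK in
theorem above_finite (X : Subgroup L) : (inducedIrrAbove K X).Finite := by
  haveI : Finite (Cfsg.IrrCharacter K) := Cfsg.Agent.Lib.Helper26.irr_finite
  refine Set.Finite.subset (Set.finite_range (fun θ : Cfsg.IrrCharacter K => indFun K (θ : K → ℂ))) ?_
  rintro φ ⟨θ, hθ, -, -, rfl⟩
  exact ⟨⟨θ, hθ⟩, rfl⟩

omit hK in
theorem conjFun_indFun (θ : K → ℂ) : conjFun (indFun K θ) = indFun K (conjFun θ) := by
  funext g
  unfold conjFun indFun
  rw [map_mul, map_inv₀, Complex.conj_natCast, map_sum]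
  congr 1
  refine Finset.sum_congr rfl (fun x _ => ?_)
  exact conj_extendByZero K θ _

omit hK in
theorem conj_mem_above (X : Subgroup L) {φ : L → ℂ} (h : φ ∈ inducedIrrAbove K X) :
    conjFun φ ∈ inducedIrrAbove K X := by
  obtain ⟨θ, hθ, hne, hker, rfl⟩ := h
  refine ⟨conjFun θ, Cfsg.Agent.Lib.Helper74.isIrrCharacter_conj hθ, ?_, ?_, conjFun_indFun K θ⟩
  · intro h1
    apply hne
    funext k
    have := congrFun h1 k
    simp only [conjFun] at this
    have h2 := congrArg (starRingEnd ℂ) this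
    simpa using h2
  · intro a ha
    simp only [conjFun]
    rw [hker a ha]

/-- A solvable `K` has a nonprincipal linear character trivial on a given proper subgroup normal in `L`. -/
theorem exists_linear_above (hsolv : Group.IsSolvable K) (X : Subgroup L) [X.Normal] (hX : X < K) :
    ∃ θ : K → ℂ, IsIrrCharacter K θ ∧ θ ≠ (fun _ => 1) ∧ θ 1 = 1 ∧
      ∀ a : K, (a : L) ∈ X → θ a = θ 1 := by
  classical
  haveI := hsolv
  obtain ⟨k, hkK, hkX⟩ := SetLike.exists_of_lt hX
  set X' : Subgroup K := X.subgroupOf K with hX'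
  haveI : X'.Normal := Subgroup.normal_subgroupOf
  have hq : (QuotientGroup.mk' X' ⟨k, hkK⟩ : K ⧸ X') ≠ 1 := by
    intro h
    rw [QuotientGroup.mk'_apply, QuotientGroup.eq_one_iff] at h
    exact hkX (Subgroup.mem_subgroupOf.mp h)
  haveI : Nontrivial (K ⧸ X') := ⟨⟨_, 1, hq⟩⟩
  obtain ⟨y, -, hy⟩ := SetLike.exists_of_lt (Group.IsSolvable.commutator_lt_top_of_nontrivial (K ⧸ X'))
  have hy' : (Abelianization.of y : Abelianization (K ⧸ X')) ≠ 1 := by
    intro h
    apply hy
    exact (QuotientGroup.eq_one_iff y).mp h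
  have hcomm : ∀ a b : Abelianization (K ⧸ X'), a * b = b * a := fun a b => mul_comm a b
  obtain ⟨φ, hφ⟩ := exists_linChar_ne_one hcomm hy'
  set ω : K →* ℂˣ := φ.comp (Abelianization.of.comp (QuotientGroup.mk' X')) with hω
  obtain ⟨k₀, hk₀⟩ := QuotientGroup.mk'_surjective X' y
  refine ⟨fun a => ((ω a : ℂˣ) : ℂ), isIrrCharacter_of_hom ω, ?_, by simp, ?_⟩
  · intro h
    have h1 := congrFun h k₀
    simp only [hω, MonoidHom.comp_apply, hk₀] at h1
    apply hφ
    exact Units.ext h1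
  · intro a ha
    have h1 : (QuotientGroup.mk' X' a : K ⧸ X') = 1 := by
      rw [QuotientGroup.mk'_apply, QuotientGroup.eq_one_iff]
      exact Subgroup.mem_subgroupOf.mpr ha
    simp only [hω, MonoidHom.comp_apply, h1, map_one]

theorem above_nonempty (hsolv : Group.IsSolvable K) (X : Subgroup L) [X.Normal] (hX : X < K) :
    (inducedIrrAbove K X).Nonempty := by
  obtain ⟨θ, hθ, hne, -, hker⟩ := exists_linear_above K hsolv X hX
  exact ⟨indFun K θ, θ, hθ, hne, hker, rfl⟩

/-- The weighted degree sum over a finite set containing `S(A)` is at least `[L:K]([K:A] - 1)`. -/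
theorem sum_above_ge (A : Subgroup L) [hA : A.Normal] (T : Finset (L → ℂ))
    (hT : ∀ φ ∈ inducedIrrAbove K A, φ ∈ T) (d n : (L → ℂ) → ℕ)
    (hd : ∀ φ ∈ T, φ 1 = (d φ : ℂ)) (hn : ∀ φ ∈ T, classInner φ φ = (n φ : ℂ)) :
    (K.index : ℝ) * ((A.relIndex K : ℝ) - 1) ≤ ∑ φ ∈ T, (d φ : ℝ) ^ 2 / (n φ : ℝ) := by
  classical
  haveI : Finite (Cfsg.IrrCharacter K) := Cfsg.Agent.Lib.Helper26.irr_finite
  letI : Fintype (Cfsg.IrrCharacter K) := Fintype.ofFinite _
  set M : Subgroup K := A.subgroupOf K with hM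
  haveI : M.Normal := Subgroup.normal_subgroupOf
  set P : Cfsg.IrrCharacter K → Prop := fun θ => (θ : K → ℂ) ≠ (fun _ => 1) ∧
    ∀ a : K, (a : L) ∈ A → (θ : K → ℂ) a = (θ : K → ℂ) 1 with hPdef
  have hP : ∀ θ : Cfsg.IrrCharacter K, P θ → ∀ x : L, P ⟨cj K (θ : K → ℂ) x, cj_irr K θ.2 x⟩ := by
    rintro θ ⟨hne, hker⟩ x
    refine ⟨?_, ?_⟩
    · intro h
      apply hne
      funext a
      have hmem : x⁻¹ * (a : L) * x ∈ K := by
        have := hK.conj_mem a a.2 x⁻¹
        rwa [inv_inv] at this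
      have h1 := congrFun h ⟨x⁻¹ * (a : L) * x, hmem⟩
      simp only [cj] at h1
      rw [← h1]
      have e1 : a = ⟨x * (x⁻¹ * (a : L) * x) * x⁻¹, hK.conj_mem _ hmem x⟩ := by
        apply Subtype.ext
        simp [mul_assoc]
      exact congrArg (θ : K → ℂ) e1
    · intro a ha
      show cj K (θ : K → ℂ) x a = cj K (θ : K → ℂ) x 1
      rw [cj_apply_one]
      exact hker ⟨x * (a : L) * x⁻¹, hK.conj_mem a a.2 x⟩ (hA.conj_mem a ha x)
  have hTP : ∀ θ : Cfsg.IrrCharacter K, P θ → indFun K (θ : K → ℂ) ∈ T := by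
    rintro θ ⟨hne, hker⟩
    exact hT _ ⟨θ, θ.2, hne, hker, rfl⟩
  have h1 := sum_sq_div_norm_ge K P hP T hTP d n hd hn
  refine le_trans ?_ h1
  have h2 := sum_charDegree_sq_filter_ker (G := K) M
  have hfil : Finset.univ.filter (fun χ : Cfsg.IrrCharacter K =>
      ∀ x ∈ M, (χ : K → ℂ) x = (χ : K → ℂ) 1) = insert (trivIrr K) (Finset.univ.filter P) := by
    ext χ
    simp only [Finset.mem_filter, Finset.mem_univ, true_and, Finset.mem_insert, hPdef, hM]
    constructor
    · intro h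
      by_cases hχ : χ = trivIrr K
      · exact Or.inl hχ
      · refine Or.inr ⟨fun h1 => hχ (Subtype.ext h1), fun a ha => h a (Subgroup.mem_subgroupOf.mpr ha)⟩
    · rintro (rfl | ⟨-, h⟩)
      · intro x _
        rfl
      · exact fun x hx => h x (Subgroup.mem_subgroupOf.mp hx)
  have hnot : trivIrr K ∉ Finset.univ.filter P := by
    simp only [Finset.mem_filter, Finset.mem_univ, true_and, hPdef, not_and]
    intro h
    exact absurd rfl h
  rw [hfil, Finset.sum_insert hnot, charDegree_trivIrr] at h2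
  have h3 : (A.relIndex K : ℝ) - 1 = ∑ θ ∈ Finset.univ.filter P,
      (Cfsg.charDegree (θ : K → ℂ) : ℝ) ^ 2 := by
    have h4 : (M.index : ℝ) = 1 + ∑ θ ∈ Finset.univ.filter P,
        (Cfsg.charDegree (θ : K → ℂ) : ℝ) ^ 2 := by
      rw [← h2]
      push_cast
      ring
    have h5 : A.relIndex K = M.index := rfl
    rw [h5, h4]
    ring
  rw [h3]

end Cfsg.Agent.Lib.Helper25
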