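import Mathlib
import Cfsg.Prelude.Def_OddOrderChar
import Cfsg.Agent.Lib.Helper25.IndAbove
import Cfsg.Agent.Lib.Helper25.CohExt
import Cfsg.Agent.Lib.Helper82.AbelianSylow
import Cfsg.Agent.Lib.Helper79.Linear

/-!
# Auxiliary results for the coherence descent theorems

* `coherenceSystem_subset`: a conjugation-closed nonempty subset of a coherence system is one.
* `linear_of_commutator`: an irreducible character trivial on the commutator subgroup is linear.
* `frob_count`: in a finite group, a normal subgroup all of whose non-identity elements have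
  the same centraliser `C` has order congruent to 1 modulo the index of `C`.
* `dvd_index_commutator_of_nilpotent`: in a finite nilpotent group every prime divisor of the
  order divides the index of the commutator subgroup.
-/

set_option autoImplicit false

namespace Cfsg.Agent.Lib.Helper25

open Cfsg Cfsg.Agent.Lib.Helper80 Cfsg.Agent.Lib.Helper26
open scoped ComplexConjugate commutatorElement

section subsystem

variable {L : Type*} [Group L] [Fintype L] {G : Type*} [Group G] [Fintype G]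

theorem coherenceSystem_subset {S S' : Set (L → ℂ)} {τ : (L → ℂ) → (G → ℂ)}
    {R : (L → ℂ) → Finset (G → ℂ)} (hS : IsCoherenceSystem S τ R) (hsub : S' ⊆ S)
    (hne : S'.Nonempty) (hc : ∀ χ ∈ S', conjFun χ ∈ S') : IsCoherenceSystem S' τ R := by
  have h2 : zspanOn S' {1}ᶜ ⊆ zspanOn S {1}ᶜ := zspanOn_mono hsub _
  have hi := hS.isometry
  exact
    { nonempty := hne
      isCharacter := fun χ hχ => hS.isCharacter χ (hsub hχ)
      conj_mem := hc
      conj_ne := fun χ hχ => hS.conj_ne χ (hsub hχ)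
      isometry := ⟨fun a ha b hb => hi.1 a (h2 ha) b (h2 hb), fun a ha k => hi.2.1 a (h2 ha) k,
        fun a ha b hb => hi.2.2.1 a (h2 ha) b (h2 hb), fun a ha => hi.2.2.2 a (h2 ha)⟩
      map_one := fun α hα => hS.map_one α (h2 hα)
      orthogonal := fun χ hχ φ hφ => hS.orthogonal χ (hsub hχ) φ (hsub hφ)
      orthonormal := fun χ hχ => hS.orthonormal χ (hsub hχ)
      virtual := fun χ hχ => hS.virtual χ (hsub hχ)
      sum_eq := fun χ hχ => hS.sum_eq χ (hsub hχ)
      disjoint := fun χ hχ φ hφ => hS.disjoint χ (hsub hχ) φ (hsub hφ) }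

end subsystem

/-- An irreducible character trivial on the commutator subgroup is linear. -/
theorem linear_of_commutator {K : Type*} [Group K] [Finite K] {θ : K → ℂ}
    (hθ : IsIrrCharacter K θ) (h : ∀ c ∈ commutator K, θ c = θ 1) : θ 1 = 1 := by
  obtain ⟨ψ, hψ, hψθ⟩ := exists_isIrrCharacter_deflate (commutator K) hθ h
  have hcomm : ∀ a b : K ⧸ commutator K, a * b = b * a :=
    show ∀ a b : Abelianization K, a * b = b * a from fun a b => mul_comm a b
  have h1 := Cfsg.Agent.Lib.Helper82.irr_one_eq_one_of_comm hcomm hψ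
  have h2 := hψθ 1
  rw [← h2]
  exact h1

/-- Orbit counting for a Frobenius-like action by conjugation. -/
theorem frob_count {Q : Type*} [Group Q] [Finite Q] (C X : Subgroup Q) [hX : X.Normal]
    (hcent : ∀ x ∈ X, x ≠ 1 → Subgroup.centralizer ({x} : Set Q) = C) :
    C.index ∣ Nat.card X - 1 := by
  classical
  haveI : Fintype Q := Fintype.ofFinite Q
  set X' : Finset Q := Finset.univ.filter (fun x => x ∈ X ∧ x ≠ 1) with hX'
  have hcard : X'.card = Nat.card X - 1 := by
    have h1 : Nat.card X = (Finset.univ.filter (fun x : Q => x ∈ X)).card := by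
      rw [Nat.card_eq_fintype_card, Fintype.card_subtype]
    have h2 : Finset.univ.filter (fun x : Q => x ∈ X) = insert 1 X' := by
      ext x
      simp only [hX', Finset.mem_filter, Finset.mem_univ, true_and, Finset.mem_insert]
      constructor
      · intro h
        by_cases h1 : x = 1
        · exact Or.inl h1
        · exact Or.inr ⟨h, h1⟩
      · rintro (rfl | h)
        · exact X.one_mem
        · exact h.1
    have h3 : (1 : Q) ∉ X' := by simp [hX']
    rw [h1, h2, Finset.card_insert_of_notMem h3]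
    omega
  rw [← hcard]
  have hfib : ∀ c ∈ X'.image (ConjClasses.mk : Q → ConjClasses Q),
      (X'.filter (fun x => ConjClasses.mk x = c)).card = C.index := by
    intro c hc
    obtain ⟨x₀, hx₀, rfl⟩ := Finset.mem_image.mp hc
    obtain ⟨hx₀X, hx₀1⟩ := (Finset.mem_filter.mp hx₀).2
    have h1 := card_isConj_eq_index x₀
    rw [hcent x₀ hx₀X hx₀1, Nat.card_eq_fintype_card, Fintype.card_subtype] at h1
    rw [← h1]
    congr 1
    ext y
    simp only [hX', Finset.mem_filter, Finset.mem_univ, true_and]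
    constructor
    · rintro ⟨-, h⟩
      exact ConjClasses.mk_eq_mk_iff_isConj.mp h.symm
    · intro h
      refine ⟨?_, (ConjClasses.mk_eq_mk_iff_isConj.mpr h).symm⟩
      obtain ⟨g, hg⟩ := isConj_iff.mp h
      rw [← hg]
      refine ⟨hX.conj_mem x₀ hx₀X g, ?_⟩
      intro h1
      apply hx₀1
      have : x₀ = g⁻¹ * (g * x₀ * g⁻¹) * g := by group
      rw [this, h1]
      group
  rw [Finset.card_eq_sum_card_image (ConjClasses.mk : Q → ConjClasses Q) X',
    Finset.sum_congr rfl hfib, Finset.sum_const, smul_eq_mul]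
  exact dvd_mul_left _ _

/-- In a finite nilpotent group every prime divisor of the order divides the index of the
commutator subgroup. -/
theorem dvd_index_commutator_of_nilpotent {X : Type*} [Group X] [Finite X]
    (hn : Group.IsNilpotent X) {p : ℕ} (hp : p.Prime) (hdvd : p ∣ Nat.card X) :
    p ∣ (commutator X).index := by
  classical
  haveI : Fact p.Prime := ⟨hp⟩
  obtain ⟨e⟩ := ((Group.isNilpotent_of_finite_tfae (G := X)).out 0 4).mp hn
  have hpm : p ∈ (Nat.card X).primeFactors :=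
    Nat.mem_primeFactors.mpr ⟨hp, hdvd, Nat.card_pos.ne'⟩
  let P : Sylow p X := default
  let pr : (∀ q : (Nat.card X).primeFactors, ∀ Q : Sylow q X, (↑Q : Subgroup X)) →*
      ↥(P : Subgroup X) :=
    (Pi.evalMonoidHom (fun Q : Sylow p X => ↥(Q : Subgroup X)) P).comp
      (Pi.evalMonoidHom (fun q : (Nat.card X).primeFactors => ∀ Q : Sylow q X, (↑Q : Subgroup X))
        ⟨p, hpm⟩)
  have hpr : Function.Surjective pr := by
    intro y
    refine ⟨Pi.mulSingle (⟨p, hpm⟩ : (Nat.card X).primeFactors) (Pi.mulSingle P y), ?_⟩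
    simp [pr]
  let f : X →* ↥(P : Subgroup X) := pr.comp e.symm.toMonoidHom
  have hf : Function.Surjective f := hpr.comp e.symm.surjective
  haveI : Nontrivial ↥(P : Subgroup X) :=
    (Subgroup.nontrivial_iff_ne_bot _).mpr (P.ne_bot_of_dvd_card hdvd)
  haveI : Group.IsNilpotent ↥(P : Subgroup X) := P.isPGroup'.isNilpotent
  have hlt := Group.IsSolvable.commutator_lt_top_of_nontrivial ↥(P : Subgroup X)
  let g : X →* Abelianization ↥(P : Subgroup X) := Abelianization.of.comp f
  have hg : Function.Surjective g :=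
    (QuotientGroup.mk'_surjective (commutator ↥(P : Subgroup X))).comp hf
  have hker : commutator X ≤ g.ker := Abelianization.commutator_subset_ker g
  have h1 : g.ker.index ∣ (commutator X).index := Subgroup.index_dvd_of_le hker
  have h2 : g.ker.index = (commutator ↥(P : Subgroup X)).index := by
    rw [Subgroup.index_ker, MonoidHom.range_eq_top.mpr hg, Subgroup.card_top]
    rfl
  have h3 : (commutator ↥(P : Subgroup X)).index ≠ 1 := by
    intro h
    exact hlt.ne (Subgroup.index_eq_one.mp h)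
  have h4 : (commutator ↥(P : Subgroup X)).index ∣ Nat.card ↥(P : Subgroup X) :=
    Subgroup.index_dvd_card _
  obtain ⟨k, hk⟩ := (IsPGroup.iff_card.mp P.isPGroup')
  rw [hk] at h4
  obtain ⟨j, -, hj⟩ := (Nat.dvd_prime_pow hp).mp h4
  rw [h2, hj] at h1
  have hj0 : j ≠ 0 := by
    intro h0
    rw [hj, h0, pow_zero] at h3
    exact h3 rfl
  exact dvd_trans (dvd_pow_self p hj0) h1


theorem frob_arith (a b e : ℕ) (ha : Odd a) (hb : Odd b) (he : Odd e) (ha2 : 2 ≤ a) (hb2 : 2 ≤ b)
    (h1 : e ∣ a - 1) (h2 : e ∣ a * b - 1) : 4 * e ^ 2 + 1 < a * b := by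
  have h3 : e ∣ b - 1 := by
    have h : a * b - 1 = b * (a - 1) + (b - 1) := by
      obtain ⟨a', rfl⟩ : ∃ a', a = a' + 1 := ⟨a - 1, by omega⟩
      obtain ⟨b', rfl⟩ : ∃ b', b = b' + 1 := ⟨b - 1, by omega⟩
      simp only [Nat.add_sub_cancel]
      have : (a' + 1) * (b' + 1) = (b' + 1) * a' + b' + 1 := by ring
      rw [this, Nat.add_sub_cancel]
    rw [h] at h2
    exact (Nat.dvd_add_right (dvd_mul_of_dvd_right h1 b)).mp h2
  have key : ∀ c, Odd c → 2 ≤ c → e ∣ c - 1 → 2 * e + 1 ≤ c := by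
    intro c hc hc2 hdvd
    obtain ⟨t, ht⟩ := hdvd
    have ht0 : t ≠ 0 := by
      rintro rfl
      omega
    have hteven : Even t := by
      by_contra hto
      rw [Nat.not_even_iff_odd] at hto
      have h5 : Odd (e * t) := Odd.mul he hto
      rw [← ht] at h5
      obtain ⟨u, hu⟩ := hc
      obtain ⟨w, hw⟩ := h5
      omega
    obtain ⟨w, hw⟩ := hteven
    have h2t : 2 ≤ t := by omega
    have h6 : e * 2 ≤ e * t := Nat.mul_le_mul_left e h2t
    omega
  have h4 := key a ha ha2 h1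
  have h5 := key b hb hb2 h3
  have he1 : 1 ≤ e := he.pos
  nlinarith

/-- In a group of odd order, a normal subgroup `A` all of whose non-identity elements have
centraliser `A`, and which has a proper nontrivial subgroup normal in the whole group, is large
compared with its index. -/
theorem frob_big {Q : Type*} [Group Q] [Finite Q] (A B : Subgroup Q) [hA : A.Normal]
    [hB : B.Normal] (hodd : Odd (Nat.card Q))
    (hcent : ∀ x ∈ A, x ≠ 1 → Subgroup.centralizer ({x} : Set Q) = A) (hB0 : B ≠ ⊥)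
    (hBA : B < A) : 4 * A.index ^ 2 + 1 < Nat.card A := by
  have h1 : A.index ∣ Nat.card B - 1 := frob_count A B (fun x hx hx1 => hcent x (hBA.le hx) hx1)
  have h2 : A.index ∣ Nat.card A - 1 := frob_count A A hcent
  have h3 : Nat.card B * B.relIndex A = Nat.card A := by
    have := Subgroup.relIndex_mul_relIndex ⊥ B A bot_le hBA.le
    rwa [Subgroup.relIndex_bot_left, Subgroup.relIndex_bot_left] at this
  have hcB : Nat.card B ∣ Nat.card Q := Subgroup.card_subgroup_dvd_card B
  have hcA : Nat.card A ∣ Nat.card Q := Subgroup.card_subgroup_dvd_card A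
  have hoB : Odd (Nat.card B) := Odd.of_dvd_nat hodd hcB
  have hoA : Odd (Nat.card A) := Odd.of_dvd_nat hodd hcA
  have hor : Odd (B.relIndex A) := Odd.of_dvd_nat hoA (Dvd.intro_left _ h3)
  have hoe : Odd A.index := Odd.of_dvd_nat hodd (Subgroup.index_dvd_card A)
  have hB2 : 2 ≤ Nat.card B := by
    have := (Subgroup.one_lt_card_iff_ne_bot B).mpr hB0
    omega
  have hr2 : 2 ≤ B.relIndex A := by
    have h0 : B.relIndex A ≠ 0 := by
      intro h
      rw [h, mul_zero] at h3
      exact Nat.card_pos.ne' h3.symm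
    have h1' : B.relIndex A ≠ 1 := fun h => (not_le_of_gt hBA) (Subgroup.relIndex_eq_one.mp h)
    omega
  rw [← h3] at h2 ⊢
  exact frob_arith _ _ _ hoB hor hoe hB2 hr2 h1 h2

/-- An abelian normal subgroup whose order has two distinct prime divisors contains a proper
nontrivial subgroup normal in the whole group. -/
theorem exists_between {Q : Type*} [Group Q] [Finite Q] (A : Subgroup Q) [hA : A.Normal]
    (hcomm : ∀ a ∈ A, ∀ b ∈ A, a * b = b * a) {p q : ℕ} (hp : p.Prime) (hq : q.Prime)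
    (hpq : p ≠ q) (hpA : p ∣ Nat.card A) (hqA : q ∣ Nat.card A) :
    ∃ B : Subgroup Q, B.Normal ∧ B ≠ ⊥ ∧ B < A := by
  let B : Subgroup Q :=
    { carrier := {a | a ∈ A ∧ a ^ p = 1}
      one_mem' := ⟨A.one_mem, one_pow p⟩
      mul_mem' := by
        rintro a b ⟨ha, ha1⟩ ⟨hb, hb1⟩
        refine ⟨A.mul_mem ha hb, ?_⟩
        have hc : Commute a b := hcomm a ha b hb
        rw [hc.mul_pow, ha1, hb1, one_mul]
      inv_mem' := by
        rintro a ⟨ha, ha1⟩
        exact ⟨A.inv_mem ha, by rw [inv_pow, ha1, inv_one]⟩ }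
  have hBmem : ∀ a, a ∈ B ↔ a ∈ A ∧ a ^ p = 1 := fun a => Iff.rfl
  refine ⟨B, ⟨fun a ha g => ?_⟩, ?_, ?_⟩
  · obtain ⟨ha, ha1⟩ := (hBmem a).mp ha
    refine (hBmem _).mpr ⟨hA.conj_mem a ha g, ?_⟩
    rw [conj_pow, ha1, mul_one, mul_inv_cancel]
  · haveI : Fact p.Prime := ⟨hp⟩
    obtain ⟨x, hx⟩ := exists_prime_orderOf_dvd_card' (G := ↥A) p hpA
    intro hbot
    have hxB : (x : Q) ∈ B := by
      refine (hBmem _).mpr ⟨x.2, ?_⟩
      have h1 := pow_orderOf_eq_one x
      rw [hx] at h1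
      have h2 := congrArg (Subtype.val) h1
      simpa using h2
    rw [hbot, Subgroup.mem_bot] at hxB
    have h3 : x = 1 := Subtype.ext hxB
    rw [h3, orderOf_one] at hx
    exact hp.one_lt.ne hx
  · refine lt_of_le_of_ne (fun a ha => ((hBmem a).mp ha).1) ?_
    intro hBA
    haveI : Fact q.Prime := ⟨hq⟩
    obtain ⟨y, hy⟩ := exists_prime_orderOf_dvd_card' (G := ↥A) q hqA
    have hyB : (y : Q) ∈ B := by
      rw [hBA]
      exact y.2
    have hy1 : (y : Q) ^ p = 1 := ((hBmem _).mp hyB).2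
    have h1 : y ^ p = 1 := Subtype.ext (by simpa using hy1)
    have h2 := orderOf_dvd_of_pow_eq_one h1
    rw [hy] at h2
    exact hpq ((Nat.prime_dvd_prime_iff_eq hq hp).mp h2).symm

section quot

variable {L : Type*} [Group L] [Finite L] (K H₁ : Subgroup L) [hK : K.Normal] [hH : H₁.Normal]

omit hK in
theorem card_map_mk (hHK : H₁ ≤ K) :
    Nat.card (K.map (QuotientGroup.mk' H₁)) = H₁.relIndex K := by
  have h1 : (K.map (QuotientGroup.mk' H₁)).index = K.index :=
    Subgroup.index_map_eq K (QuotientGroup.mk'_surjective H₁) (by rw [QuotientGroup.ker_mk']; exact hHK)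
  have h2 := Subgroup.card_mul_index (K.map (QuotientGroup.mk' H₁))
  have h3 := Subgroup.relIndex_mul_index hHK
  rw [h1, ← Subgroup.index_eq_card, ← h3] at h2
  have h4 : K.index ≠ 0 := Subgroup.index_ne_zero_of_finite
  exact Nat.eq_of_mul_eq_mul_right (Nat.pos_of_ne_zero h4) h2

omit [Finite L] hK in
theorem comm_map_mk (hKK : ⁅K, K⁆ ≤ H₁) :
    ∀ a ∈ K.map (QuotientGroup.mk' H₁), ∀ b ∈ K.map (QuotientGroup.mk' H₁), a * b = b * a := by
  rintro _ ⟨x, hx, rfl⟩ _ ⟨y, hy, rfl⟩
  have h1 : ⁅x, y⁆ ∈ H₁ := hKK (Subgroup.commutator_mem_commutator hx hy)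
  have h2 : (QuotientGroup.mk' H₁) ⁅x, y⁆ = 1 := by
    rw [QuotientGroup.mk'_apply, QuotientGroup.eq_one_iff]
    exact h1
  rw [map_commutatorElement, commutatorElement_eq_one_iff_mul_comm] at h2
  exact h2

omit [Finite L] hK in
theorem centralizer_map_mk (hKK : ⁅K, K⁆ ≤ H₁)
    (hfrob : ∀ k ∈ K, k ∉ H₁ → ∀ x : L, x * k * x⁻¹ * k⁻¹ ∈ H₁ → x ∈ K) :
    ∀ x ∈ K.map (QuotientGroup.mk' H₁), x ≠ 1 →
      Subgroup.centralizer ({x} : Set (L ⧸ H₁)) = K.map (QuotientGroup.mk' H₁) := by
  rintro _ ⟨k, hk, rfl⟩ hne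
  have hkH : k ∉ H₁ := by
    intro h
    apply hne
    rw [QuotientGroup.mk'_apply, QuotientGroup.eq_one_iff]
    exact h
  ext g
  obtain ⟨y, rfl⟩ := QuotientGroup.mk'_surjective H₁ g
  rw [Subgroup.mem_centralizer_iff]
  constructor
  · intro h
    have h1 := h _ (Set.mem_singleton _)
    have h2 : (QuotientGroup.mk' H₁) (y * k * y⁻¹ * k⁻¹) = 1 := by
      rw [map_mul, map_mul, map_mul, ← h1, map_inv, map_inv]
      group
    rw [QuotientGroup.mk'_apply, QuotientGroup.eq_one_iff] at h2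
    exact ⟨y, hfrob k hk hkH y h2, rfl⟩
  · intro h z hz
    rw [Set.mem_singleton_iff] at hz
    rw [hz]
    exact comm_map_mk K H₁ hKK _ ⟨k, hk, rfl⟩ _ h

theorem big_of_between (hodd : Odd (Nat.card L)) (hKK : ⁅K, K⁆ ≤ H₁) (hHK : H₁ ≤ K)
    (hfrob : ∀ k ∈ K, k ∉ H₁ → ∀ x : L, x * k * x⁻¹ * k⁻¹ ∈ H₁ → x ∈ K)
    (N : Subgroup L) [hN : N.Normal] (h1 : H₁ < N) (h2 : N < K) :
    4 * K.index ^ 2 + 1 < H₁.relIndex K := by
  have hsurj := QuotientGroup.mk'_surjective H₁
  haveI hA : (K.map (QuotientGroup.mk' H₁)).Normal := Subgroup.Normal.map hK _ hsurj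
  haveI hB : (N.map (QuotientGroup.mk' H₁)).Normal := Subgroup.Normal.map hN _ hsurj
  have hoddQ : Odd (Nat.card (L ⧸ H₁)) :=
    Odd.of_dvd_nat hodd (Subgroup.card_quotient_dvd_card H₁)
  have hB0 : N.map (QuotientGroup.mk' H₁) ≠ ⊥ := by
    intro h
    obtain ⟨n, hn, hnH⟩ := SetLike.exists_of_lt h1
    have h3 : (QuotientGroup.mk' H₁) n ∈ N.map (QuotientGroup.mk' H₁) := ⟨n, hn, rfl⟩
    rw [h, Subgroup.mem_bot, QuotientGroup.mk'_apply, QuotientGroup.eq_one_iff] at h3
    exact hnH h3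
  have hBA : N.map (QuotientGroup.mk' H₁) < K.map (QuotientGroup.mk' H₁) := by
    refine lt_of_le_of_ne (Subgroup.map_mono h2.le) (fun h => ?_)
    have h3 : K.map (QuotientGroup.mk' H₁) ≤ N.map (QuotientGroup.mk' H₁) := h.ge
    rw [Subgroup.map_le_map_iff, QuotientGroup.ker_mk', sup_eq_left.mpr h1.le] at h3
    exact not_le_of_gt h2 h3
  have h := frob_big (K.map (QuotientGroup.mk' H₁)) (N.map (QuotientGroup.mk' H₁)) hoddQ
    (centralizer_map_mk K H₁ hKK hfrob) hB0 hBA
  rw [card_map_mk K H₁ hHK, Subgroup.index_map_eq K hsurj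
    (by rw [QuotientGroup.ker_mk']; exact hHK)] at h
  exact h

theorem between_of_two_primes (hKK : ⁅K, K⁆ ≤ H₁) (hHK : H₁ ≤ K) {p q : ℕ} (hp : p.Prime)
    (hq : q.Prime) (hpq : p ≠ q) (hpd : p ∣ H₁.relIndex K) (hqd : q ∣ H₁.relIndex K) :
    ∃ N : Subgroup L, N.Normal ∧ H₁ < N ∧ N < K := by
  have hsurj := QuotientGroup.mk'_surjective H₁
  haveI hA : (K.map (QuotientGroup.mk' H₁)).Normal := Subgroup.Normal.map hK _ hsurj
  rw [← card_map_mk K H₁ hHK] at hpd hqd
  obtain ⟨B, hBn, hB0, hBA⟩ := exists_between (K.map (QuotientGroup.mk' H₁))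
    (comm_map_mk K H₁ hKK) hp hq hpq hpd hqd
  refine ⟨B.comap (QuotientGroup.mk' H₁), Subgroup.Normal.comap hBn _, ?_, ?_⟩
  · refine lt_of_le_of_ne ?_ (fun h => hB0 ?_)
    · intro x hx
      rw [Subgroup.mem_comap, QuotientGroup.mk'_apply, (QuotientGroup.eq_one_iff x).mpr hx]
      exact B.one_mem
    · rw [eq_bot_iff]
      intro b hb
      obtain ⟨y, rfl⟩ := hsurj b
      have hy : y ∈ B.comap (QuotientGroup.mk' H₁) := hb
      rw [← h] at hy
      rw [Subgroup.mem_bot, QuotientGroup.mk'_apply, QuotientGroup.eq_one_iff]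
      exact hy
  · have hle : B.comap (QuotientGroup.mk' H₁) ≤ K := by
      intro y hy
      obtain ⟨k, hk, hky⟩ := hBA.le (Subgroup.mem_comap.mp hy)
      have h3 : k⁻¹ * y ∈ H₁ := by
        rw [QuotientGroup.mk'_apply, QuotientGroup.mk'_apply] at hky
        exact QuotientGroup.eq.mp hky
      have h4 : y = k * (k⁻¹ * y) := by group
      rw [h4]
      exact K.mul_mem hk (hHK h3)
    refine lt_of_le_of_ne hle (fun h => ?_)
    apply not_le_of_gt hBA
    rintro _ ⟨k, hk, rfl⟩
    have hk' : k ∈ B.comap (QuotientGroup.mk' H₁) := by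
      rw [h]
      exact hk
    exact hk'

theorem two_primes (M : Subgroup L) [M.Normal] [(M.subgroupOf K).Normal] (hMK : M ≤ K)
    (hnil : Group.IsNilpotent (↥K ⧸ M.subgroupOf K)) (hH₁ : H₁ = ⁅K, K⁆ ⊔ M)
    (hnpp : ¬ ∃ p m : ℕ, p.Prime ∧ M.relIndex K = p ^ m) :
    ∃ p q : ℕ, p.Prime ∧ q.Prime ∧ p ≠ q ∧ p ∣ H₁.relIndex K ∧ q ∣ H₁.relIndex K := by
  have hn0 : M.relIndex K ≠ 0 := by
    haveI : Finite (↥K ⧸ M.subgroupOf K) :=
      Finite.of_surjective _ (QuotientGroup.mk_surjective (s := M.subgroupOf K))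
    exact Subgroup.index_ne_zero_of_finite
  have hn1 : M.relIndex K ≠ 1 := by
    intro h
    exact hnpp ⟨2, 0, Nat.prime_two, by rw [h, pow_zero]⟩
  have hcard : Nat.card (↥K ⧸ M.subgroupOf K) = M.relIndex K := (Subgroup.index_eq_card _).symm
  have key : ∀ r : ℕ, r.Prime → r ∣ M.relIndex K → r ∣ H₁.relIndex K := by
    intro r hr hrd
    rw [← hcard] at hrd
    have h1 := dvd_index_commutator_of_nilpotent hnil hr hrd
    refine dvd_trans h1 ?_
    have h2 : ((commutator (↥K ⧸ M.subgroupOf K)).comap (QuotientGroup.mk' (M.subgroupOf K))).index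
        = (commutator (↥K ⧸ M.subgroupOf K)).index :=
      Subgroup.index_comap_of_surjective _ (QuotientGroup.mk'_surjective _)
    rw [← h2]
    apply Subgroup.index_dvd_of_le
    have h3 : H₁ ≤ ((commutator (↥K ⧸ M.subgroupOf K)).comap
        (QuotientGroup.mk' (M.subgroupOf K))).map K.subtype := by
      rw [hH₁]
      apply sup_le
      · rw [Subgroup.commutator_le]
        intro g₁ hg₁ g₂ hg₂
        refine ⟨⁅(⟨g₁, hg₁⟩ : K), ⟨g₂, hg₂⟩⁆, ?_, rfl⟩
        rw [SetLike.mem_coe, Subgroup.mem_comap, map_commutatorElement]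
        exact Subgroup.commutator_mem_commutator (Subgroup.mem_top _) (Subgroup.mem_top _)
      · intro x hx
        have hxK : x ∈ K := hMK hx
        refine ⟨⟨x, hxK⟩, ?_, rfl⟩
        rw [SetLike.mem_coe, Subgroup.mem_comap]
        have h5 : QuotientGroup.mk' (M.subgroupOf K) ⟨x, hxK⟩ = 1 := by
          rw [QuotientGroup.mk'_apply, QuotientGroup.eq_one_iff]
          exact Subgroup.mem_subgroupOf.mpr hx
        rw [h5]
        exact Subgroup.one_mem _
    intro x hx
    obtain ⟨y, hy, hyx⟩ := h3 (Subgroup.mem_subgroupOf.mp hx)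
    have h6 : y = x := Subtype.ext hyx
    rw [← h6]
    exact hy
  obtain ⟨p, hp, hpd⟩ := Nat.exists_prime_and_dvd hn1
  by_cases hex : ∃ q : ℕ, q.Prime ∧ q ∣ M.relIndex K ∧ q ≠ p
  · obtain ⟨q, hq, hqd, hqp⟩ := hex
    exact ⟨p, q, hp, hq, fun h => hqp h.symm, key p hp hpd, key q hq hqd⟩
  · exfalso
    push Not at hex
    exact hnpp ⟨p, _, hp,
      Nat.eq_prime_pow_of_unique_prime_dvd hn0 (fun {d} hd hdd => hex d hd hdd)⟩

end quot

end Cfsg.Agent.Lib.Helper25
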