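import Mathlib
import Cfsg.Prelude.Def_OddOrderLocal
import Cfsg.Agent.Lib.Helper25.PF65
import Cfsg.Agent.S0033

/-!
# Sectors: TI subgroups whose normaliser is a Frobenius group

`K` a subgroup of the finite group `G`, `N` its normaliser; `K < N`, `K` a TI-subset, and
every non-identity element of `K` has its centraliser in `N` contained in `K`.

* `frob_count_le`: orbit counting, with centralisers only contained in `C`;
* `sector_cent`: the centraliser in `G` of a non-identity element of `K` lies in `K`;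
* `sector_index_dvd`: `[N:K]` divides `|K| - 1`;
* `sector_complement`: `K` has a complement `W` in `N` acting without fixed points;
* `sector_nilpotent`: `K` is nilpotent (Thompson).
-/

set_option autoImplicit false

namespace Cfsg.Agent.Lib.Helper25

open Cfsg Cfsg.Agent.Lib.Helper80

/-- Orbit counting for a conjugation action with small centralisers. -/
theorem frob_count_le {Q : Type*} [Group Q] [Finite Q] (C X : Subgroup Q) [hX : X.Normal]
    (hcent : ∀ x ∈ X, x ≠ 1 → Subgroup.centralizer ({x} : Set Q) ≤ C) :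
    C.index ∣ Nat.card X - 1 := by
  classical
  haveI : Fintype Q := Fintype.ofFinite Q
  set X' : Finset Q := Finset.univ.filter (fun x => x ∈ X ∧ x ≠ 1) with hX'
  have hcard : X'.card = Nat.card X - 1 := by
    have h1 : Nat.card X = (Finset.univ.filter (fun x : Q => x ∈ X)).card := by
      rw [Nat.card_eq_fintype_card, Fintype.card_subtype]
    have h2 : Finset.univ.filter (fun x : Q => x ∈ X) = insert 1 X' := by
      ext x
      simp only [hX', Finset.mem_filter, Finset.mem_univ, true_and, Finset.mem_insert]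
      constructor
      · intro h
        by_cases h1 : x = 1
        · exact Or.inl h1
        · exact Or.inr ⟨h, h1⟩
      · rintro (rfl | h)
        · exact X.one_mem
        · exact h.1
    have h3 : (1 : Q) ∉ X' := by simp [hX']
    rw [h1, h2, Finset.card_insert_of_notMem h3]
    omega
  rw [← hcard]
  have hfib : ∀ c ∈ X'.image (ConjClasses.mk : Q → ConjClasses Q),
      C.index ∣ (X'.filter (fun x => ConjClasses.mk x = c)).card := by
    intro c hc
    obtain ⟨x₀, hx₀, rfl⟩ := Finset.mem_image.mp hc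
    obtain ⟨hx₀X, hx₀1⟩ := (Finset.mem_filter.mp hx₀).2
    have h1 := card_isConj_eq_index x₀
    rw [Nat.card_eq_fintype_card, Fintype.card_subtype] at h1
    have h2 : (X'.filter (fun x => ConjClasses.mk x = ConjClasses.mk x₀)).card =
        (Subgroup.centralizer ({x₀} : Set Q)).index := by
      rw [← h1]
      congr 1
      ext y
      simp only [hX', Finset.mem_filter, Finset.mem_univ, true_and]
      constructor
      · rintro ⟨-, h⟩
        exact ConjClasses.mk_eq_mk_iff_isConj.mp h.symm
      · intro h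
        refine ⟨?_, (ConjClasses.mk_eq_mk_iff_isConj.mpr h).symm⟩
        obtain ⟨g, hg⟩ := isConj_iff.mp h
        rw [← hg]
        refine ⟨hX.conj_mem x₀ hx₀X g, ?_⟩
        intro h1
        apply hx₀1
        have : x₀ = g⁻¹ * (g * x₀ * g⁻¹) * g := by group
        rw [this, h1]
        group
    rw [h2]
    exact Subgroup.index_dvd_of_le (hcent x₀ hx₀X hx₀1)
  rw [Finset.card_eq_sum_card_image (ConjClasses.mk : Q → ConjClasses Q) X']
  exact Finset.dvd_sum hfib

section sector

variable {G : Type*} [Group G] [Finite G] (K : Subgroup G)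

omit [Finite G] in
theorem sector_cent (hTI : IsTISubset (K : Set G))
    (hfrob : ∀ h ∈ K, h ≠ 1 →
      Subgroup.normalizer (K : Set G) ⊓ Subgroup.centralizer ({h} : Set G) ≤ K) :
    ∀ k ∈ K, k ≠ 1 → Subgroup.centralizer ({k} : Set G) ≤ K := by
  intro k hk hk1 c hc
  have hck : c * k * c⁻¹ = k := by
    have h1 := (Subgroup.mem_centralizer_iff.mp hc) k (Set.mem_singleton k)
    rw [← h1, mul_inv_cancel_right]
  have hcN : c ∈ Subgroup.normalizer (K : Set G) := by
    by_contra hn
    exact hk1 (hTI c hn k hk (by rw [hck]; exact hk))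
  exact hfrob k hk hk1 ⟨hcN, hc⟩

theorem sector_index_dvd
    (hfrob : ∀ h ∈ K, h ≠ 1 →
      Subgroup.normalizer (K : Set G) ⊓ Subgroup.centralizer ({h} : Set G) ≤ K) :
    (K.subgroupOf (Subgroup.normalizer (K : Set G))).index ∣ Nat.card K - 1 := by
  have h := frob_count_le (Q := ↥(Subgroup.normalizer (K : Set G)))
    (K.subgroupOf (Subgroup.normalizer (K : Set G)))
    (K.subgroupOf (Subgroup.normalizer (K : Set G))) (by
      intro x hx hx1 c hc
      rw [Subgroup.mem_subgroupOf] at hx ⊢
      apply hfrob (x : G) hx (fun h => hx1 (Subtype.ext h))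
      refine Subgroup.mem_inf.mpr ⟨c.2, ?_⟩
      rw [Subgroup.mem_centralizer_iff] at hc ⊢
      intro y hy
      rw [Set.mem_singleton_iff] at hy
      rw [hy]
      exact congrArg Subtype.val (hc x (Set.mem_singleton x)))
  rwa [Nat.card_congr (Subgroup.subgroupOfEquivOfLe Subgroup.le_normalizer).toEquiv] at h

theorem sector_complement (hlt : K < Subgroup.normalizer (K : Set G))
    (hfrob : ∀ h ∈ K, h ≠ 1 →
      Subgroup.normalizer (K : Set G) ⊓ Subgroup.centralizer ({h} : Set G) ≤ K) :
    ∃ W : Subgroup G, W ≤ Subgroup.normalizer (K : Set G) ∧ W ≠ ⊥ ∧ K ⊓ W = ⊥ ∧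
      K ⊔ W = Subgroup.normalizer (K : Set G) ∧
      ∀ w ∈ W, w ≠ 1 → ∀ h ∈ K, w * h = h * w → h = 1 := by
  have hdvd := sector_index_dvd K hfrob
  have hcardK' : Nat.card (K.subgroupOf (Subgroup.normalizer (K : Set G))) = Nat.card K :=
    Nat.card_congr (Subgroup.subgroupOfEquivOfLe Subgroup.le_normalizer).toEquiv
  have hcop : Nat.Coprime (Nat.card (K.subgroupOf (Subgroup.normalizer (K : Set G))))
      (K.subgroupOf (Subgroup.normalizer (K : Set G))).index := by
    rw [hcardK']
    apply Nat.Coprime.coprime_dvd_right hdvd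
    obtain ⟨a, ha⟩ : ∃ a, Nat.card K = a + 1 := ⟨Nat.card K - 1, by
      have : 1 ≤ Nat.card K := Nat.card_pos
      omega⟩
    rw [ha, Nat.add_sub_cancel]
    simp
  obtain ⟨W', hW'⟩ := Subgroup.exists_right_complement'_of_coprime hcop
  have hdisj : K.subgroupOf (Subgroup.normalizer (K : Set G)) ⊓ W' = ⊥ := hW'.disjoint.eq_bot
  have hsup : K.subgroupOf (Subgroup.normalizer (K : Set G)) ⊔ W' = ⊤ := hW'.sup_eq_top
  have hWN : W'.map (Subgroup.normalizer (K : Set G)).subtype ≤ Subgroup.normalizer (K : Set G) := by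
    rintro x ⟨w, -, rfl⟩
    exact w.2
  refine ⟨W'.map (Subgroup.normalizer (K : Set G)).subtype, hWN, ?_, ?_, ?_, ?_⟩
  · intro h
    have hW'bot : W' = ⊥ := by
      rw [eq_bot_iff]
      intro w hw
      have h1 : (w : G) ∈ W'.map (Subgroup.normalizer (K : Set G)).subtype := ⟨w, hw, rfl⟩
      rw [h, Subgroup.mem_bot] at h1
      rw [Subgroup.mem_bot]
      exact Subtype.ext h1
    rw [hW'bot, sup_bot_eq] at hsup
    apply not_le_of_gt hlt
    intro x hx
    have h2 : (⟨x, hx⟩ : Subgroup.normalizer (K : Set G)) ∈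
        K.subgroupOf (Subgroup.normalizer (K : Set G)) := by
      rw [hsup]
      trivial
    exact Subgroup.mem_subgroupOf.mp h2
  · rw [eq_bot_iff]
    rintro x ⟨hxK, w, hw, rfl⟩
    have h1 : w ∈ K.subgroupOf (Subgroup.normalizer (K : Set G)) ⊓ W' :=
      ⟨Subgroup.mem_subgroupOf.mpr hxK, hw⟩
    rw [hdisj, Subgroup.mem_bot] at h1
    rw [h1, Subgroup.mem_bot]
    rfl
  · apply le_antisymm (sup_le hlt.le hWN)
    intro x hx
    have h1 : (⟨x, hx⟩ : Subgroup.normalizer (K : Set G)) ∈
        K.subgroupOf (Subgroup.normalizer (K : Set G)) ⊔ W' := by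
      rw [hsup]
      trivial
    have h2 : x ∈ (K.subgroupOf (Subgroup.normalizer (K : Set G)) ⊔ W').map
        (Subgroup.normalizer (K : Set G)).subtype := ⟨⟨x, hx⟩, h1, rfl⟩
    rw [Subgroup.map_sup] at h2
    have h3 : (K.subgroupOf (Subgroup.normalizer (K : Set G))).map
        (Subgroup.normalizer (K : Set G)).subtype ≤ K := by
      rintro _ ⟨k, hk, rfl⟩
      exact Subgroup.mem_subgroupOf.mp hk
    exact (sup_le_sup_right h3 _) h2
  · intro w hw hw1 h hh hwh
    by_contra hh1
    obtain ⟨w', hw', rfl⟩ := hw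
    have h3 : (w' : G) ∈ K := by
      apply hfrob h hh hh1
      refine Subgroup.mem_inf.mpr ⟨w'.2, ?_⟩
      rw [Subgroup.mem_centralizer_iff]
      intro y hy
      rw [Set.mem_singleton_iff] at hy
      rw [hy]
      exact hwh.symm
    have h4 : w' ∈ K.subgroupOf (Subgroup.normalizer (K : Set G)) ⊓ W' :=
      ⟨Subgroup.mem_subgroupOf.mpr h3, hw'⟩
    rw [hdisj, Subgroup.mem_bot] at h4
    apply hw1
    rw [h4]
    rfl

theorem sector_nilpotent (hlt : K < Subgroup.normalizer (K : Set G)) (hK1 : K ≠ ⊥)
    (hfrob : ∀ h ∈ K, h ≠ 1 →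
      Subgroup.normalizer (K : Set G) ⊓ Subgroup.centralizer ({h} : Set G) ≤ K) :
    Group.IsNilpotent K := by
  have hidx : (K.subgroupOf (Subgroup.normalizer (K : Set G))).index ≠ 1 := by
    intro h
    have h1 := Subgroup.index_eq_one.mp h
    apply not_le_of_gt hlt
    intro x hx
    have h2 : (⟨x, hx⟩ : Subgroup.normalizer (K : Set G)) ∈
        K.subgroupOf (Subgroup.normalizer (K : Set G)) := by
      rw [h1]
      trivial
    exact Subgroup.mem_subgroupOf.mp h2
  obtain ⟨p, hp, hpd⟩ := Nat.exists_prime_and_dvd hidx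
  haveI : Fact p.Prime := ⟨hp⟩
  have hpN : p ∣ Nat.card (Subgroup.normalizer (K : Set G)) :=
    dvd_trans hpd (Subgroup.index_dvd_card _)
  obtain ⟨w, hw⟩ := exists_prime_orderOf_dvd_card' (G := ↥(Subgroup.normalizer (K : Set G))) p hpN
  have hdvd := sector_index_dvd K hfrob
  have hcardK' : Nat.card (K.subgroupOf (Subgroup.normalizer (K : Set G))) = Nat.card K :=
    Nat.card_congr (Subgroup.subgroupOfEquivOfLe Subgroup.le_normalizer).toEquiv
  have hwK : w ∉ K.subgroupOf (Subgroup.normalizer (K : Set G)) := by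
    intro h
    have h1 : p ∣ Nat.card K := by
      rw [← hcardK', ← hw]
      exact Subgroup.orderOf_dvd_natCard _ h
    have h2 : p ∣ Nat.card K - 1 := dvd_trans hpd hdvd
    have hpos : 1 ≤ Nat.card K := Nat.card_pos
    have h3 : p ∣ 1 := by
      have h4 := Nat.dvd_sub h1 h2
      rwa [Nat.sub_sub_self hpos] at h4
    exact hp.one_lt.ne' (Nat.dvd_one.mp h3)
  let φ : K.subgroupOf (Subgroup.normalizer (K : Set G)) ≃*
      K.subgroupOf (Subgroup.normalizer (K : Set G)) := MulAut.conjNormal w
  have hφ : ∀ k : K.subgroupOf (Subgroup.normalizer (K : Set G)),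
      ((φ k : K.subgroupOf (Subgroup.normalizer (K : Set G))) :
        Subgroup.normalizer (K : Set G)) = w * k * w⁻¹ := fun k => MulAut.conjNormal_apply w k
  have hfpf : MonoidHom.FixedPointFree
      (φ : K.subgroupOf (Subgroup.normalizer (K : Set G)) →*
        K.subgroupOf (Subgroup.normalizer (K : Set G))) := by
    intro k hk
    by_contra hk1
    have hk' : φ k = k := hk
    have h1 : w * (k : Subgroup.normalizer (K : Set G)) * w⁻¹ =
        (k : Subgroup.normalizer (K : Set G)) := by
      rw [← hφ k, hk']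
    apply hwK
    rw [Subgroup.mem_subgroupOf]
    apply hfrob ((k : Subgroup.normalizer (K : Set G)) : G) (Subgroup.mem_subgroupOf.mp k.2)
      (fun h => hk1 (Subtype.ext (Subtype.ext h)))
    refine Subgroup.mem_inf.mpr ⟨w.2, ?_⟩
    rw [Subgroup.mem_centralizer_iff]
    intro y hy
    rw [Set.mem_singleton_iff] at hy
    rw [hy]
    have h2 : w * (k : Subgroup.normalizer (K : Set G)) =
        (k : Subgroup.normalizer (K : Set G)) * w := by
      calc w * (k : Subgroup.normalizer (K : Set G))
          = (w * (k : Subgroup.normalizer (K : Set G)) * w⁻¹) * w := by group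
        _ = (k : Subgroup.normalizer (K : Set G)) * w := by rw [h1]
    exact (congrArg Subtype.val h2).symm
  have hord : orderOf φ = p := by
    have h1 : φ ^ p = 1 := by
      show (MulAut.conjNormal w) ^ p = 1
      rw [← map_pow, ← hw, pow_orderOf_eq_one, map_one]
    have h2 := orderOf_dvd_of_pow_eq_one h1
    rcases (Nat.dvd_prime hp).mp h2 with h3 | h3
    · exfalso
      rw [orderOf_eq_one_iff] at h3
      obtain ⟨k, hk1⟩ := (Subgroup.ne_bot_iff_exists_ne_one).mp hK1
      have h4 := hfpf ⟨⟨(k : G), Subgroup.le_normalizer k.2⟩, Subgroup.mem_subgroupOf.mpr k.2⟩ (by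
        show φ _ = _
        rw [h3]
        rfl)
      apply hk1
      have h5 := congrArg (fun x : K.subgroupOf (Subgroup.normalizer (K : Set G)) =>
        ((x : Subgroup.normalizer (K : Set G)) : G)) h4
      exact Subtype.ext h5
    · exact h3
  haveI hnil' : Group.IsNilpotent (K.subgroupOf (Subgroup.normalizer (K : Set G))) :=
    Cfsg.Agent.S0033.result φ hfpf p hp hord
  exact Group.nilpotent_of_mulEquiv (Subgroup.subgroupOfEquivOfLe Subgroup.le_normalizer)

end sector

end Cfsg.Agent.Lib.Helper25
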