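import Mathlib
import Cfsg.Prelude.Def_Characters
import Cfsg.Agent.Lib.Helper3.IndTI
import Cfsg.Agent.Lib.Helper25.Basic

/-!
# The configuration `L = K ⋊ W₁`, `C_K(x) = W₂` for `1 ≠ x ∈ W₁` (Peterfalvi 4.3)

Group theory: `W = W₁ ⊔ W₂` is abelian, `W ∖ W₂` is a trivial intersection set with
normalizer `W`, every element of `W ∖ W₂` has centralizer `W`.  Induction from `W` of functions
vanishing on `W₂`: values on `W ∖ W₂`, isometry, vanishing at `1`.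
-/

set_option autoImplicit false

namespace Cfsg.Agent.Lib.Helper25

open scoped Pointwise

universe u

/-- The hypotheses of Peterfalvi (4.3), bundled. -/
structure PFSetup {L : Type u} [Group L] (K W₁ W₂ : Subgroup L) : Prop where
  normal : K.Normal
  disj : K ⊓ W₁ = ⊥
  top : K ⊔ W₁ = ⊤
  cyc₁ : IsCyclic W₁
  hall : Nat.Coprime (Nat.card W₁) W₁.index
  cyc₂ : IsCyclic W₂
  le : W₂ ≤ K
  cent : ∀ x ∈ W₁, x ≠ 1 → K ⊓ Subgroup.centralizer ({x} : Set L) = W₂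

namespace PFSetup

variable {L : Type u} [Group L] {K W₁ W₂ : Subgroup L}

theorem comm (h : PFSetup K W₁ W₂) : ∀ a ∈ W₁, ∀ b ∈ W₂, a * b = b * a := by
  intro a ha b hb
  by_cases ha1 : a = 1
  · rw [ha1, one_mul, mul_one]
  · have hb' : b ∈ K ⊓ Subgroup.centralizer ({a} : Set L) := by rw [h.cent a ha ha1]; exact hb
    exact (Subgroup.mem_centralizer_singleton_iff.1 hb'.2).symm

theorem comm₁ (h : PFSetup K W₁ W₂) : ∀ a ∈ W₁, ∀ b ∈ W₁, a * b = b * a := by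
  intro a ha b hb
  have hc := h.cyc₁
  letI : CommGroup W₁ := IsCyclic.commGroup
  exact congrArg Subtype.val (mul_comm (⟨a, ha⟩ : W₁) ⟨b, hb⟩)

theorem comm₂ (h : PFSetup K W₁ W₂) : ∀ a ∈ W₂, ∀ b ∈ W₂, a * b = b * a := by
  intro a ha b hb
  have hc := h.cyc₂
  letI : CommGroup W₂ := IsCyclic.commGroup
  exact congrArg Subtype.val (mul_comm (⟨a, ha⟩ : W₂) ⟨b, hb⟩)

theorem commW (h : PFSetup K W₁ W₂) : ∀ u ∈ W₁ ⊔ W₂, ∀ v ∈ W₁ ⊔ W₂, u * v = v * u := by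
  intro u hu v hv
  obtain ⟨a, ha, b, hb, rfl⟩ := (mem_sup_of_commute h.comm).1 hu
  obtain ⟨a', ha', b', hb', rfl⟩ := (mem_sup_of_commute h.comm).1 hv
  have c1 : Commute a a' := h.comm₁ a ha a' ha'
  have c2 : Commute a b' := h.comm a ha b' hb'
  have c3 : Commute b a' := (h.comm a' ha' b hb).symm
  have c4 : Commute b b' := h.comm₂ b hb b' hb'
  exact ((c1.mul_right c2).mul_left (c3.mul_right c4)).eq

theorem decomp (h : PFSetup K W₁ W₂) (g : L) : ∃ k ∈ K, ∃ w ∈ W₁, g = k * w := by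
  haveI := h.normal
  have hmul : (K : Set L) * (W₁ : Set L) = Set.univ := by
    rw [← Subgroup.normal_mul, h.top, Subgroup.coe_top]
  have hg : g ∈ (K : Set L) * (W₁ : Set L) := by rw [hmul]; exact Set.mem_univ g
  obtain ⟨k, hk, w, hw, rfl⟩ := Set.mem_mul.1 hg
  exact ⟨k, hk, w, hw, rfl⟩

theorem index_eq (h : PFSetup K W₁ W₂) : W₁.index = Nat.card K := by
  haveI := h.normal
  have hmul : (K : Set L) * (W₁ : Set L) = Set.univ := by
    rw [← Subgroup.normal_mul, h.top, Subgroup.coe_top]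
  have hcomp : Subgroup.IsComplement' K W₁ :=
    Subgroup.isComplement'_of_disjoint_and_mul_eq_univ (disjoint_iff.2 h.disj) hmul
  exact hcomp.index_eq_card

theorem indexK_eq (h : PFSetup K W₁ W₂) : K.index = Nat.card W₁ := by
  haveI := h.normal
  have hmul : (K : Set L) * (W₁ : Set L) = Set.univ := by
    rw [← Subgroup.normal_mul, h.top, Subgroup.coe_top]
  have hcomp : Subgroup.IsComplement' K W₁ :=
    Subgroup.isComplement'_of_disjoint_and_mul_eq_univ (disjoint_iff.2 h.disj) hmul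
  exact hcomp.symm.index_eq_card

theorem eq_one_of_mem (h : PFSetup K W₁ W₂) {x : L} (hx : x ∈ W₁) (hxK : x ∈ K) : x = 1 := by
  have : x ∈ K ⊓ W₁ := ⟨hxK, hx⟩
  rw [h.disj] at this
  exact Subgroup.mem_bot.1 this

/-- the `W₁`-part of an element of `W` is a fixed power of it -/
theorem exists_exp [Finite L] (h : PFSetup K W₁ W₂) :
    ∃ a : ℕ, ∀ x ∈ W₁, ∀ z ∈ W₂, (x * z) ^ a = x := by
  have hcop : (Nat.card W₁).Coprime (Nat.card K) := by rw [← h.index_eq]; exact h.hall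
  refine ⟨(Nat.chineseRemainder hcop 1 0 : ℕ), ?_⟩
  have h1 := (Nat.chineseRemainder hcop 1 0).2.1
  have h0 := (Nat.chineseRemainder hcop 1 0).2.2
  intro x hx z hz
  have hc : Commute x z := h.comm x hx z hz
  rw [hc.mul_pow]
  have hx1 : x ^ (Nat.chineseRemainder hcop 1 0 : ℕ) = x ^ 1 := by
    rw [pow_eq_pow_iff_modEq]
    exact h1.of_dvd (Subgroup.orderOf_dvd_natCard W₁ hx)
  have hz1 : z ^ (Nat.chineseRemainder hcop 1 0 : ℕ) = 1 := by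
    rw [← orderOf_dvd_iff_pow_eq_one]
    exact (Subgroup.orderOf_dvd_natCard K (h.le hz)).trans ((Nat.modEq_zero_iff_dvd).1 h0)
  rw [hx1, hz1, pow_one, mul_one]

/-- an element conjugating some element of `W ∖ W₂` into `W` lies in `W` -/
theorem mem_of_conj [Finite L] (h : PFSetup K W₁ W₂) {y g : L} (hy : y ∈ W₁ ⊔ W₂)
    (hy2 : y ∉ W₂) (hg : g * y * g⁻¹ ∈ W₁ ⊔ W₂) : g ∈ W₁ ⊔ W₂ := by
  haveI := h.normal
  obtain ⟨x, hx, z, hz, rfl⟩ := (mem_sup_of_commute h.comm).1 hy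
  obtain ⟨x', hx', z', hz', hconj⟩ := (mem_sup_of_commute h.comm).1 hg
  have hx1 : x ≠ 1 := by
    rintro rfl
    rw [one_mul] at hy2
    exact hy2 hz
  obtain ⟨a, ha⟩ := h.exists_exp
  have hxx' : g * x * g⁻¹ = x' := by
    have e1 : (g * (x * z) * g⁻¹) ^ a = g * (x * z) ^ a * g⁻¹ := conj_pow
    rw [ha x hx z hz, hconj, ha x' hx' z' hz'] at e1
    exact e1.symm
  obtain ⟨k, hk, w, hw, rfl⟩ := h.decomp g
  have hwx : w * x * w⁻¹ = x := by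
    rw [h.comm₁ w hw x hx, mul_inv_cancel_right]
  have hkx : k * x * k⁻¹ = x' := by
    rw [← hxx']
    have : k * w * x * (k * w)⁻¹ = k * (w * x * w⁻¹) * k⁻¹ := by group
    rw [this, hwx]
  have hmem : x' * x⁻¹ = 1 := by
    apply h.eq_one_of_mem (Subgroup.mul_mem _ hx' (Subgroup.inv_mem _ hx))
    rw [← hkx]
    have : k * x * k⁻¹ * x⁻¹ = k * (x * k⁻¹ * x⁻¹) := by group
    rw [this]
    exact K.mul_mem hk (h.normal.conj_mem _ (K.inv_mem hk) x)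
  have hx'x : x' = x := mul_inv_eq_one.1 hmem
  rw [hx'x] at hkx
  have hkc : k * x = x * k := by
    have : k * x = k * x * k⁻¹ * k := by group
    rw [this, hkx]
  have hkW₂ : k ∈ W₂ := by
    rw [← h.cent x hx hx1]
    exact ⟨hk, Subgroup.mem_centralizer_singleton_iff.2 hkc⟩
  exact Subgroup.mul_mem _ ((le_sup_right : W₂ ≤ W₁ ⊔ W₂) hkW₂) ((le_sup_left : W₁ ≤ W₁ ⊔ W₂) hw)

theorem centralizer_eq [Finite L] (h : PFSetup K W₁ W₂) {y : L} (hy : y ∈ W₁ ⊔ W₂)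
    (hy2 : y ∉ W₂) : Subgroup.centralizer ({y} : Set L) = W₁ ⊔ W₂ := by
  apply le_antisymm
  · intro g hg
    have hgy : g * y = y * g := Subgroup.mem_centralizer_singleton_iff.1 hg
    apply h.mem_of_conj hy hy2
    rw [hgy, mul_inv_cancel_right]
    exact hy
  · intro g hg
    exact Subgroup.mem_centralizer_singleton_iff.2 (h.commW g hg y hy)

/-- the set `W ∖ W₂` -/
def tiSet (W₁ W₂ : Subgroup L) : Set L := {y | y ∈ W₁ ⊔ W₂ ∧ y ∉ W₂}

theorem exists_mem_tiSet (h : PFSetup K W₁ W₂) (hW₁ : W₁ ≠ ⊥) :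
    ∃ x ∈ W₁, x ≠ 1 ∧ x ∈ tiSet W₁ W₂ := by
  obtain ⟨x, hx, hx1⟩ : ∃ x ∈ W₁, x ≠ 1 := by
    by_contra hcon
    push Not at hcon
    exact hW₁ ((Subgroup.eq_bot_iff_forall _).2 hcon)
  refine ⟨x, hx, hx1, (le_sup_left : W₁ ≤ W₁ ⊔ W₂) hx, ?_⟩
  intro hx2
  exact hx1 (h.eq_one_of_mem hx (h.le hx2))

theorem normalizer_tiSet [Finite L] (h : PFSetup K W₁ W₂) (hW₁ : W₁ ≠ ⊥) :
    Subgroup.normalizer (tiSet W₁ W₂) = W₁ ⊔ W₂ := by
  apply le_antisymm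
  · intro g hg
    obtain ⟨x, -, -, hxT⟩ := h.exists_mem_tiSet hW₁
    have h1 := (Subgroup.mem_set_normalizer_iff.1 hg x).1 hxT
    exact h.mem_of_conj hxT.1 hxT.2 h1.1
  · intro g hg
    rw [Subgroup.mem_set_normalizer_iff]
    intro n
    constructor
    · intro hn
      have e : g * n * g⁻¹ = n := by rw [h.commW g hg n hn.1, mul_inv_cancel_right]
      rw [e]; exact hn
    · intro hn
      have hgi : g⁻¹ ∈ W₁ ⊔ W₂ := Subgroup.inv_mem _ hg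
      have hm : g⁻¹ * (g * n * g⁻¹) * g⁻¹⁻¹ = g * n * g⁻¹ := by
        rw [h.commW g⁻¹ hgi _ hn.1, mul_inv_cancel_right]
      have e : n = g * n * g⁻¹ :=
        calc n = g⁻¹ * (g * n * g⁻¹) * g⁻¹⁻¹ := by group
          _ = g * n * g⁻¹ := hm
      rw [e]; exact hn

theorem tiSet_TI [Finite L] (h : PFSetup K W₁ W₂) :
    ∀ g : L, g ∉ W₁ ⊔ W₂ → ∀ t ∈ tiSet W₁ W₂, g * t * g⁻¹ ∈ tiSet W₁ W₂ → t = 1 := by
  intro g hg t ht hgt
  exact absurd (h.mem_of_conj ht.1 ht.2 hgt.1) hg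

end PFSetup

section Induction

variable {G : Type u} [Group G] [Fintype G]

theorem indFun_TI_apply' (T : Set G) (N : Subgroup G) (hN : Subgroup.normalizer T = N)
    (hTI : ∀ g : G, g ∉ N → ∀ t ∈ T, g * t * g⁻¹ ∈ T → t = 1)
    (ψ : N → ℂ) (hψ : Cfsg.IsClassFunction N ψ)
    (hψT : ∀ x : N, (x : G) ∉ T → ψ x = 0)
    (t : N) (htT : (t : G) ∈ T) (ht1 : t ≠ 1) :
    Cfsg.indFun N ψ t = ψ t := by
  subst hN
  exact Cfsg.Agent.Lib.Helper3.indFun_TI_apply T hTI ψ hψ hψT t htT ht1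

theorem classInner_indFun_TI' (T : Set G) (N : Subgroup G) (hN : Subgroup.normalizer T = N)
    (hTI : ∀ g : G, g ∉ N → ∀ t ∈ T, g * t * g⁻¹ ∈ T → t = 1)
    [Fintype N] (ψ θ : N → ℂ) (hψ : Cfsg.IsClassFunction N ψ) (hθ : Cfsg.IsClassFunction N θ)
    (hψT : ∀ x : N, (x : G) ∉ T → ψ x = 0) (hθT : ∀ x : N, (x : G) ∉ T → θ x = 0)
    (hψ1 : ψ 1 = 0) :
    Cfsg.classInner (Cfsg.indFun N ψ) (Cfsg.indFun N θ) = Cfsg.classInner ψ θ := by
  subst hN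
  exact Cfsg.Agent.Lib.Helper3.classInner_indFun_TI T hTI ψ θ hψ hθ hψT hθT hψ1

theorem indFun_one_eq_zero (H : Subgroup G) (φ : H → ℂ) (h1 : φ 1 = 0) :
    Cfsg.indFun H φ 1 = 0 := by
  unfold Cfsg.indFun
  have : ∀ x : G, Cfsg.extendByZero H φ (x⁻¹ * 1 * x) = 0 := by
    intro x
    have e : x⁻¹ * 1 * x = ((1 : H) : G) := by simp
    rw [e, Cfsg.Agent.Lib.Helper3.extendByZero_coe, h1]
  simp only [this, Finset.sum_const_zero, mul_zero]

variable {K W₁ W₂ : Subgroup G}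

omit [Fintype G] in
theorem PFSetup.isClassFunction (h : PFSetup K W₁ W₂) (φ : ↥(W₁ ⊔ W₂) → ℂ) :
    Cfsg.IsClassFunction ↥(W₁ ⊔ W₂) φ := by
  intro g k
  have : k * g * k⁻¹ = g := by
    apply Subtype.ext
    show (k : G) * g * (k : G)⁻¹ = g
    rw [h.commW k k.2 g g.2, mul_inv_cancel_right]
  rw [this]

/-- induction from `W` does not change the values on `W ∖ W₂` of a function vanishing on
`W₂` -/
theorem PFSetup.indFun_eq (h : PFSetup K W₁ W₂) (hW₁ : W₁ ≠ ⊥) (φ : ↥(W₁ ⊔ W₂) → ℂ)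
    (hφ : ∀ w : ↥(W₁ ⊔ W₂), (w : G) ∈ W₂ → φ w = 0) (w : ↥(W₁ ⊔ W₂)) (hw : (w : G) ∉ W₂) :
    Cfsg.indFun (W₁ ⊔ W₂) φ w = φ w := by
  apply indFun_TI_apply' (PFSetup.tiSet W₁ W₂) (W₁ ⊔ W₂) (h.normalizer_tiSet hW₁) h.tiSet_TI φ
    (h.isClassFunction φ)
  · intro x hx
    apply hφ
    by_contra hx2
    exact hx ⟨x.2, hx2⟩
  · exact ⟨w.2, hw⟩
  · intro h1
    apply hw
    rw [h1]
    exact W₂.one_mem

/-- induction from `W` is an isometry on functions vanishing on `W₂` -/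
theorem PFSetup.inner_ind (h : PFSetup K W₁ W₂) (hW₁ : W₁ ≠ ⊥) [Fintype ↥(W₁ ⊔ W₂)]
    (φ ψ : ↥(W₁ ⊔ W₂) → ℂ)
    (hφ : ∀ w : ↥(W₁ ⊔ W₂), (w : G) ∈ W₂ → φ w = 0)
    (hψ : ∀ w : ↥(W₁ ⊔ W₂), (w : G) ∈ W₂ → ψ w = 0) :
    Cfsg.classInner (Cfsg.indFun (W₁ ⊔ W₂) φ) (Cfsg.indFun (W₁ ⊔ W₂) ψ) =
      Cfsg.classInner φ ψ := by
  apply classInner_indFun_TI' (PFSetup.tiSet W₁ W₂) (W₁ ⊔ W₂) (h.normalizer_tiSet hW₁)
    h.tiSet_TI φ ψ (h.isClassFunction φ) (h.isClassFunction ψ)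
  · intro x hx
    apply hφ
    by_contra hx2
    exact hx ⟨x.2, hx2⟩
  · intro x hx
    apply hψ
    by_contra hx2
    exact hx ⟨x.2, hx2⟩
  · exact hφ 1 W₂.one_mem

end Induction

end Cfsg.Agent.Lib.Helper25
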