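import Mathlib
import Cfsg.Prelude.Def_OddOrderChar
import Cfsg.Agent.Lib.Helper25.PF65
import Cfsg.Agent.S1517

/-!
# Further auxiliary results for the coherence descent theorems

* `coherent_above_commutator`: the set of characters induced from the linear characters of `K`
  trivial on a normal subgroup containing the commutator subgroup is coherent.
* `sum_small_degree_ge`: a counting bound for the irreducible characters of small degree of a
  group with a normal subgroup of prime power index.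
-/

set_option autoImplicit false

namespace Cfsg.Agent.Lib.Helper25

open Cfsg Cfsg.Agent.Lib.Helper80 Cfsg.Agent.Lib.Helper26
open scoped ComplexConjugate commutatorElement

section step0

variable {L : Type*} [Group L] [Fintype L] {G : Type*} [Group G] [Fintype G]
  (K : Subgroup L) [hK : K.Normal]

theorem coherent_above_commutator (hsolv : Group.IsSolvable K) {τ : (L → ℂ) → (G → ℂ)}
    {R : (L → ℂ) → Finset (G → ℂ)} (hS : IsCoherenceSystem (inducedIrrAbove K ⊥) τ R)
    (H₁ : Subgroup L) [H₁.Normal] (hKK : ⁅K, K⁆ ≤ H₁) (hH₁K : H₁ < K) :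
    IsCoherent (inducedIrrAbove K H₁) {1}ᶜ τ := by
  have hS' : IsCoherenceSystem (inducedIrrAbove K H₁) τ R :=
    coherenceSystem_subset hS (above_subset_bot K H₁) (above_nonempty K hsolv H₁ hH₁K)
      (fun χ hχ => conj_mem_above K H₁ hχ)
  apply Cfsg.Agent.S1517.result _ τ R hS'
  have hdeg : ∀ φ ∈ inducedIrrAbove K H₁, φ 1 = (K.index : ℂ) := by
    rintro φ ⟨θ, hθ, -, hker, rfl⟩
    rw [indFun_apply_one]
    have h1 : θ 1 = 1 := by
      apply linear_of_commutator hθ
      intro c hc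
      apply hker
      apply hKK
      have h2 : (commutator ↥K).map K.subtype = ⁅K, K⁆ := Subgroup.map_subtype_commutator K
      rw [← h2]
      exact ⟨c, hc, rfl⟩
    rw [h1, mul_one]
  intro φ hφ ψ hψ
  rw [hdeg φ hφ, hdeg ψ hψ]

end step0

section counting

variable {K : Type*} [Group K] [Finite K]

theorem sum_small_degree_ge [Fintype (IrrCharacter K)] (M' : Subgroup K) [M'.Normal] {p m k : ℕ}
    (hp : p.Prime) (hidx : M'.index = p ^ m) (θ : IrrCharacter K)
    (hθM : ∀ x ∈ M', (θ : K → ℂ) x = (θ : K → ℂ) 1) (hθd : charDegree (θ : K → ℂ) = p ^ k)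
    (hk : 1 ≤ k) (P : IrrCharacter K → Prop) [DecidablePred P]
    (hP : ∀ χ : IrrCharacter K, P χ ↔ ((χ : K → ℂ) ≠ (fun _ => 1) ∧
      (∀ x ∈ M', (χ : K → ℂ) x = (χ : K → ℂ) 1) ∧ charDegree (χ : K → ℂ) < p ^ k)) :
    p ^ (2 * k) - 1 ≤ ∑ χ ∈ Finset.univ.filter P, charDegree (χ : K → ℂ) ^ 2 := by
  classical
  set F : Finset (IrrCharacter K) := Finset.univ.filter
    (fun χ : IrrCharacter K => ∀ x ∈ M', (χ : K → ℂ) x = (χ : K → ℂ) 1) with hF
  have hsum : ∑ χ ∈ F, charDegree (χ : K → ℂ) ^ 2 = p ^ m := by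
    rw [← hidx, ← sum_charDegree_sq_filter_ker M']
  have hpow : ∀ χ ∈ F, ∃ j, charDegree (χ : K → ℂ) = p ^ j := by
    intro χ hχ
    obtain ⟨ψ, hψ, hψχ⟩ := exists_isIrrCharacter_deflate M' χ.2 (Finset.mem_filter.mp hχ).2
    have h1 : charDegree ψ ∣ Nat.card (K ⧸ M') := charDegree_dvd_card hψ
    have h2 : charDegree ψ = charDegree (χ : K → ℂ) := by
      have h3 := hψχ 1
      rw [QuotientGroup.mk_one, char_one_eq_charDegree (isCharacter_of_isIrrCharacter hψ),
        char_one_eq_charDegree (isCharacter_of_isIrrCharacter χ.2)] at h3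
      exact_mod_cast h3
    rw [h2, ← Subgroup.index_eq_card, hidx] at h1
    obtain ⟨j, -, hj⟩ := (Nat.dvd_prime_pow hp).mp h1
    exact ⟨j, hj⟩
  have hsplit := Finset.sum_filter_add_sum_filter_not F
    (fun χ : IrrCharacter K => charDegree (χ : K → ℂ) < p ^ k)
    (fun χ : IrrCharacter K => charDegree (χ : K → ℂ) ^ 2)
  set Fs : Finset (IrrCharacter K) :=
    F.filter (fun χ : IrrCharacter K => charDegree (χ : K → ℂ) < p ^ k) with hFs
  set Fb : Finset (IrrCharacter K) :=
    F.filter (fun χ : IrrCharacter K => ¬ charDegree (χ : K → ℂ) < p ^ k) with hFb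
  have hbig : p ^ (2 * k) ∣ ∑ χ ∈ Fb, charDegree (χ : K → ℂ) ^ 2 := by
    apply Finset.dvd_sum
    intro χ hχ
    obtain ⟨hχF, hχd⟩ := Finset.mem_filter.mp hχ
    obtain ⟨j, hj⟩ := hpow χ hχF
    rw [hj, ← pow_mul]
    apply pow_dvd_pow
    have h1 : p ^ k ≤ p ^ j := by
      rw [← hj]
      omega
    have h2 := (Nat.pow_le_pow_iff_right hp.one_lt).mp h1
    omega
  have hθb : θ ∈ Fb := by
    rw [hFb, Finset.mem_filter, hF, Finset.mem_filter]
    exact ⟨⟨Finset.mem_univ _, hθM⟩, by rw [hθd]; exact lt_irrefl _⟩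
  have hbig_ge : p ^ (2 * k) ≤ ∑ χ ∈ Fb, charDegree (χ : K → ℂ) ^ 2 := by
    calc p ^ (2 * k) = charDegree (θ : K → ℂ) ^ 2 := by rw [hθd, ← pow_mul, mul_comm]
      _ ≤ _ := Finset.single_le_sum (f := fun χ : IrrCharacter K => charDegree (χ : K → ℂ) ^ 2)
          (fun _ _ => Nat.zero_le _) hθb
  have hpk : 1 < p ^ k := Nat.one_lt_pow (by omega) hp.one_lt
  have htriv : trivIrr K ∈ Fs := by
    rw [hFs, Finset.mem_filter, hF, Finset.mem_filter]
    refine ⟨⟨Finset.mem_univ _, fun x _ => rfl⟩, ?_⟩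
    rw [charDegree_trivIrr]
    exact hpk
  have hs_pos : 1 ≤ ∑ χ ∈ Fs, charDegree (χ : K → ℂ) ^ 2 := by
    calc 1 = charDegree ((trivIrr K : IrrCharacter K) : K → ℂ) ^ 2 := by
          rw [charDegree_trivIrr, one_pow]
      _ ≤ _ := Finset.single_le_sum (f := fun χ : IrrCharacter K => charDegree (χ : K → ℂ) ^ 2)
          (fun _ _ => Nat.zero_le _) htriv
  have hdvd_s : p ^ (2 * k) ∣ ∑ χ ∈ Fs, charDegree (χ : K → ℂ) ^ 2 := by
    have h2km : 2 * k ≤ m := by
      have h1 : p ^ (2 * k) ≤ p ^ m := by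
        rw [← hsum, ← hsplit]
        omega
      exact (Nat.pow_le_pow_iff_right hp.one_lt).mp h1
    have h2 : p ^ (2 * k) ∣ p ^ m := pow_dvd_pow p h2km
    rw [← hsum, ← hsplit] at h2
    exact (Nat.dvd_add_left hbig).mp h2
  have hs_ge : p ^ (2 * k) ≤ ∑ χ ∈ Fs, charDegree (χ : K → ℂ) ^ 2 :=
    Nat.le_of_dvd (by omega) hdvd_s
  have htarget : Finset.univ.filter P = Fs.erase (trivIrr K) := by
    ext χ
    rw [Finset.mem_filter, hP, Finset.mem_erase, hFs, Finset.mem_filter, hF, Finset.mem_filter]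
    constructor
    · rintro ⟨-, h1, h2, h3⟩
      refine ⟨fun h => h1 ?_, ⟨Finset.mem_univ _, h2⟩, h3⟩
      rw [h]
      rfl
    · rintro ⟨h1, ⟨-, h2⟩, h3⟩
      refine ⟨Finset.mem_univ _, fun h => h1 (Subtype.ext ?_), h2, h3⟩
      rw [h]
      rfl
  rw [htarget]
  have h5 := Finset.add_sum_erase Fs (fun χ : IrrCharacter K => charDegree (χ : K → ℂ) ^ 2) htriv
  simp only [charDegree_trivIrr, one_pow] at h5
  omega

end counting

end Cfsg.Agent.Lib.Helper25
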