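import Mathlib
import Cfsg.Prelude.Def_OddOrderChar
import Cfsg.Prelude.Def_OddOrderLocal
import Cfsg.Agent.Lib.Helper25.PF65b
import Cfsg.Agent.Lib.Helper25.PF43
import Cfsg.Agent.Lib.Helper75.CharInd
import Cfsg.Agent.Lib.Helper3.BrauerIdeal
import Cfsg.Agent.S1514
import Cfsg.Agent.S0171
import Cfsg.Agent.S0161

/-!
# The coherence system of a Frobenius group with a TI kernel

Setting of the Feit-Sibley theorem: `H ≤ L ≤ G`, `L = H ⋊ W₁` a Frobenius group of odd order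
with kernel `H`, the set `H` a TI-subset of `G` with normaliser `L`.  With `K = H.subgroupOf L`:

* `frob_induced_irr`: the function induced from a non-principal irreducible character of `K`
  is an irreducible character of `L`;
* `frob_conj_ne`: no member of `inducedIrrAbove K ⊥` is real;
* `frob_isometry`: induction from `L` to `G` is a linear isometry on the integer combinations
  of `inducedIrrAbove K ⊥` vanishing at `1`;
* `frob_coherenceSystem`: there is `R` making `(inducedIrrAbove K ⊥, Ind, R)` a coherence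
  system.
-/

set_option autoImplicit false

namespace Cfsg.Agent.Lib.Helper25

open Cfsg Cfsg.Agent.Lib.Helper80 Cfsg.Agent.Lib.Helper26

section general

variable {L : Type*} [Group L] [Fintype L] (K : Subgroup L) [hK : K.Normal]

/-- A function induced from a normal subgroup vanishes outside it. -/
theorem indFun_apply_of_notMem (θ : K → ℂ) {x : L} (hx : x ∉ K) : Cfsg.indFun K θ x = 0 := by
  unfold Cfsg.indFun
  rw [Finset.sum_eq_zero, mul_zero]
  intro y _
  apply extendByZero_of_not_mem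
  intro h
  apply hx
  have h1 := hK.conj_mem _ h y
  have h2 : y * (y⁻¹ * x * y) * y⁻¹ = x := by group
  rw [h2] at h1
  exact h1

omit hK in
theorem zspan_isGen {S : Set (L → ℂ)} (hS : ∀ φ ∈ S, IsCharacter L φ) {α : L → ℂ}
    (hα : α ∈ zspan S) : IsGeneralizedCharacter L α := by
  have hα' : α ∈ Submodule.span ℤ S := hα
  refine Submodule.span_induction (p := fun α _ => IsGeneralizedCharacter L α) ?_ ?_ ?_ ?_ hα'
  · intro φ hφ
    exact isGen_of_isCharacter (hS φ hφ)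
  · exact isGen_zero
  · intro a b _ _ ha hb
    exact isGen_add ha hb
  · intro n a _ ha
    exact isGen_zsmul ha n

omit [Fintype L] hK in
theorem isClassFunction_of_isGen {α : L → ℂ} (hα : IsGeneralizedCharacter L α) :
    IsClassFunction L α := by
  obtain ⟨χ, ψ, hχ, hψ, rfl⟩ := hα
  intro g h
  simp only [Pi.sub_apply]
  rw [Cfsg.Agent.Lib.Helper80.isClassFunction_of_isCharacter hχ g h,
    Cfsg.Agent.Lib.Helper80.isClassFunction_of_isCharacter hψ g h]

theorem zspan_above_vanish (A : Subgroup L) {α : L → ℂ}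
    (hα : α ∈ zspan (inducedIrrAbove K A)) {x : L} (hx : x ∉ K) : α x = 0 := by
  have hα' : α ∈ Submodule.span ℤ (inducedIrrAbove K A) := hα
  refine Submodule.span_induction (p := fun α _ => α x = 0) ?_ ?_ ?_ ?_ hα'
  · rintro φ ⟨θ, -, -, -, rfl⟩
    exact indFun_apply_of_notMem K θ hx
  · rfl
  · intro a b _ _ ha hb
    rw [Pi.add_apply, ha, hb, add_zero]
  · intro n a _ ha
    rw [Pi.smul_apply, ha, smul_zero]

omit hK in
theorem above_isCharacter (A : Subgroup L) : ∀ φ ∈ inducedIrrAbove K A, IsCharacter L φ := by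
  rintro φ ⟨θ, hθ, -, -, rfl⟩
  exact Cfsg.Agent.Lib.Helper75.isCharacter_indFun K (isCharacter_of_isIrrCharacter hθ)

end general

/-- A nontrivial finite group has a non-principal irreducible character. -/
theorem exists_irr_ne_one {K : Type*} [Group K] [Finite K] [Nontrivial K] :
    ∃ θ : K → ℂ, IsIrrCharacter K θ ∧ θ ≠ fun _ => 1 := by
  classical
  by_contra hcon
  push Not at hcon
  haveI : Fintype K := Fintype.ofFinite K
  haveI : Finite (IrrCharacter K) := irr_finite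
  haveI : Fintype (IrrCharacter K) := Fintype.ofFinite _
  have h1 := sum_charDegree_sq (G := K)
  have h2 : ∀ χ : IrrCharacter K, χ = trivIrr K := fun χ => Subtype.ext (hcon χ.1 χ.2)
  have h3 : (Finset.univ : Finset (IrrCharacter K)) = {trivIrr K} := by
    ext χ
    simp [h2 χ]
  rw [h3, Finset.sum_singleton, charDegree_trivIrr, one_pow] at h1
  have h4 := Finite.one_lt_card (α := K)
  omega

section frob

variable {G : Type*} [Group G] [Fintype G] (H L W₁ : Subgroup G) [Fintype L]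

omit [Fintype G] [Fintype L] in
theorem normal_subgroupOf_of_conj (hHn : ∀ x ∈ L, ∀ h ∈ H, x * h * x⁻¹ ∈ H) :
    (H.subgroupOf L).Normal :=
  ⟨fun h hh x => Subgroup.mem_subgroupOf.mpr (by
    have h1 := hHn x x.2 h (Subgroup.mem_subgroupOf.mp hh)
    simpa using h1)⟩

omit [Fintype G] in
theorem frob_induced_irr [hn : (H.subgroupOf L).Normal] (hHL : H ≤ L) (hW₁L : W₁ ≤ L)
    (hinf : H ⊓ W₁ = ⊥) (hsup : H ⊔ W₁ = L)
    (hfpf : ∀ w ∈ W₁, w ≠ 1 → ∀ h ∈ H, w * h = h * w → h = 1)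
    {θ : H.subgroupOf L → ℂ} (hθ : IsIrrCharacter (H.subgroupOf L) θ) (hθ1 : θ ≠ fun _ => 1) :
    IsIrrCharacter L (Cfsg.indFun (H.subgroupOf L) θ) := by
  apply Cfsg.Agent.S0171.result (H.subgroupOf L) (W₁.subgroupOf L) ?_ ?_ ?_ θ hθ hθ1
  · rw [eq_bot_iff]
    intro x hx
    have h1 : (x : G) ∈ H ⊓ W₁ :=
      ⟨Subgroup.mem_subgroupOf.mp hx.1, Subgroup.mem_subgroupOf.mp hx.2⟩
    rw [hinf, Subgroup.mem_bot] at h1
    rw [Subgroup.mem_bot]
    exact Subtype.ext h1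
  · rw [← Subgroup.subgroupOf_sup hHL hW₁L, hsup, Subgroup.subgroupOf_self]
  · intro w hw hw1 k hk hwk
    have h1 := hfpf w (Subgroup.mem_subgroupOf.mp hw) (fun h => hw1 (Subtype.ext h)) k
      (Subgroup.mem_subgroupOf.mp hk) (congrArg Subtype.val hwk)
    exact Subtype.ext h1

omit [Fintype G] in
theorem frob_above_irr [hn : (H.subgroupOf L).Normal] (hHL : H ≤ L) (hW₁L : W₁ ≤ L)
    (hinf : H ⊓ W₁ = ⊥) (hsup : H ⊔ W₁ = L)
    (hfpf : ∀ w ∈ W₁, w ≠ 1 → ∀ h ∈ H, w * h = h * w → h = 1) (A : Subgroup L) :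
    ∀ χ ∈ inducedIrrAbove (H.subgroupOf L) A, IsIrrCharacter L χ := by
  rintro χ ⟨θ, hθ, hθ1, -, rfl⟩
  exact frob_induced_irr H L W₁ hHL hW₁L hinf hsup hfpf hθ hθ1

omit [Fintype G] in
theorem frob_conj_ne [hn : (H.subgroupOf L).Normal] (hodd : Odd (Nat.card L)) (hHL : H ≤ L)
    (hW₁L : W₁ ≤ L) (hW1 : W₁ ≠ ⊥) (hinf : H ⊓ W₁ = ⊥) (hsup : H ⊔ W₁ = L)
    (hfpf : ∀ w ∈ W₁, w ≠ 1 → ∀ h ∈ H, w * h = h * w → h = 1) (A : Subgroup L) :
    ∀ χ ∈ inducedIrrAbove (H.subgroupOf L) A, conjFun χ ≠ χ := by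
  intro χ hχ hconj
  have hirr := frob_above_irr H L W₁ hHL hW₁L hinf hsup hfpf A χ hχ
  have h1 := Cfsg.Agent.S0161.result hodd ⟨χ, hirr⟩ (by
    intro g
    have h2 := congrFun hconj g
    unfold conjFun at h2
    exact Complex.conj_eq_iff_im.mp h2)
  obtain ⟨θ, -, -, -, rfl⟩ := hχ
  obtain ⟨w, hw1⟩ := (Subgroup.ne_bot_iff_exists_ne_one).mp hW1
  have hwH : (w : G) ∉ H := by
    intro h
    have h3 : (w : G) ∈ H ⊓ W₁ := ⟨h, w.2⟩
    rw [hinf, Subgroup.mem_bot] at h3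
    exact hw1 (Subtype.ext h3)
  have h4 := indFun_apply_of_notMem (H.subgroupOf L) θ (x := ⟨(w : G), hW₁L w.2⟩)
    (fun h => hwH (Subgroup.mem_subgroupOf.mp h))
  have h5 := congrFun h1 ⟨(w : G), hW₁L w.2⟩
  simp only at h5
  rw [h4] at h5
  exact zero_ne_one h5

theorem frob_isometry [hn : (H.subgroupOf L).Normal] (hTI : IsTISubset (H : Set G))
    (hN : Subgroup.normalizer (H : Set G) = L) :
    IsLinearIsometryOn (zspanOn (inducedIrrAbove (H.subgroupOf L) ⊥) {1}ᶜ)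
      (fun α : L → ℂ => Cfsg.indFun L α) ∧
    ∀ α ∈ zspanOn (inducedIrrAbove (H.subgroupOf L) ⊥) {1}ᶜ, Cfsg.indFun L α 1 = 0 := by
  have hTI' : ∀ g : G, g ∉ L → ∀ t ∈ (H : Set G), g * t * g⁻¹ ∈ (H : Set G) → t = 1 := by
    intro g hg
    rw [← hN] at hg
    exact hTI g hg
  have hgen : ∀ α ∈ zspanOn (inducedIrrAbove (H.subgroupOf L) ⊥) {1}ᶜ,
      IsGeneralizedCharacter L α := fun α hα =>
    zspan_isGen (above_isCharacter (H.subgroupOf L) ⊥) hα.1
  have hvan : ∀ α ∈ zspanOn (inducedIrrAbove (H.subgroupOf L) ⊥) {1}ᶜ,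
      ∀ x : L, (x : G) ∉ (H : Set G) → α x = 0 := fun α hα x hx =>
    zspan_above_vanish (H.subgroupOf L) ⊥ hα.1 (fun h => hx (Subgroup.mem_subgroupOf.mp h))
  have hone : ∀ α ∈ zspanOn (inducedIrrAbove (H.subgroupOf L) ⊥) {1}ᶜ, α 1 = 0 := fun α hα =>
    hα.2 1 (by simp)
  refine ⟨⟨?_, ?_, ?_, ?_⟩, ?_⟩
  · intro α _ β _
    exact Cfsg.Agent.Lib.Helper3.indFun_add L α β
  · intro α _ n
    show Cfsg.indFun L (n • α) = n • Cfsg.indFun L α
    rw [zsmul_eq_smul, zsmul_eq_smul]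
    exact Cfsg.Agent.Lib.Helper3.indFun_smul L (n : ℂ) α
  · intro α hα β hβ
    exact classInner_indFun_TI' (H : Set G) L hN hTI' α β
      (isClassFunction_of_isGen (hgen α hα)) (isClassFunction_of_isGen (hgen β hβ))
      (hvan α hα) (hvan β hβ) (hone α hα)
  · intro α hα
    obtain ⟨χ, ψ, hχ, hψ, rfl⟩ := hgen α hα
    refine ⟨Cfsg.indFun L χ, Cfsg.indFun L ψ, Cfsg.Agent.Lib.Helper75.isCharacter_indFun L hχ,
      Cfsg.Agent.Lib.Helper75.isCharacter_indFun L hψ, ?_⟩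
    exact Cfsg.Agent.Lib.Helper3.indFun_sub L χ ψ
  · intro α hα
    exact indFun_one_eq_zero L α (hone α hα)

theorem frob_coherenceSystem [hn : (H.subgroupOf L).Normal] (hodd : Odd (Nat.card L))
    (hHL : H ≤ L) (hW₁L : W₁ ≤ L) (hH1 : H ≠ ⊥) (hW1 : W₁ ≠ ⊥) (hinf : H ⊓ W₁ = ⊥)
    (hsup : H ⊔ W₁ = L) (hfpf : ∀ w ∈ W₁, w ≠ 1 → ∀ h ∈ H, w * h = h * w → h = 1)
    (hTI : IsTISubset (H : Set G)) (hN : Subgroup.normalizer (H : Set G) = L) :
    ∃ R : (L → ℂ) → Finset (G → ℂ),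
      IsCoherenceSystem (inducedIrrAbove (H.subgroupOf L) ⊥)
        (fun α : L → ℂ => Cfsg.indFun L α) R := by
  have hne : (inducedIrrAbove (H.subgroupOf L) ⊥).Nonempty := by
    haveI : Nontrivial (H.subgroupOf L) := by
      obtain ⟨h, hh1⟩ := (Subgroup.ne_bot_iff_exists_ne_one).mp hH1
      refine ⟨⟨⟨⟨(h : G), hHL h.2⟩, Subgroup.mem_subgroupOf.mpr h.2⟩, 1, ?_⟩⟩
      intro h2
      apply hh1
      have h3 := congrArg (fun x : H.subgroupOf L => ((x : L) : G)) h2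
      exact Subtype.ext h3
    obtain ⟨θ, hθ, hθ1⟩ := exists_irr_ne_one (K := H.subgroupOf L)
    exact ⟨Cfsg.indFun (H.subgroupOf L) θ, θ, hθ, hθ1, fun a ha => by
      rw [Subgroup.mem_bot] at ha
      have : a = 1 := Subtype.ext ha
      rw [this], rfl⟩
  obtain ⟨hiso, hone⟩ := frob_isometry H L hTI hN
  exact Cfsg.Agent.S1514.result _ hne (frob_above_irr H L W₁ hHL hW₁L hinf hsup hfpf ⊥)
    (fun χ hχ => ⟨conj_mem_above (H.subgroupOf L) ⊥ hχ,
      frob_conj_ne H L W₁ hodd hHL hW₁L hW1 hinf hsup hfpf ⊥ χ hχ⟩) _ hiso hone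

end frob

end Cfsg.Agent.Lib.Helper25
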