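import Mathlib
import Cfsg.Prelude.Def_OddOrderChar
import Cfsg.Prelude.Def_OddOrderLocal
import Cfsg.Agent.Lib.Helper25.CN1
import Cfsg.Agent.Lib.Helper25.FrobSys
import Cfsg.Agent.Lib.Helper4.FrobChar
import Cfsg.Agent.Lib.Helper4.Exceptional
import Cfsg.Agent.Lib.Helper69.Wielandt
import Cfsg.Agent.S1528
import Cfsg.Agent.S1529
import Cfsg.Agent.S0852
import Cfsg.Agent.S0853

/-!
# The exceptional characters of a sector

For a group `N` with a normal subgroup `K` containing the centralisers of its non-identity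
elements: `relChars K`, the finite set of irreducible characters of `N` not trivial on `K`,
and the standard sums over it.

For a sector `K` of `G` (see `CN1`) whose set of induced characters is coherent:
`SectorPkg K`, the exceptional characters of `G` with their values on `K` and their relation
to the other irreducible characters (`exists_sectorPkg`).
-/

set_option autoImplicit false

namespace Cfsg.Agent.Lib.Helper25

open Cfsg Cfsg.Agent.Lib.Helper80 Cfsg.Agent.Lib.Helper26
open scoped ComplexConjugate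

section rel

variable {N : Type*} [Group N] [Finite N] (K : Subgroup N)

/-- The irreducible characters of `N` that are not trivial on `K`. -/
noncomputable def relChars : Finset (IrrCharacter N) :=
  haveI : Fintype (IrrCharacter N) := Fintype.ofFinite _
  haveI : DecidablePred (fun χ : IrrCharacter N =>
    ¬ ∀ x ∈ K, (χ : N → ℂ) x = (χ : N → ℂ) 1) := Classical.decPred _
  Finset.univ.filter (fun χ : IrrCharacter N => ¬ ∀ x ∈ K, (χ : N → ℂ) x = (χ : N → ℂ) 1)

theorem mem_relChars {χ : IrrCharacter N} :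
    χ ∈ relChars K ↔ ¬ ∀ x ∈ K, (χ : N → ℂ) x = (χ : N → ℂ) 1 := by
  unfold relChars
  simp only [Finset.mem_filter, Finset.mem_univ, true_and]

end rel

section relsums

variable {N : Type*} [Group N] [Fintype N] (K : Subgroup N) [K.Normal]

theorem rel_sum_deg_sq :
    ∑ χ ∈ relChars K, Cfsg.charDegree (χ : N → ℂ) ^ 2 + K.index = Nat.card N := by
  classical
  haveI : Fintype (IrrCharacter N) := Fintype.ofFinite _
  have h := Cfsg.Agent.Lib.Helper4.sum_rel_deg_sq K
  convert h using 3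
  ext χ
  rw [mem_relChars]
  simp only [Finset.mem_filter, Finset.mem_univ, true_and]

theorem rel_sum_mul_deg {k : N} (hk : k ∈ K) (hk1 : k ≠ 1) :
    ∑ χ ∈ relChars K, (χ : N → ℂ) k * conj ((χ : N → ℂ) 1) = -(K.index : ℂ) := by
  classical
  haveI : Fintype (IrrCharacter N) := Fintype.ofFinite _
  have h := Cfsg.Agent.Lib.Helper4.sum_rel_mul_deg K hk hk1
  convert h using 2
  ext χ
  rw [mem_relChars]
  simp only [Finset.mem_filter, Finset.mem_univ, true_and]

theorem rel_sum_normSq {k : N} (hk : k ∈ K) :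
    ∑ χ ∈ relChars K, (χ : N → ℂ) k * conj ((χ : N → ℂ) k) + (K.index : ℂ) =
      (Nat.card (Subgroup.centralizer ({k} : Set N)) : ℂ) := by
  classical
  haveI : Fintype (IrrCharacter N) := Fintype.ofFinite _
  have h_all := second_orthogonality_of_isConj (G := N) (IsConj.refl k)
  have h_ker := second_orthogonality_filter_ker K k k
  rw [if_pos (IsConj.refl _)] at h_ker
  have hk' : (k : N ⧸ K) = ((1 : N) : N ⧸ K) := by
    rw [QuotientGroup.mk_one]
    exact (QuotientGroup.eq_one_iff k).2 hk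
  have hcent : Nat.card (Subgroup.centralizer ({(k : N ⧸ K)} : Set (N ⧸ K))) = K.index := by
    have : Subgroup.centralizer ({(k : N ⧸ K)} : Set (N ⧸ K)) = ⊤ := by
      rw [eq_top_iff]
      intro y _
      rw [Subgroup.mem_centralizer_iff]
      intro z hz
      rw [Set.mem_singleton_iff.mp hz, hk', QuotientGroup.mk_one]
      simp
    rw [this, Subgroup.card_top]
    rfl
  rw [hcent] at h_ker
  rw [← Finset.sum_filter_add_sum_filter_not Finset.univ
    (fun χ : Cfsg.IrrCharacter N => ∀ x ∈ K, (χ : N → ℂ) x = (χ : N → ℂ) 1), h_ker] at h_all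
  have hfil : relChars K = Finset.univ.filter
      (fun χ : Cfsg.IrrCharacter N => ¬ ∀ x ∈ K, (χ : N → ℂ) x = (χ : N → ℂ) 1) := by
    ext χ
    rw [mem_relChars]
    simp only [Finset.mem_filter, Finset.mem_univ, true_and]
  rw [hfil, ← h_all]
  ring

theorem rel_vanish' (hfrob : ∀ k ∈ K, k ≠ 1 → ∀ x : N, x * k = k * x → x ∈ K)
    {χ : IrrCharacter N} (hχ : χ ∈ relChars K) {x : N} (hx : x ∉ K) : (χ : N → ℂ) x = 0 := by
  classical
  haveI : Fintype (IrrCharacter N) := Fintype.ofFinite _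
  exact Cfsg.Agent.Lib.Helper4.rel_vanish K hfrob χ ((mem_relChars K).mp hχ) hx

omit [K.Normal] in
theorem rel_sum_eq_zero' {χ : IrrCharacter N} (hχ : χ ∈ relChars K) :
    ∑ x : N, (χ : N → ℂ) x = 0 :=
  Cfsg.Agent.Lib.Helper4.sum_rel_eq_zero K χ ((mem_relChars K).mp hχ)

end relsums

section sector

variable {G : Type*} [Group G] [Fintype G] (K : Subgroup G)

/-- The exceptional characters of a sector `K` of `G`: a sign `ε`, an integer `d`, and for each
irreducible character `χ` of the normaliser `N` not trivial on `K` an irreducible character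
`X χ` of `G`, with `X χ = ε χ + d χ(1)/[N:K]` on the non-identity elements of `K`; the `X χ`
are proportional to the degrees off the conjugates of `K`; every other irreducible character of
`G` is constant, with an integer value, on the non-identity elements of `K`. -/
structure SectorPkg where
  ε : ℤ
  d : ℤ
  X : IrrCharacter ↥(Subgroup.normalizer (K : Set G)) → IrrCharacter G
  hε : ε = 1 ∨ ε = -1
  inj : ∀ χ ∈ relChars (K.subgroupOf (Subgroup.normalizer (K : Set G))),
    ∀ χ' ∈ relChars (K.subgroupOf (Subgroup.normalizer (K : Set G))), X χ = X χ' → χ = χ'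
  v1 : ∀ χ ∈ relChars (K.subgroupOf (Subgroup.normalizer (K : Set G))),
    ∀ k : ↥(Subgroup.normalizer (K : Set G)), (k : G) ∈ K → k ≠ 1 →
      (X χ : G → ℂ) k = (ε : ℂ) * (χ : ↥(Subgroup.normalizer (K : Set G)) → ℂ) k +
        (d : ℂ) * (χ : ↥(Subgroup.normalizer (K : Set G)) → ℂ) 1 /
          ((K.subgroupOf (Subgroup.normalizer (K : Set G))).index : ℂ)
  v2 : ∀ χ ∈ relChars (K.subgroupOf (Subgroup.normalizer (K : Set G))),
    ∀ χ' ∈ relChars (K.subgroupOf (Subgroup.normalizer (K : Set G))),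
    ∀ g : G, (∀ x : G, x⁻¹ * g * x ∈ K → g = 1) →
      (χ' : ↥(Subgroup.normalizer (K : Set G)) → ℂ) 1 * (X χ : G → ℂ) g =
        (χ : ↥(Subgroup.normalizer (K : Set G)) → ℂ) 1 * (X χ' : G → ℂ) g
  v3 : ∀ Y : IrrCharacter G,
    (∀ χ ∈ relChars (K.subgroupOf (Subgroup.normalizer (K : Set G))), Y ≠ X χ) →
      ∃ y : ℤ, ∀ k ∈ K, k ≠ 1 → (Y : G → ℂ) k = (y : ℂ)
  v4 : ∀ χ ∈ relChars (K.subgroupOf (Subgroup.normalizer (K : Set G))),
    ∃ a ∈ K, ∃ b ∈ K, a ≠ 1 ∧ b ≠ 1 ∧ (X χ : G → ℂ) a ≠ (X χ : G → ℂ) b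

omit [Fintype G] in
theorem irr_ne_neg {Y X : G → ℂ} [Finite G] (hY : IsIrrCharacter G Y) (hX : IsIrrCharacter G X) :
    Y ≠ -X := by
  intro h
  have h1 := congrFun h 1
  rw [Pi.neg_apply, char_one_eq_charDegree (isCharacter_of_isIrrCharacter hY),
    char_one_eq_charDegree (isCharacter_of_isIrrCharacter hX)] at h1
  have h2 : ((Cfsg.charDegree Y : ℕ) : ℂ) + ((Cfsg.charDegree X : ℕ) : ℂ) = 0 := by
    rw [h1]
    ring
  have h3 : Cfsg.charDegree Y + Cfsg.charDegree X = 0 := by exact_mod_cast h2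
  have h4 := charDegree_pos hY
  omega

variable [Fintype ↥(Subgroup.normalizer (K : Set G))]

/-- In a sector, the functions induced from the non-principal irreducible characters of `K`
are exactly the irreducible characters of the normaliser not trivial on `K`. -/
theorem sector_induced_eq (hlt : K < Subgroup.normalizer (K : Set G))
    (hTI : IsTISubset (K : Set G))
    (hfrob : ∀ h ∈ K, h ≠ 1 →
      Subgroup.normalizer (K : Set G) ⊓ Subgroup.centralizer ({h} : Set G) ≤ K) :
    inducedIrrAbove (K.subgroupOf (Subgroup.normalizer (K : Set G))) ⊥ =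
      {χ : ↥(Subgroup.normalizer (K : Set G)) → ℂ |
        IsIrrCharacter ↥(Subgroup.normalizer (K : Set G)) χ ∧
          ∃ k : ↥(Subgroup.normalizer (K : Set G)), (k : G) ∈ K ∧ χ k ≠ χ 1} := by
  classical
  have hC := sector_cent K hTI hfrob
  obtain ⟨W, hWN, hW1, hinf, hsup, hfpf⟩ := sector_complement K hlt hfrob
  have hKN : K ≤ Subgroup.normalizer (K : Set G) := hlt.le
  have hmem := Cfsg.Agent.Lib.Helper4.mem_S_iff K _ rfl
  have hfrob' := Cfsg.Agent.Lib.Helper4.frob_of_hC K hC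
  ext χ
  constructor
  · rintro ⟨θ, hθ, hθ1, -, rfl⟩
    have hirr := frob_induced_irr K _ W hKN hWN hinf hsup hfpf hθ hθ1
    rw [hmem]
    refine ⟨hirr, ?_⟩
    intro hall
    obtain ⟨w, hw1⟩ := (Subgroup.ne_bot_iff_exists_ne_one).mp hW1
    have hwK : (w : G) ∉ K := by
      intro h
      have h3 : (w : G) ∈ K ⊓ W := ⟨h, w.2⟩
      rw [hinf, Subgroup.mem_bot] at h3
      exact hw1 (Subtype.ext h3)
    have hχne : Cfsg.indFun (K.subgroupOf (Subgroup.normalizer (K : Set G))) θ ≠
        fun _ => 1 := by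
      intro h
      have h4 := indFun_apply_of_notMem (K.subgroupOf (Subgroup.normalizer (K : Set G))) θ
        (x := ⟨(w : G), hWN w.2⟩) (fun h => hwK (Subgroup.mem_subgroupOf.mp h))
      rw [h] at h4
      exact one_ne_zero h4
    have h1 := classInner_irr_fun hirr (isIrrCharacter_one (G := ↥(Subgroup.normalizer (K : Set G))))
    rw [if_neg hχne] at h1
    unfold Cfsg.classInner at h1
    have hcard : (Nat.card ↥(Subgroup.normalizer (K : Set G)) : ℂ) ≠ 0 := by
      exact_mod_cast (Nat.card_pos (α := ↥(Subgroup.normalizer (K : Set G)))).ne'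
    have h2 : ∑ x : ↥(Subgroup.normalizer (K : Set G)),
        Cfsg.indFun (K.subgroupOf (Subgroup.normalizer (K : Set G))) θ x * conj (1 : ℂ) = 0 := by
      rcases mul_eq_zero.1 h1 with h | h
      · exact absurd (inv_eq_zero.1 h) hcard
      · exact h
    have h3 : ∀ x : ↥(Subgroup.normalizer (K : Set G)),
        Cfsg.indFun (K.subgroupOf (Subgroup.normalizer (K : Set G))) θ x * conj (1 : ℂ) =
        if x ∈ K.subgroupOf (Subgroup.normalizer (K : Set G)) then
          Cfsg.indFun (K.subgroupOf (Subgroup.normalizer (K : Set G))) θ 1 else 0 := by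
      intro x
      rw [map_one, mul_one]
      split_ifs with hx
      · exact hall x hx
      · exact indFun_apply_of_notMem _ θ hx
    rw [Finset.sum_congr rfl (fun x _ => h3 x), Finset.sum_ite, Finset.sum_const_zero, add_zero,
      Finset.sum_const, nsmul_eq_mul] at h2
    have hdeg : Cfsg.indFun (K.subgroupOf (Subgroup.normalizer (K : Set G))) θ 1 ≠ 0 := by
      rw [char_one_eq_charDegree (isCharacter_of_isIrrCharacter hirr)]
      exact_mod_cast (charDegree_pos hirr).ne'
    have hpos : ((Finset.univ.filter (fun x : ↥(Subgroup.normalizer (K : Set G)) =>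
        x ∈ K.subgroupOf (Subgroup.normalizer (K : Set G)))).card : ℂ) ≠ 0 := by
      have : (Finset.univ.filter (fun x : ↥(Subgroup.normalizer (K : Set G)) =>
          x ∈ K.subgroupOf (Subgroup.normalizer (K : Set G)))).Nonempty :=
        ⟨1, Finset.mem_filter.mpr ⟨Finset.mem_univ _, Subgroup.one_mem _⟩⟩
      exact_mod_cast this.card_pos.ne'
    rcases mul_eq_zero.1 h2 with h | h
    · exact hpos h
    · exact hdeg h
  · intro hχ
    obtain ⟨hirr, hrel⟩ := (hmem χ).mp hχ
    push Not at hrel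
    obtain ⟨n, hn, hne⟩ := hrel
    obtain ⟨φ, hφ, rfl⟩ := Cfsg.Agent.S1528.result
      (K.subgroupOf (Subgroup.normalizer (K : Set G))) (by
        intro k hk hk1 c hc
        apply hfrob' k hk hk1 c
        exact ((Subgroup.mem_centralizer_iff.mp hc) k (Set.mem_singleton k)).symm) χ hirr
      ⟨n, hn, hne⟩
    refine ⟨φ, hφ, ?_, ?_, rfl⟩
    · rintro rfl
      apply hne
      have e1 := indFun_apply_coe (K.subgroupOf (Subgroup.normalizer (K : Set G)))
        (fun _ => (1 : ℂ)) ⟨n, hn⟩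
      have e2 := indFun_apply_coe (K.subgroupOf (Subgroup.normalizer (K : Set G)))
        (fun _ => (1 : ℂ)) 1
      rw [Subgroup.coe_one] at e2
      rw [e1, e2]
      rfl
    · intro a ha
      rw [Subgroup.mem_bot] at ha
      have h1 : a = 1 := Subtype.ext ha
      rw [h1]

theorem exists_sectorPkg (hodd : Odd (Nat.card G))
    (hlt : K < Subgroup.normalizer (K : Set G)) (hK1 : K ≠ ⊥)
    (hTI : IsTISubset (K : Set G))
    (hfrob : ∀ h ∈ K, h ≠ 1 →
      Subgroup.normalizer (K : Set G) ⊓ Subgroup.centralizer ({h} : Set G) ≤ K)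
    (hcoh : IsCoherent (inducedIrrAbove (K.subgroupOf (Subgroup.normalizer (K : Set G))) ⊥)
      {1}ᶜ (fun α : ↥(Subgroup.normalizer (K : Set G)) → ℂ =>
        Cfsg.indFun (Subgroup.normalizer (K : Set G)) α)) :
    Nonempty (SectorPkg K) := by
  classical
  have hC := sector_cent K hTI hfrob
  obtain ⟨W, hWN, hW1, hinf, hsup, hfpf⟩ := sector_complement K hlt hfrob
  have hKN : K ≤ Subgroup.normalizer (K : Set G) := hlt.le
  have hoddN : Odd (Nat.card ↥(Subgroup.normalizer (K : Set G))) :=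
    Odd.of_dvd_nat hodd (Subgroup.card_subgroup_dvd_card _)
  have hSeq := sector_induced_eq K hlt hTI hfrob
  set S : Set (↥(Subgroup.normalizer (K : Set G)) → ℂ) :=
    {χ : ↥(Subgroup.normalizer (K : Set G)) → ℂ |
      IsIrrCharacter ↥(Subgroup.normalizer (K : Set G)) χ ∧
        ∃ k : ↥(Subgroup.normalizer (K : Set G)), (k : G) ∈ K ∧ χ k ≠ χ 1} with hSdef
  have hmem := Cfsg.Agent.Lib.Helper4.mem_S_iff K S hSdef
  have hSirr : ∀ χ ∈ S, IsIrrCharacter ↥(Subgroup.normalizer (K : Set G)) χ :=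
    fun χ hχ => ((hmem χ).mp hχ).1
  have hSchar : ∀ χ ∈ S, IsCharacter ↥(Subgroup.normalizer (K : Set G)) χ :=
    fun χ hχ => isCharacter_of_isIrrCharacter (hSirr χ hχ)
  obtain ⟨-, τ₁, hτ₁, hag₀⟩ := hcoh
  rw [hSeq] at hτ₁ hag₀
  have hag : ∀ α ∈ Cfsg.zspanOn S {1}ᶜ,
      τ₁ α = Cfsg.indFun (Subgroup.normalizer (K : Set G)) α := hag₀
  -- two members
  have htwo : ∃ χ ∈ S, ∃ ξ ∈ S, χ ≠ ξ := by
    haveI : Nontrivial (K.subgroupOf (Subgroup.normalizer (K : Set G))) := by
      obtain ⟨h, hh1⟩ := (Subgroup.ne_bot_iff_exists_ne_one).mp hK1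
      refine ⟨⟨⟨⟨(h : G), hKN h.2⟩, Subgroup.mem_subgroupOf.mpr h.2⟩, 1, ?_⟩⟩
      intro h2
      apply hh1
      have h3 := congrArg (fun x : K.subgroupOf (Subgroup.normalizer (K : Set G)) =>
        ((x : Subgroup.normalizer (K : Set G)) : G)) h2
      exact Subtype.ext h3
    obtain ⟨θ, hθ, hθ1⟩ := exists_irr_ne_one (K := K.subgroupOf (Subgroup.normalizer (K : Set G)))
    have hχ : Cfsg.indFun (K.subgroupOf (Subgroup.normalizer (K : Set G))) θ ∈
        inducedIrrAbove (K.subgroupOf (Subgroup.normalizer (K : Set G))) ⊥ :=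
      ⟨θ, hθ, hθ1, fun a ha => by
        rw [Subgroup.mem_bot] at ha
        have : a = 1 := Subtype.ext ha
        rw [this], rfl⟩
    have hχc := conj_mem_above (K.subgroupOf (Subgroup.normalizer (K : Set G))) ⊥ hχ
    have hne := frob_conj_ne K _ W hoddN hKN hWN hW1 hinf hsup hfpf ⊥ _ hχ
    rw [hSeq] at hχ hχc
    exact ⟨_, hχ, _, hχc, fun h => hne h.symm⟩
  have hzs : ∀ χ ∈ S, χ ∈ Cfsg.zspan S := fun χ hχ => Submodule.subset_span hχ
  obtain ⟨ε, hε, hirrX, hinjτ⟩ := Cfsg.Agent.S1529.result (Subgroup.normalizer (K : Set G)) S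
    hSirr htwo τ₁ hτ₁ (by
      intro α hα hα1
      have hα' : α ∈ Cfsg.zspanOn S {1}ᶜ := by
        refine ⟨hα, fun x hx => ?_⟩
        have hx1 : x = 1 := by
          by_contra h
          exact hx h
        rw [hx1, hα1]
      rw [hag α hα']
      exact indFun_one_eq_zero _ α hα1)
  obtain ⟨m, hm⟩ := Cfsg.Agent.S0853.result K hTI hlt hC S hSdef htwo τ₁ hτ₁ hag
  have hexc := fun (ψ : G → ℂ) (hψ : IsIrrCharacter G ψ) =>
    Cfsg.Agent.S0852.result K hTI hlt hC S hSdef htwo τ₁ hτ₁ hag ψ hψ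
  obtain ⟨εz, hεz, hεc⟩ : ∃ εz : ℤ, (εz = 1 ∨ εz = -1) ∧ (εz : ℂ) = ε := by
    rcases hε with h | h
    · exact ⟨1, Or.inl rfl, by rw [h]; norm_num⟩
    · exact ⟨-1, Or.inr rfl, by rw [h]; norm_num⟩
  have hε0 : ε ≠ 0 := by
    rcases hε with h | h <;> rw [h] <;> norm_num
  let X : IrrCharacter ↥(Subgroup.normalizer (K : Set G)) → IrrCharacter G := fun χ =>
    if h : (χ : ↥(Subgroup.normalizer (K : Set G)) → ℂ) ∈ S then
      ⟨ε • τ₁ (χ : ↥(Subgroup.normalizer (K : Set G)) → ℂ), hirrX _ h⟩ else trivIrr G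
  have hrelS : ∀ χ ∈ relChars (K.subgroupOf (Subgroup.normalizer (K : Set G))),
      (χ : ↥(Subgroup.normalizer (K : Set G)) → ℂ) ∈ S := fun χ hχ =>
    (hmem _).mpr ⟨χ.2, (mem_relChars _).mp hχ⟩
  have hXval : ∀ χ ∈ relChars (K.subgroupOf (Subgroup.normalizer (K : Set G))),
      ((X χ : IrrCharacter G) : G → ℂ) =
        ε • τ₁ (χ : ↥(Subgroup.normalizer (K : Set G)) → ℂ) := by
    intro χ hχ
    simp only [X, dif_pos (hrelS χ hχ)]
  refine ⟨⟨εz, εz * m, X, hεz, ?_, ?_, ?_, ?_, ?_⟩⟩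
  · intro χ hχ χ' hχ' h
    have h1 : ((X χ : IrrCharacter G) : G → ℂ) = ((X χ' : IrrCharacter G) : G → ℂ) := by rw [h]
    rw [hXval χ hχ, hXval χ' hχ'] at h1
    have h2 : τ₁ (χ : ↥(Subgroup.normalizer (K : Set G)) → ℂ) =
        τ₁ (χ' : ↥(Subgroup.normalizer (K : Set G)) → ℂ) := by
      have h3 := congrArg (fun f : G → ℂ => ε⁻¹ • f) h1
      simp only [smul_smul, inv_mul_cancel₀ hε0, one_smul] at h3
      exact h3
    exact Subtype.ext (hinjτ _ (hrelS χ hχ) _ (hrelS χ' hχ') h2)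
  · intro χ hχ k hk hk1
    have h1 := hm _ (hrelS χ hχ) k hk hk1
    rw [hXval χ hχ, Pi.smul_apply, smul_eq_mul]
    have h2 : τ₁ (χ : ↥(Subgroup.normalizer (K : Set G)) → ℂ) (k : G) =
        (χ : ↥(Subgroup.normalizer (K : Set G)) → ℂ) k + (m : ℂ) *
          (χ : ↥(Subgroup.normalizer (K : Set G)) → ℂ) 1 /
            ((K.subgroupOf (Subgroup.normalizer (K : Set G))).index : ℂ) := by
      rw [← h1]
      ring
    rw [h2, ← hεc]
    push_cast
    ring
  · intro χ hχ χ' hχ' g hg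
    have hχS := hrelS χ hχ
    have hχ'S := hrelS χ' hχ'
    have h1 := Cfsg.Agent.Lib.Helper4.star_alpha K S τ₁ hτ₁ hχS hχ'S (hSchar _ hχS)
      (hSchar _ hχ'S)
    rw [hag _ (Cfsg.Agent.Lib.Helper4.alphaFun_mem_zspanOn S hχS hχ'S (hSchar _ hχS)
      (hSchar _ hχ'S))] at h1
    have h2 : Cfsg.indFun (Subgroup.normalizer (K : Set G))
        (Cfsg.Agent.Lib.Helper4.alphaFun (χ : ↥(Subgroup.normalizer (K : Set G)) → ℂ)
          (χ' : ↥(Subgroup.normalizer (K : Set G)) → ℂ)) g = 0 := by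
      apply Cfsg.Agent.Lib.Helper69.indFun_eq_zero_of_vanish
      intro c hc
      by_cases hcK : c⁻¹ * g * c ∈ K
      · have hg1 := hg c hcK
        have h3 : (⟨c⁻¹ * g * c, hc⟩ : ↥(Subgroup.normalizer (K : Set G))) = 1 := by
          apply Subtype.ext
          show c⁻¹ * g * c = 1
          rw [hg1]
          group
        rw [h3]
        exact Cfsg.Agent.Lib.Helper4.alphaFun_one _ _
      · exact Cfsg.Agent.Lib.Helper4.alpha_vanish K hC χ.2 χ'.2 ((hmem _).mp hχS).2
          ((hmem _).mp hχ'S).2 ⟨c⁻¹ * g * c, hc⟩ hcK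
    have h4 := congrFun h1 g
    rw [h2] at h4
    simp only [Pi.sub_apply, Pi.smul_apply, smul_eq_mul] at h4
    rw [hXval χ hχ, hXval χ' hχ']
    simp only [Pi.smul_apply, smul_eq_mul]
    linear_combination (-ε) * h4
  · intro Y hY
    have hnot : ¬ ∃ χ ∈ S, (Y : G → ℂ) = τ₁ χ ∨ (Y : G → ℂ) = -τ₁ χ := by
      rintro ⟨χ, hχ, h⟩
      have hχrel : (⟨χ, hSirr χ hχ⟩ : IrrCharacter ↥(Subgroup.normalizer (K : Set G))) ∈
          relChars (K.subgroupOf (Subgroup.normalizer (K : Set G))) :=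
        (mem_relChars _).mpr ((hmem χ).mp hχ).2
      have hXv := hXval _ hχrel
      have hYne := hY _ hχrel
      have hXirr := (X ⟨χ, hSirr χ hχ⟩).2
      rw [hXv] at hXirr
      rcases hε with he | he
      · rw [he, one_smul] at hXv hXirr
        rcases h with h | h
        · exact hYne (Subtype.ext (by rw [hXv]; exact h))
        · exact irr_ne_neg Y.2 hXirr h
      · rw [he, neg_one_smul] at hXv hXirr
        rcases h with h | h
        · apply irr_ne_neg Y.2 hXirr
          rw [neg_neg]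
          exact h
        · exact hYne (Subtype.ext (by rw [hXv]; exact h))
    have hconst : ∀ a ∈ K, ∀ b ∈ K, a ≠ 1 → b ≠ 1 → (Y : G → ℂ) a = (Y : G → ℂ) b := by
      intro a ha b hb ha1 hb1
      by_contra hab
      exact hnot ((hexc Y Y.2).mpr ⟨a, ha, b, hb, ha1, hb1, hab⟩)
    obtain ⟨k₀, hk₀⟩ := (Subgroup.ne_bot_iff_exists_ne_one).mp hK1
    have hk₀' : (k₀ : G) ≠ 1 := fun h => hk₀ (Subtype.ext h)
    obtain ⟨y, hy⟩ := Cfsg.Agent.Lib.Helper4.int_const_of_genchar
      (fun h : K => (Y : G → ℂ) h) 0 0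
      (Cfsg.Agent.Lib.Helper75.isCharacter_res K (isCharacter_of_isIrrCharacter Y.2))
      Cfsg.Agent.Lib.Helper26.isCharacter_zero Cfsg.Agent.Lib.Helper26.isCharacter_zero
      ((Y : G → ℂ) k₀) (by
        intro k hk
        simp only [Pi.zero_apply, sub_zero]
        exact hconst k k.2 k₀ k₀.2 (fun h => hk (Subtype.ext h)) hk₀') ⟨k₀, hk₀⟩
    refine ⟨y, fun k hk hk1 => ?_⟩
    rw [← hy]
    exact hconst k hk k₀ k₀.2 hk1 hk₀'
  · intro χ hχ
    have hXv := hXval χ hχ
    have h1 : ∃ χ' ∈ S, ((X χ : IrrCharacter G) : G → ℂ) = τ₁ χ' ∨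
        ((X χ : IrrCharacter G) : G → ℂ) = -τ₁ χ' := by
      refine ⟨_, hrelS χ hχ, ?_⟩
      rcases hε with he | he
      · left
        rw [hXv, he, one_smul]
      · right
        rw [hXv, he, neg_one_smul]
    exact (hexc _ (X χ).2).mp h1

end sector

end Cfsg.Agent.Lib.Helper25
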