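import Mathlib
import Cfsg.Prelude.Def_OddOrderChar
import Cfsg.Prelude.Def_OddOrderLocal
import Cfsg.Agent.Lib.Helper25.CN2
import Cfsg.Agent.Lib.Helper25.IndAbove
import Cfsg.Agent.Lib.Helper74.CharOps
import Cfsg.Agent.S0161

/-!
# Sectors of a CN-group, part 3: sums over the exceptional characters of one sector

For a sector `K` with normaliser `N` and a package `P : SectorPkg K`:

* `secE K = [N : K]`, `secT K = (|K| - 1) / [N : K]` and their arithmetic;
* `rel_exists_ne`, `rel_exists_linear`;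
* `sector_sum_self`, `sector_sum_cross`, `sector_sum_cross_sq`, `sector_norm`: the sums of
  products of values of the exceptional characters used in the endgame.
-/

set_option autoImplicit false

namespace Cfsg.Agent.Lib.Helper25

open Cfsg Cfsg.Agent.Lib.Helper80 Cfsg.Agent.Lib.Helper26
open scoped ComplexConjugate

section relmore

variable {N : Type*} [Group N] [Finite N] (K : Subgroup N)

theorem rel_exists_ne (hodd : Odd (Nat.card N)) {χ : IrrCharacter N} (hχ : χ ∈ relChars K) :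
    ∃ ψ ∈ relChars K, ψ ≠ χ := by
  refine ⟨⟨fun g => conj ((χ : N → ℂ) g),
    Cfsg.Agent.Lib.Helper74.isIrrCharacter_conj χ.2⟩, ?_, ?_⟩
  · rw [mem_relChars] at hχ ⊢
    intro h
    apply hχ
    intro x hx
    have h1 := congrArg conj (h x hx)
    simpa using h1
  · intro h
    have hreal : ∀ g : N, ((χ : N → ℂ) g).im = 0 := by
      intro g
      have h1 := congrFun (congrArg Subtype.val h) g
      exact Complex.conj_eq_iff_im.mp h1
    have h2 := Cfsg.Agent.S0161.result hodd χ hreal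
    rw [mem_relChars] at hχ
    apply hχ
    intro x _
    rw [h2]

/-- A sum over `N` of a function vanishing off `K`. -/
theorem sum_eq_sum_subgroup {G : Type*} [Group G] (M K : Subgroup G) (hKM : K ≤ M)
    [Fintype M] [Fintype K] {A : Type*} [AddCommMonoid A] (f : M → A)
    (hf : ∀ x : M, (x : G) ∉ K → f x = 0) :
    ∑ x : M, f x = ∑ k : K, f ⟨(k : G), hKM k.2⟩ := by
  classical
  have h1 : ∑ x : M, f x = ∑ x ∈ Finset.univ.filter (fun x : M => (x : G) ∈ K), f x := by
    symm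
    apply Finset.sum_filter_of_ne
    intro x _ hx
    by_contra h
    exact hx (hf x h)
  rw [h1, Finset.sum_subtype (p := fun x : M => (x : G) ∈ K) _ (by simp)]
  let e : {x : M // (x : G) ∈ K} ≃ K :=
    { toFun := fun x => ⟨(x : M), x.2⟩
      invFun := fun k => ⟨⟨(k : G), hKM k.2⟩, k.2⟩
      left_inv := fun x => rfl
      right_inv := fun k => rfl }
  exact Fintype.sum_equiv e _ _ (fun _ => rfl)

end relmore

section sector3

variable {G : Type*} [Group G] [Fintype G] (K : Subgroup G)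

/-- The index of a sector in its normaliser. -/
noncomputable def secE : ℕ := (K.subgroupOf (Subgroup.normalizer (K : Set G))).index

/-- The number of orbits of the normaliser on the non-identity elements of a sector. -/
noncomputable def secT : ℕ := (Nat.card K - 1) / secE K

omit [Fintype G] in
theorem secE_ne_one (hlt : K < Subgroup.normalizer (K : Set G)) : secE K ≠ 1 := by
  intro h
  have h1 := Subgroup.index_eq_one.mp h
  apply not_le_of_gt hlt
  intro x hx
  have h2 : (⟨x, hx⟩ : ↥(Subgroup.normalizer (K : Set G))) ∈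
      K.subgroupOf (Subgroup.normalizer (K : Set G)) := by
    rw [h1]
    exact Subgroup.mem_top _
  exact Subgroup.mem_subgroupOf.mp h2

omit [Fintype G] in
theorem card_sector_normalizer [Finite G] :
    Nat.card ↥(Subgroup.normalizer (K : Set G)) = secE K * Nat.card K := by
  unfold secE
  rw [← Subgroup.index_mul_card (K.subgroupOf (Subgroup.normalizer (K : Set G))),
    Nat.card_congr (Subgroup.subgroupOfEquivOfLe Subgroup.le_normalizer).toEquiv]

omit [Fintype G] in
theorem sector_index_mul [Finite G] :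
    (Subgroup.normalizer (K : Set G)).index * (secE K * Nat.card K) = Nat.card G := by
  rw [← card_sector_normalizer, Subgroup.index_mul_card]

omit [Fintype G] in
theorem secE_odd [Finite G] (hodd : Odd (Nat.card G)) : Odd (secE K) := by
  apply Odd.of_dvd_nat hodd
  rw [← sector_index_mul K]
  exact Dvd.dvd.mul_left (Dvd.intro _ rfl) _

omit [Fintype G] in
theorem three_le_secE [Finite G] (hodd : Odd (Nat.card G))
    (hlt : K < Subgroup.normalizer (K : Set G)) : 3 ≤ secE K := by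
  have h1 := secE_ne_one K hlt
  obtain ⟨m, hm⟩ := secE_odd K hodd
  omega

omit [Fintype G] in
theorem card_sector_odd [Finite G] (hodd : Odd (Nat.card G)) : Odd (Nat.card K) :=
  Odd.of_dvd_nat hodd (Subgroup.card_subgroup_dvd_card K)

omit [Fintype G] in
theorem secE_mul_secT [Finite G]
    (hfrob : ∀ h ∈ K, h ≠ 1 →
      Subgroup.normalizer (K : Set G) ⊓ Subgroup.centralizer ({h} : Set G) ≤ K) :
    secE K * secT K + 1 = Nat.card K := by
  have hdvd : secE K ∣ Nat.card K - 1 := sector_index_dvd K hfrob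
  have hpos : 0 < Nat.card K := Nat.card_pos
  unfold secT
  rw [Nat.mul_div_cancel' hdvd]
  omega

omit [Fintype G] in
theorem secT_even [Finite G] (hodd : Odd (Nat.card G))
    (hfrob : ∀ h ∈ K, h ≠ 1 →
      Subgroup.normalizer (K : Set G) ⊓ Subgroup.centralizer ({h} : Set G) ≤ K) :
    Even (secT K) := by
  have h1 := secE_mul_secT K hfrob
  have h2 := card_sector_odd K hodd
  have h3 := secE_odd K hodd
  by_contra hne
  rw [Nat.not_even_iff_odd] at hne
  have h4 : Odd (secE K * secT K) := h3.mul hne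
  have h5 : Even (secE K * secT K + 1) := h4.add_one
  rw [h1] at h5
  exact (Nat.not_even_iff_odd.mpr h2) h5

omit [Fintype G] in
theorem two_le_secT [Finite G] (hodd : Odd (Nat.card G)) (hK1 : K ≠ ⊥)
    (hfrob : ∀ h ∈ K, h ≠ 1 →
      Subgroup.normalizer (K : Set G) ⊓ Subgroup.centralizer ({h} : Set G) ≤ K) :
    2 ≤ secT K := by
  have h1 := secE_mul_secT K hfrob
  obtain ⟨m, hm⟩ := secT_even K hodd hfrob
  have h2 : Nat.card K ≠ 1 := fun h => hK1 (Subgroup.card_eq_one.mp h)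
  rcases Nat.eq_zero_or_pos m with h0 | h0
  · rw [hm, h0] at h1
    simp at h1
    exact absurd h1.symm h2
  · omega

variable [Fintype ↥(Subgroup.normalizer (K : Set G))]

/-- A sector has an exceptional character of degree `[N : K]`. -/
theorem rel_exists_linear (hlt : K < Subgroup.normalizer (K : Set G)) (hK1 : K ≠ ⊥)
    (hTI : IsTISubset (K : Set G))
    (hfrob : ∀ h ∈ K, h ≠ 1 →
      Subgroup.normalizer (K : Set G) ⊓ Subgroup.centralizer ({h} : Set G) ≤ K) :
    ∃ ψ ∈ relChars (K.subgroupOf (Subgroup.normalizer (K : Set G))),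
      (ψ : ↥(Subgroup.normalizer (K : Set G)) → ℂ) 1 = (secE K : ℂ) := by
  classical
  obtain ⟨W, hWN, hW1, hinf, hsup, hfpf⟩ := sector_complement K hlt hfrob
  have hKN : K ≤ Subgroup.normalizer (K : Set G) := hlt.le
  haveI hnil : Group.IsNilpotent K := sector_nilpotent K hlt hK1 hfrob
  haveI hnil' : Group.IsNilpotent (K.subgroupOf (Subgroup.normalizer (K : Set G))) :=
    Group.nilpotent_of_mulEquiv (Subgroup.subgroupOfEquivOfLe hKN).symm
  have hsolv : Group.IsSolvable (K.subgroupOf (Subgroup.normalizer (K : Set G))) :=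
    IsNilpotent.to_isSolvable
  have hbot : (⊥ : Subgroup ↥(Subgroup.normalizer (K : Set G))) <
      K.subgroupOf (Subgroup.normalizer (K : Set G)) := by
    rw [bot_lt_iff_ne_bot]
    intro h
    obtain ⟨k, hk1⟩ := (Subgroup.ne_bot_iff_exists_ne_one).mp hK1
    have h2 : (⟨(k : G), hKN k.2⟩ : ↥(Subgroup.normalizer (K : Set G))) ∈
        K.subgroupOf (Subgroup.normalizer (K : Set G)) := Subgroup.mem_subgroupOf.mpr k.2
    rw [h, Subgroup.mem_bot] at h2
    apply hk1
    apply Subtype.ext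
    exact congrArg (fun x : ↥(Subgroup.normalizer (K : Set G)) => (x : G)) h2
  obtain ⟨θ, hθ, hθ1, hθdeg, -⟩ := exists_linear_above
    (K.subgroupOf (Subgroup.normalizer (K : Set G))) hsolv ⊥ hbot
  have hirr := frob_induced_irr K _ W hKN hWN hinf hsup hfpf hθ hθ1
  have hmemS : Cfsg.indFun (K.subgroupOf (Subgroup.normalizer (K : Set G))) θ ∈
      inducedIrrAbove (K.subgroupOf (Subgroup.normalizer (K : Set G))) ⊥ :=
    ⟨θ, hθ, hθ1, fun a ha => by
      rw [Subgroup.mem_bot] at ha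
      have : a = 1 := Subtype.ext ha
      rw [this], rfl⟩
  rw [sector_induced_eq K hlt hTI hfrob] at hmemS
  obtain ⟨-, k, hk, hne⟩ := hmemS
  refine ⟨⟨_, hirr⟩, ?_, ?_⟩
  · rw [mem_relChars]
    intro hall
    exact hne (hall k (Subgroup.mem_subgroupOf.mpr hk))
  · show Cfsg.indFun (K.subgroupOf (Subgroup.normalizer (K : Set G))) θ 1 = _
    rw [indFun_apply_one, hθdeg, mul_one]
    rfl

/-- The degrees of the exceptional characters of the normaliser. -/
theorem rel_sum_deg_sq' (hfrob : ∀ h ∈ K, h ≠ 1 →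
      Subgroup.normalizer (K : Set G) ⊓ Subgroup.centralizer ({h} : Set G) ≤ K) :
    ∑ χ ∈ relChars (K.subgroupOf (Subgroup.normalizer (K : Set G))),
      ((χ : ↥(Subgroup.normalizer (K : Set G)) → ℂ) 1) ^ 2 =
        (secE K : ℂ) ^ 2 * (secT K : ℂ) := by
  have h1 := rel_sum_deg_sq (K.subgroupOf (Subgroup.normalizer (K : Set G)))
  rw [card_sector_normalizer K, ← secE_mul_secT K hfrob] at h1
  have h2 : ∑ χ ∈ relChars (K.subgroupOf (Subgroup.normalizer (K : Set G))),
      Cfsg.charDegree (χ : ↥(Subgroup.normalizer (K : Set G)) → ℂ) ^ 2 =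
        secE K ^ 2 * secT K := by
    have h3 : (K.subgroupOf (Subgroup.normalizer (K : Set G))).index = secE K := rfl
    rw [h3] at h1
    have h4 : secE K * (secE K * secT K + 1) = secE K ^ 2 * secT K + secE K := by ring
    omega
  have h5 : ∀ χ ∈ relChars (K.subgroupOf (Subgroup.normalizer (K : Set G))),
      ((χ : ↥(Subgroup.normalizer (K : Set G)) → ℂ) 1) ^ 2 =
        ((Cfsg.charDegree (χ : ↥(Subgroup.normalizer (K : Set G)) → ℂ) ^ 2 : ℕ) : ℂ) := by
    intro χ _
    rw [char_one_eq_charDegree (isCharacter_of_isIrrCharacter χ.2)]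
    push_cast
    ring
  rw [Finset.sum_congr rfl h5, ← Nat.cast_sum, h2]
  push_cast
  ring

omit [Fintype G] in
theorem card_centralizer_sector [Finite G] (hlt : K < Subgroup.normalizer (K : Set G))
    (hTI : IsTISubset (K : Set G))
    (hfrob : ∀ h ∈ K, h ≠ 1 →
      Subgroup.normalizer (K : Set G) ⊓ Subgroup.centralizer ({h} : Set G) ≤ K)
    {k : G} (hk : k ∈ K) (hk1 : k ≠ 1) :
    Nat.card (Subgroup.centralizer
      ({(⟨k, hlt.le hk⟩ : ↥(Subgroup.normalizer (K : Set G)))} :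
        Set ↥(Subgroup.normalizer (K : Set G)))) =
      Nat.card (Subgroup.centralizer ({k} : Set G)) := by
  have hC := sector_cent K hTI hfrob k hk hk1
  have h1 : Subgroup.centralizer
      ({(⟨k, hlt.le hk⟩ : ↥(Subgroup.normalizer (K : Set G)))} :
        Set ↥(Subgroup.normalizer (K : Set G))) =
      (Subgroup.centralizer ({k} : Set G)).subgroupOf (Subgroup.normalizer (K : Set G)) := by
    ext x
    rw [Subgroup.mem_subgroupOf, Subgroup.mem_centralizer_iff, Subgroup.mem_centralizer_iff]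
    constructor
    · intro h y hy
      rw [Set.mem_singleton_iff] at hy
      subst hy
      exact congrArg Subtype.val (h _ rfl)
    · intro h y hy
      rw [Set.mem_singleton_iff] at hy
      subst hy
      exact Subtype.ext (h k rfl)
  rw [h1]
  exact Nat.card_congr (Subgroup.subgroupOfEquivOfLe (hC.trans hlt.le)).toEquiv

end sector3

section sums

variable {G : Type*} [Group G] [Fintype G] {K : Subgroup G}
  [Fintype ↥(Subgroup.normalizer (K : Set G))] (P : SectorPkg K)

omit [Fintype G] [Fintype ↥(Subgroup.normalizer (K : Set G))] in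
theorem secE_ne_zero [Finite G] : (secE K : ℂ) ≠ 0 := by
  have h : secE K ≠ 0 := by
    unfold secE
    exact Subgroup.index_ne_zero_of_finite
  exact_mod_cast h

omit [Fintype G] [Fintype ↥(Subgroup.normalizer (K : Set G))] in
theorem conj_deg_eq [Finite G] (χ : IrrCharacter ↥(Subgroup.normalizer (K : Set G))) :
    conj ((χ : ↥(Subgroup.normalizer (K : Set G)) → ℂ) 1) =
      (χ : ↥(Subgroup.normalizer (K : Set G)) → ℂ) 1 := by
  rw [char_one_eq_charDegree (isCharacter_of_isIrrCharacter χ.2), Complex.conj_natCast]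

theorem sector_eps_sq : (P.ε : ℂ) ^ 2 = 1 := by
  rcases P.hε with h | h <;> rw [h] <;> norm_num

/-- Values of the exceptional characters of a sector at an element of the sector against
their values at an element where they are proportional to the degrees. -/
theorem sector_sum_cross (hlt : K < Subgroup.normalizer (K : Set G))
    (hfrob : ∀ h ∈ K, h ≠ 1 →
      Subgroup.normalizer (K : Set G) ⊓ Subgroup.centralizer ({h} : Set G) ≤ K)
    {k : G} (hk : k ∈ K) (hk1 : k ≠ 1) (g : G) (y : ℤ)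
    (hy : ∀ χ ∈ relChars (K.subgroupOf (Subgroup.normalizer (K : Set G))),
      (P.X χ : G → ℂ) g =
        (y : ℂ) * (χ : ↥(Subgroup.normalizer (K : Set G)) → ℂ) 1 / (secE K : ℂ)) :
    ∑ χ ∈ relChars (K.subgroupOf (Subgroup.normalizer (K : Set G))),
      (P.X χ : G → ℂ) k * conj ((P.X χ : G → ℂ) g) =
        (y : ℂ) * (-(P.ε : ℂ) + (P.d : ℂ) * (secT K : ℂ)) := by
  classical
  have hkK' : (⟨k, hlt.le hk⟩ : ↥(Subgroup.normalizer (K : Set G))) ∈
      K.subgroupOf (Subgroup.normalizer (K : Set G)) := Subgroup.mem_subgroupOf.mpr hk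
  have hk1' : (⟨k, hlt.le hk⟩ : ↥(Subgroup.normalizer (K : Set G))) ≠ 1 := by
    intro h
    exact hk1 (congrArg (fun x : ↥(Subgroup.normalizer (K : Set G)) => (x : G)) h)
  have he0 : (secE K : ℂ) ≠ 0 := secE_ne_zero
  have hv1 : ∀ χ ∈ relChars (K.subgroupOf (Subgroup.normalizer (K : Set G))),
      (P.X χ : G → ℂ) k = (P.ε : ℂ) *
        (χ : ↥(Subgroup.normalizer (K : Set G)) → ℂ) ⟨k, hlt.le hk⟩ +
        (P.d : ℂ) * (χ : ↥(Subgroup.normalizer (K : Set G)) → ℂ) 1 / (secE K : ℂ) :=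
    fun χ hχ => P.v1 χ hχ ⟨k, hlt.le hk⟩ hk hk1'
  have hsum2 : ∑ χ ∈ relChars (K.subgroupOf (Subgroup.normalizer (K : Set G))),
      (χ : ↥(Subgroup.normalizer (K : Set G)) → ℂ) ⟨k, hlt.le hk⟩ *
        conj ((χ : ↥(Subgroup.normalizer (K : Set G)) → ℂ) 1) = -(secE K : ℂ) :=
    rel_sum_mul_deg (K.subgroupOf (Subgroup.normalizer (K : Set G))) hkK' hk1'
  have hsum3 := rel_sum_deg_sq' K hfrob
  have key : ∀ χ ∈ relChars (K.subgroupOf (Subgroup.normalizer (K : Set G))),
      (P.X χ : G → ℂ) k * conj ((P.X χ : G → ℂ) g) =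
        ((y : ℂ) * (P.ε : ℂ) / (secE K : ℂ)) *
          ((χ : ↥(Subgroup.normalizer (K : Set G)) → ℂ) ⟨k, hlt.le hk⟩ *
            conj ((χ : ↥(Subgroup.normalizer (K : Set G)) → ℂ) 1)) +
        ((y : ℂ) * (P.d : ℂ) / (secE K : ℂ) ^ 2) *
          ((χ : ↥(Subgroup.normalizer (K : Set G)) → ℂ) 1) ^ 2 := by
    intro χ hχ
    rw [hv1 χ hχ, hy χ hχ]
    simp only [map_mul, map_div₀, map_intCast, Complex.conj_natCast, conj_deg_eq]
    ring
  rw [Finset.sum_congr rfl key, Finset.sum_add_distrib, ← Finset.mul_sum, ← Finset.mul_sum,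
    hsum2, hsum3]
  field_simp

/-- The squared absolute values of the exceptional characters of a sector at an element where
they are proportional to the degrees. -/
theorem sector_sum_cross_sq
    (hfrob : ∀ h ∈ K, h ≠ 1 →
      Subgroup.normalizer (K : Set G) ⊓ Subgroup.centralizer ({h} : Set G) ≤ K)
    (g : G) (y : ℤ)
    (hy : ∀ χ ∈ relChars (K.subgroupOf (Subgroup.normalizer (K : Set G))),
      (P.X χ : G → ℂ) g =
        (y : ℂ) * (χ : ↥(Subgroup.normalizer (K : Set G)) → ℂ) 1 / (secE K : ℂ)) :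
    ∑ χ ∈ relChars (K.subgroupOf (Subgroup.normalizer (K : Set G))),
      Complex.normSq ((P.X χ : G → ℂ) g) = (y : ℝ) ^ 2 * (secT K : ℝ) := by
  classical
  have he0 : (secE K : ℂ) ≠ 0 := secE_ne_zero
  have hsum3 := rel_sum_deg_sq' K hfrob
  have key : ∀ χ ∈ relChars (K.subgroupOf (Subgroup.normalizer (K : Set G))),
      ((Complex.normSq ((P.X χ : G → ℂ) g) : ℝ) : ℂ) =
        ((y : ℂ) ^ 2 / (secE K : ℂ) ^ 2) *
          ((χ : ↥(Subgroup.normalizer (K : Set G)) → ℂ) 1) ^ 2 := by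
    intro χ hχ
    rw [← Complex.mul_conj, hy χ hχ]
    simp only [map_mul, map_div₀, map_intCast, Complex.conj_natCast, conj_deg_eq]
    ring
  have hC : ((∑ χ ∈ relChars (K.subgroupOf (Subgroup.normalizer (K : Set G))),
      Complex.normSq ((P.X χ : G → ℂ) g) : ℝ) : ℂ) = (((y : ℝ) ^ 2 * (secT K : ℝ) : ℝ) : ℂ) := by
    push_cast
    rw [Finset.sum_congr rfl key, ← Finset.mul_sum, hsum3]
    field_simp
  exact_mod_cast hC

/-- The squared absolute values of the exceptional characters of a sector at a non-identity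
element of the sector. -/
theorem sector_sum_self [Finite G] (hlt : K < Subgroup.normalizer (K : Set G))
    (hTI : IsTISubset (K : Set G))
    (hfrob : ∀ h ∈ K, h ≠ 1 →
      Subgroup.normalizer (K : Set G) ⊓ Subgroup.centralizer ({h} : Set G) ≤ K)
    {k : G} (hk : k ∈ K) (hk1 : k ≠ 1) :
    ∑ χ ∈ relChars (K.subgroupOf (Subgroup.normalizer (K : Set G))),
      Complex.normSq ((P.X χ : G → ℂ) k) =
        (Nat.card (Subgroup.centralizer ({k} : Set G)) : ℝ) - (secE K : ℝ) -
          2 * (P.ε : ℝ) * (P.d : ℝ) + (P.d : ℝ) ^ 2 * (secT K : ℝ) := by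
  classical
  have hkK' : (⟨k, hlt.le hk⟩ : ↥(Subgroup.normalizer (K : Set G))) ∈
      K.subgroupOf (Subgroup.normalizer (K : Set G)) := Subgroup.mem_subgroupOf.mpr hk
  have hk1' : (⟨k, hlt.le hk⟩ : ↥(Subgroup.normalizer (K : Set G))) ≠ 1 := by
    intro h
    exact hk1 (congrArg (fun x : ↥(Subgroup.normalizer (K : Set G)) => (x : G)) h)
  have he0 : (secE K : ℂ) ≠ 0 := secE_ne_zero
  have hε2 := sector_eps_sq P
  have hv1 : ∀ χ ∈ relChars (K.subgroupOf (Subgroup.normalizer (K : Set G))),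
      (P.X χ : G → ℂ) k = (P.ε : ℂ) *
        (χ : ↥(Subgroup.normalizer (K : Set G)) → ℂ) ⟨k, hlt.le hk⟩ +
        (P.d : ℂ) * (χ : ↥(Subgroup.normalizer (K : Set G)) → ℂ) 1 / (secE K : ℂ) :=
    fun χ hχ => P.v1 χ hχ ⟨k, hlt.le hk⟩ hk hk1'
  have hsum1 : ∑ χ ∈ relChars (K.subgroupOf (Subgroup.normalizer (K : Set G))),
      (χ : ↥(Subgroup.normalizer (K : Set G)) → ℂ) ⟨k, hlt.le hk⟩ *
        conj ((χ : ↥(Subgroup.normalizer (K : Set G)) → ℂ) ⟨k, hlt.le hk⟩) + (secE K : ℂ) =
      (Nat.card (Subgroup.centralizer ({k} : Set G)) : ℂ) := by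
    rw [← card_centralizer_sector K hlt hTI hfrob hk hk1]
    exact rel_sum_normSq (K.subgroupOf (Subgroup.normalizer (K : Set G))) hkK'
  have hsum2 : ∑ χ ∈ relChars (K.subgroupOf (Subgroup.normalizer (K : Set G))),
      (χ : ↥(Subgroup.normalizer (K : Set G)) → ℂ) ⟨k, hlt.le hk⟩ *
        conj ((χ : ↥(Subgroup.normalizer (K : Set G)) → ℂ) 1) = -(secE K : ℂ) :=
    rel_sum_mul_deg (K.subgroupOf (Subgroup.normalizer (K : Set G))) hkK' hk1'
  have hsum2' : ∑ χ ∈ relChars (K.subgroupOf (Subgroup.normalizer (K : Set G))),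
      conj ((χ : ↥(Subgroup.normalizer (K : Set G)) → ℂ) ⟨k, hlt.le hk⟩ *
        conj ((χ : ↥(Subgroup.normalizer (K : Set G)) → ℂ) 1)) = -(secE K : ℂ) := by
    rw [← map_sum, hsum2, map_neg, Complex.conj_natCast]
  have hsum3 := rel_sum_deg_sq' K hfrob
  have key : ∀ χ ∈ relChars (K.subgroupOf (Subgroup.normalizer (K : Set G))),
      ((Complex.normSq ((P.X χ : G → ℂ) k) : ℝ) : ℂ) =
        (χ : ↥(Subgroup.normalizer (K : Set G)) → ℂ) ⟨k, hlt.le hk⟩ *
          conj ((χ : ↥(Subgroup.normalizer (K : Set G)) → ℂ) ⟨k, hlt.le hk⟩) +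
        ((P.ε : ℂ) * (P.d : ℂ) / (secE K : ℂ)) *
          ((χ : ↥(Subgroup.normalizer (K : Set G)) → ℂ) ⟨k, hlt.le hk⟩ *
            conj ((χ : ↥(Subgroup.normalizer (K : Set G)) → ℂ) 1)) +
        ((P.ε : ℂ) * (P.d : ℂ) / (secE K : ℂ)) *
          conj ((χ : ↥(Subgroup.normalizer (K : Set G)) → ℂ) ⟨k, hlt.le hk⟩ *
            conj ((χ : ↥(Subgroup.normalizer (K : Set G)) → ℂ) 1)) +
        ((P.d : ℂ) ^ 2 / (secE K : ℂ) ^ 2) *
          ((χ : ↥(Subgroup.normalizer (K : Set G)) → ℂ) 1) ^ 2 := by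
    intro χ hχ
    rw [← Complex.mul_conj, hv1 χ hχ]
    simp only [map_add, map_mul, map_div₀, map_intCast, Complex.conj_natCast,
      conj_deg_eq]
    linear_combination ((χ : ↥(Subgroup.normalizer (K : Set G)) → ℂ) ⟨k, hlt.le hk⟩ *
      conj ((χ : ↥(Subgroup.normalizer (K : Set G)) → ℂ) ⟨k, hlt.le hk⟩)) * hε2
  have hC : ((∑ χ ∈ relChars (K.subgroupOf (Subgroup.normalizer (K : Set G))),
      Complex.normSq ((P.X χ : G → ℂ) k) : ℝ) : ℂ) =
      (((Nat.card (Subgroup.centralizer ({k} : Set G)) : ℝ) - (secE K : ℝ) -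
          2 * (P.ε : ℝ) * (P.d : ℝ) + (P.d : ℝ) ^ 2 * (secT K : ℝ) : ℝ) : ℂ) := by
    push_cast
    rw [Finset.sum_congr rfl key, Finset.sum_add_distrib, Finset.sum_add_distrib,
      Finset.sum_add_distrib, ← Finset.mul_sum, ← Finset.mul_sum, ← Finset.mul_sum,
      hsum2, hsum2', hsum3, ← hsum1]
    field_simp
    ring
  exact_mod_cast hC

/-- The contribution of the sector itself to the norm of an exceptional character of
minimal degree. -/
theorem sector_norm [Fintype K] (hlt : K < Subgroup.normalizer (K : Set G))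
    (hTI : IsTISubset (K : Set G))
    (hfrob : ∀ h ∈ K, h ≠ 1 →
      Subgroup.normalizer (K : Set G) ⊓ Subgroup.centralizer ({h} : Set G) ≤ K)
    {ψ : IrrCharacter ↥(Subgroup.normalizer (K : Set G))}
    (hψ : ψ ∈ relChars (K.subgroupOf (Subgroup.normalizer (K : Set G))))
    (hψ1 : (ψ : ↥(Subgroup.normalizer (K : Set G)) → ℂ) 1 = (secE K : ℂ)) :
    ∑ k : K, Complex.normSq ((P.X ψ : G → ℂ) k) - Complex.normSq ((P.X ψ : G → ℂ) 1) =
      (secE K : ℝ) * (Nat.card K : ℝ) - (secE K : ℝ) ^ 2 -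
        2 * (P.ε : ℝ) * (P.d : ℝ) * (secE K : ℝ) +
        (P.d : ℝ) ^ 2 * ((secE K : ℝ) * (secT K : ℝ)) := by
  classical
  have hKN : K ≤ Subgroup.normalizer (K : Set G) := hlt.le
  have hC := sector_cent K hTI hfrob
  have hfrob' := Cfsg.Agent.Lib.Helper4.frob_of_hC K hC
  have he0 : (secE K : ℂ) ≠ 0 := secE_ne_zero
  have hε2 := sector_eps_sq P
  have hvan : ∀ x : ↥(Subgroup.normalizer (K : Set G)), (x : G) ∉ K →
      (ψ : ↥(Subgroup.normalizer (K : Set G)) → ℂ) x = 0 := fun x hx =>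
    rel_vanish' (K.subgroupOf (Subgroup.normalizer (K : Set G))) hfrob' hψ
      (fun h => hx (Subgroup.mem_subgroupOf.mp h))
  have hS1 : ∑ k : K, (ψ : ↥(Subgroup.normalizer (K : Set G)) → ℂ) ⟨(k : G), hKN k.2⟩ = 0 := by
    rw [← sum_eq_sum_subgroup (Subgroup.normalizer (K : Set G)) K hKN
      (fun x => (ψ : ↥(Subgroup.normalizer (K : Set G)) → ℂ) x) hvan]
    exact rel_sum_eq_zero' (K.subgroupOf (Subgroup.normalizer (K : Set G))) hψ
  have hS1' : ∑ k : K,
      conj ((ψ : ↥(Subgroup.normalizer (K : Set G)) → ℂ) ⟨(k : G), hKN k.2⟩) = 0 := by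
    rw [← map_sum, hS1, map_zero]
  have hS2 : ∑ k : K, (ψ : ↥(Subgroup.normalizer (K : Set G)) → ℂ) ⟨(k : G), hKN k.2⟩ *
      conj ((ψ : ↥(Subgroup.normalizer (K : Set G)) → ℂ) ⟨(k : G), hKN k.2⟩) =
      (secE K : ℂ) * (Nat.card K : ℂ) := by
    rw [← sum_eq_sum_subgroup (Subgroup.normalizer (K : Set G)) K hKN
      (fun x => (ψ : ↥(Subgroup.normalizer (K : Set G)) → ℂ) x *
        conj ((ψ : ↥(Subgroup.normalizer (K : Set G)) → ℂ) x))
      (fun x hx => by rw [hvan x hx, zero_mul])]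
    have h := classInner_self (G := ↥(Subgroup.normalizer (K : Set G))) ψ.2
    unfold Cfsg.classInner at h
    have hN0 : (Nat.card ↥(Subgroup.normalizer (K : Set G)) : ℂ) ≠ 0 := by
      exact_mod_cast (Nat.card_pos (α := ↥(Subgroup.normalizer (K : Set G)))).ne'
    rw [inv_mul_eq_iff_eq_mul₀ hN0, mul_one] at h
    rw [h, card_sector_normalizer K]
    push_cast
    ring
  have hone : (⟨((1 : K) : G), hKN (1 : K).2⟩ : ↥(Subgroup.normalizer (K : Set G))) = 1 := rfl
  have h1 : ∑ k : K, Complex.normSq ((P.X ψ : G → ℂ) k) - Complex.normSq ((P.X ψ : G → ℂ) 1) =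
      ∑ k ∈ Finset.univ.erase (1 : K), Complex.normSq ((P.X ψ : G → ℂ) k) := by
    rw [Finset.sum_erase_eq_sub (Finset.mem_univ _)]
    rfl
  have hv : ∀ k ∈ Finset.univ.erase (1 : K), (P.X ψ : G → ℂ) k =
      (P.ε : ℂ) * (ψ : ↥(Subgroup.normalizer (K : Set G)) → ℂ) ⟨(k : G), hKN k.2⟩ +
        (P.d : ℂ) := by
    intro k hk
    have hk1 : k ≠ 1 := (Finset.mem_erase.mp hk).1
    have h2 := P.v1 ψ hψ ⟨(k : G), hKN k.2⟩ k.2 (fun h => hk1 (Subtype.ext
      (congrArg (fun x : ↥(Subgroup.normalizer (K : Set G)) => (x : G)) h)))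
    rw [h2, hψ1]
    have he0' : ((K.subgroupOf (Subgroup.normalizer (K : Set G))).index : ℂ) ≠ 0 := he0
    have he1 : (secE K : ℂ) = ((K.subgroupOf (Subgroup.normalizer (K : Set G))).index : ℂ) :=
      rfl
    rw [he1, mul_div_assoc, div_self he0', mul_one]
  have key : ∀ k ∈ Finset.univ.erase (1 : K),
      ((Complex.normSq ((P.X ψ : G → ℂ) k) : ℝ) : ℂ) =
        (ψ : ↥(Subgroup.normalizer (K : Set G)) → ℂ) ⟨(k : G), hKN k.2⟩ *
          conj ((ψ : ↥(Subgroup.normalizer (K : Set G)) → ℂ) ⟨(k : G), hKN k.2⟩) +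
        ((P.ε : ℂ) * (P.d : ℂ)) *
          (ψ : ↥(Subgroup.normalizer (K : Set G)) → ℂ) ⟨(k : G), hKN k.2⟩ +
        ((P.ε : ℂ) * (P.d : ℂ)) *
          conj ((ψ : ↥(Subgroup.normalizer (K : Set G)) → ℂ) ⟨(k : G), hKN k.2⟩) +
        (P.d : ℂ) ^ 2 := by
    intro k hk
    rw [← Complex.mul_conj, hv k hk]
    simp only [map_add, map_mul, map_intCast]
    linear_combination ((ψ : ↥(Subgroup.normalizer (K : Set G)) → ℂ) ⟨(k : G), hKN k.2⟩ *
      conj ((ψ : ↥(Subgroup.normalizer (K : Set G)) → ℂ) ⟨(k : G), hKN k.2⟩)) * hε2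
  have hcardK : ((Finset.univ.erase (1 : K)).card : ℂ) = (secE K : ℂ) * (secT K : ℂ) := by
    rw [Finset.card_erase_of_mem (Finset.mem_univ _), Finset.card_univ,
      ← Nat.card_eq_fintype_card, ← secE_mul_secT K hfrob]
    push_cast
    simp
  have hC : ((∑ k : K, Complex.normSq ((P.X ψ : G → ℂ) k) -
      Complex.normSq ((P.X ψ : G → ℂ) 1) : ℝ) : ℂ) =
      (((secE K : ℝ) * (Nat.card K : ℝ) - (secE K : ℝ) ^ 2 -
        2 * (P.ε : ℝ) * (P.d : ℝ) * (secE K : ℝ) +
        (P.d : ℝ) ^ 2 * ((secE K : ℝ) * (secT K : ℝ)) : ℝ) : ℂ) := by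
    rw [h1]
    push_cast
    rw [Finset.sum_congr rfl key, Finset.sum_add_distrib, Finset.sum_add_distrib,
      Finset.sum_add_distrib, ← Finset.mul_sum, ← Finset.mul_sum,
      Finset.sum_erase_eq_sub (Finset.mem_univ _), Finset.sum_erase_eq_sub (Finset.mem_univ _),
      Finset.sum_erase_eq_sub (Finset.mem_univ _), hS1, hS1', hS2, hone, hψ1,
      Finset.sum_const, nsmul_eq_mul, hcardK, Complex.conj_natCast]
    ring
  exact_mod_cast hC

end sums

end Cfsg.Agent.Lib.Helper25
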