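import Mathlib
import Cfsg.Prelude.Def_OddOrderChar
import Cfsg.Prelude.Def_OddOrderLocal
import Cfsg.Agent.Lib.Helper25.CN3
import Cfsg.Agent.S1527

/-!
# Sectors of a CN-group, part 4: several sectors

Setting: subgroups `K i` of a finite group `G` of odd order, of pairwise coprime orders, each a
TI-subset properly contained in its normaliser `N i`, which is a Frobenius group with kernel
`K i`, such that every non-identity element of `G` is conjugate into some `K i`; and a package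
`P i : SectorPkg (K i)` of exceptional characters for every `i`.

* `partition_sum`: a sum over `G` of a class function, sector by sector;
* `cross_ne`: exceptional characters of different sectors are different;
* `cross_val`: the exceptional characters of sector `j` take on the non-identity elements of
  `K i` (`i ≠ j`) the values `y χ(1) / [N j : K j]` for an integer `y`;
* `cross_parity`, `cross_row`, `cross_norm`: the three relations between these integers used in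
  the endgame.
-/

set_option autoImplicit false

namespace Cfsg.Agent.Lib.Helper25

open Cfsg Cfsg.Agent.Lib.Helper80 Cfsg.Agent.Lib.Helper26
open scoped ComplexConjugate

section partition

variable {G : Type*} [Group G] [Fintype G] {ι : Type*} [Fintype ι] (K : ι → Subgroup G)
  [∀ i, Fintype ↥(K i)]

/-- A sum over the group of a class function, split along the conjugates of the sectors. -/
theorem partition_sum
    (hcop : ∀ i j, i ≠ j → Nat.Coprime (Nat.card (K i)) (Nat.card (K j)))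
    (hTI : ∀ i, Cfsg.IsTISubset (K i : Set G))
    (hcover : ∀ g : G, g ≠ 1 → ∃ i, ∃ x : G, x * g * x⁻¹ ∈ K i)
    (F : G → ℝ) (hF : ∀ g x : G, F (x * g * x⁻¹) = F g) :
    ∑ g : G, F g = F 1 + ∑ i, ((Subgroup.normalizer (K i : Set G)).index : ℝ) *
      (∑ k : K i, F k - F 1) := by
  classical
  set N : ι → Subgroup G := fun i => Subgroup.normalizer (K i : Set G) with hN
  have hf1 : ∀ x : (Σ i, (G ⧸ N i) × {h : K i // h ≠ 1}),
      x.2.1.out * (x.2.2.1 : G) * (x.2.1.out)⁻¹ ≠ 1 := by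
    intro x h
    have h2 : ((x.2.2.1 : K x.1) : G) = 1 := by
      have := congrArg (fun t => (x.2.1.out)⁻¹ * t * x.2.1.out) h
      simpa [mul_assoc] using this
    exact x.2.2.2 (Subtype.ext h2)
  let f : (Σ i, (G ⧸ N i) × {h : K i // h ≠ 1}) → {g : G // g ≠ 1} :=
    fun x => ⟨x.2.1.out * (x.2.2.1 : G) * (x.2.1.out)⁻¹, hf1 x⟩
  have hinj : Function.Injective f := by
    rintro ⟨i, c, h, hh⟩ ⟨j, c', h', hh'⟩ hEq
    have hEq' : c.out * (h : G) * (c.out)⁻¹ = c'.out * (h' : G) * (c'.out)⁻¹ :=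
      congrArg Subtype.val hEq
    have hij : i = j := by
      by_contra hne
      have hg := Cfsg.Agent.S1527.eq_one_of_conj_mem_coprime (K i) (K j) (hcop i j hne)
        (c.out * (h : G) * (c.out)⁻¹) (c.out)⁻¹ (c'.out)⁻¹
        (by simp [mul_assoc])
        (by rw [hEq']; simp [mul_assoc])
      exact hf1 ⟨i, c, h, hh⟩ hg
    subst hij
    have ht : (c'.out)⁻¹ * c.out * (h : G) * ((c'.out)⁻¹ * c.out)⁻¹ = (h' : G) := by
      have := congrArg (fun t => (c'.out)⁻¹ * t * c'.out) hEq'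
      simp only [mul_assoc, inv_mul_cancel_left, inv_mul_cancel, mul_one] at this
      simp only [mul_inv_rev, inv_inv, mul_assoc]
      exact this
    have htN : (c'.out)⁻¹ * c.out ∈ N i := by
      by_contra hnot
      have := hTI i _ hnot (h : G) h.2 (by rw [ht]; exact h'.2)
      exact hh (Subtype.ext this)
    have hcc : c = c' := by
      have h1 : ((c'.out : G) : G ⧸ N i) = ((c.out : G) : G ⧸ N i) :=
        QuotientGroup.eq.mpr htN
      rw [QuotientGroup.out_eq', QuotientGroup.out_eq'] at h1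
      exact h1.symm
    subst hcc
    have hh2 : (h : G) = (h' : G) := by
      have := congrArg (fun t => (c.out)⁻¹ * t * c.out) hEq'
      simpa [mul_assoc] using this
    have hh3 : h = h' := Subtype.ext hh2
    subst hh3
    rfl
  have hsurj : Function.Surjective f := by
    rintro ⟨g, hg⟩
    obtain ⟨i, x, hx⟩ := hcover g hg
    set c : G ⧸ N i := ((x⁻¹ : G) : G ⧸ N i) with hc
    have hn : x * c.out ∈ N i := by
      have h1 : ((c.out : G) : G ⧸ N i) = ((x⁻¹ : G) : G ⧸ N i) := QuotientGroup.out_eq' c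
      have := QuotientGroup.eq.mp h1.symm
      simpa using this
    have hmem : (x * c.out)⁻¹ * (x * g * x⁻¹) * (x * c.out) ∈ K i := by
      have h2 := (Subgroup.mem_set_normalizer_iff''.mp hn (x * g * x⁻¹)).mp hx
      exact h2
    have hne : (⟨(x * c.out)⁻¹ * (x * g * x⁻¹) * (x * c.out), hmem⟩ : K i) ≠ 1 := by
      intro h1
      have h2 : (x * c.out)⁻¹ * (x * g * x⁻¹) * (x * c.out) = 1 := congrArg Subtype.val h1
      apply hg
      have := congrArg (fun t => c.out * t * (c.out)⁻¹) h2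
      simpa [mul_assoc] using this
    refine ⟨⟨i, c, ⟨_, hmem⟩, hne⟩, ?_⟩
    apply Subtype.ext
    show c.out * ((x * c.out)⁻¹ * (x * g * x⁻¹) * (x * c.out)) * (c.out)⁻¹ = g
    simp [mul_assoc]
  haveI : ∀ i, Fintype (G ⧸ N i) := fun i => Fintype.ofFinite _
  have hsplit : ∑ g : G, F g = F 1 + ∑ g : {g : G // g ≠ 1}, F g := by
    rw [← Finset.add_sum_erase Finset.univ F (Finset.mem_univ (1 : G))]
    congr 1
    exact Finset.sum_subtype (Finset.univ.erase (1 : G)) (by simp) F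
  rw [hsplit]
  congr 1
  rw [← Equiv.sum_comp (Equiv.ofBijective f ⟨hinj, hsurj⟩) (fun g : {g : G // g ≠ 1} => F g),
    Fintype.sum_sigma]
  refine Finset.sum_congr rfl (fun i _ => ?_)
  rw [Fintype.sum_prod_type]
  have hin : ∀ c : G ⧸ N i, ∑ h : {h : K i // h ≠ 1},
      F ((Equiv.ofBijective f ⟨hinj, hsurj⟩ ⟨i, (c, h)⟩ : {g : G // g ≠ 1}) : G) =
      ∑ k : K i, F k - F 1 := by
    intro c
    have h1 : ∀ h : {h : K i // h ≠ 1},
        F ((Equiv.ofBijective f ⟨hinj, hsurj⟩ ⟨i, (c, h)⟩ : {g : G // g ≠ 1}) : G) =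
          F ((h : K i) : G) := by
      intro h
      exact hF _ _
    rw [Finset.sum_congr rfl (fun h _ => h1 h),
      ← Finset.sum_subtype (Finset.univ.erase (1 : K i)) (by simp)
        (fun k : K i => F (k : G)),
      Finset.sum_erase_eq_sub (Finset.mem_univ _)]
    rfl
  rw [Finset.sum_congr rfl (fun c _ => hin c), Finset.sum_const, Finset.card_univ,
    nsmul_eq_mul]
  congr 1
  rw [← Nat.card_eq_fintype_card]
  rfl

end partition

section multi

variable {G : Type*} [Group G] [Fintype G] {ι : Type*} (K : ι → Subgroup G)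
  [∀ i, Fintype ↥(Subgroup.normalizer (K i : Set G))]
  (P : ∀ i, SectorPkg (K i))

omit [Fintype G] [∀ i, Fintype ↥(Subgroup.normalizer (K i : Set G))] in
theorem off_conj [Finite G]
    (hcop : ∀ i j, i ≠ j → Nat.Coprime (Nat.card (K i)) (Nat.card (K j)))
    {i j : ι} (hij : i ≠ j) {k : G} (hk : k ∈ K i) (hk1 : k ≠ 1) :
    ∀ x : G, x⁻¹ * k * x ∈ K j → k = 1 := by
  intro x hx
  exact absurd (Cfsg.Agent.S1527.eq_one_of_conj_mem_coprime (K i) (K j) (hcop i j hij) k 1 x⁻¹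
    (by simpa using hk) (by simpa using hx)) hk1

theorem sum_irr_mul_conj (Y Y' : IrrCharacter G) :
    ∑ g : G, (Y : G → ℂ) g * conj ((Y' : G → ℂ) g) =
      if Y = Y' then (Nat.card G : ℂ) else 0 := by
  have h := classInner_irr Y Y'
  unfold Cfsg.classInner at h
  have hG0 : (Nat.card G : ℂ) ≠ 0 := by
    exact_mod_cast (Nat.card_pos (α := G)).ne'
  rw [inv_mul_eq_iff_eq_mul₀ hG0] at h
  rw [h]
  split_ifs <;> simp

/-- Exceptional characters of different sectors are different. -/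
theorem cross_ne (hodd : Odd (Nat.card G))
    (hcop : ∀ i j, i ≠ j → Nat.Coprime (Nat.card (K i)) (Nat.card (K j)))
    {i j : ι} (hij : i ≠ j)
    {χ : IrrCharacter ↥(Subgroup.normalizer (K i : Set G))}
    (hχ : χ ∈ relChars ((K i).subgroupOf (Subgroup.normalizer (K i : Set G))))
    {χ' : IrrCharacter ↥(Subgroup.normalizer (K j : Set G))}
    (hχ' : χ' ∈ relChars ((K j).subgroupOf (Subgroup.normalizer (K j : Set G)))) :
    (P i).X χ ≠ (P j).X χ' := by
  classical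
  intro hEq
  have hoddN : ∀ l, Odd (Nat.card ↥(Subgroup.normalizer (K l : Set G))) := fun l =>
    Odd.of_dvd_nat hodd (Subgroup.card_subgroup_dvd_card _)
  obtain ⟨ψ, hψ, hψne⟩ := rel_exists_ne _ (hoddN i) hχ
  obtain ⟨ψ', hψ', hψ'ne⟩ := rel_exists_ne _ (hoddN j) hχ'
  have hF : ∀ g : G, (∀ x : G, x⁻¹ * g * x ∈ K i → g = 1) →
      (ψ : ↥(Subgroup.normalizer (K i : Set G)) → ℂ) 1 * ((P i).X χ : G → ℂ) g -
        (χ : ↥(Subgroup.normalizer (K i : Set G)) → ℂ) 1 * ((P i).X ψ : G → ℂ) g = 0 := by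
    intro g hg
    rw [(P i).v2 χ hχ ψ hψ g hg, sub_self]
  have hF' : ∀ g : G, (∀ x : G, x⁻¹ * g * x ∈ K j → g = 1) →
      (ψ' : ↥(Subgroup.normalizer (K j : Set G)) → ℂ) 1 * ((P j).X χ' : G → ℂ) g -
        (χ' : ↥(Subgroup.normalizer (K j : Set G)) → ℂ) 1 * ((P j).X ψ' : G → ℂ) g = 0 := by
    intro g hg
    rw [(P j).v2 χ' hχ' ψ' hψ' g hg, sub_self]
  have hprod : ∀ g : G,
      ((ψ : ↥(Subgroup.normalizer (K i : Set G)) → ℂ) 1 * ((P i).X χ : G → ℂ) g -
        (χ : ↥(Subgroup.normalizer (K i : Set G)) → ℂ) 1 * ((P i).X ψ : G → ℂ) g) *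
      conj ((ψ' : ↥(Subgroup.normalizer (K j : Set G)) → ℂ) 1 * ((P j).X χ' : G → ℂ) g -
        (χ' : ↥(Subgroup.normalizer (K j : Set G)) → ℂ) 1 * ((P j).X ψ' : G → ℂ) g) = 0 := by
    intro g
    by_cases hg : ∀ x : G, x⁻¹ * g * x ∈ K i → g = 1
    · rw [hF g hg, zero_mul]
    · push Not at hg
      obtain ⟨x, hx, hg1⟩ := hg
      have hg' : ∀ y : G, y⁻¹ * g * y ∈ K j → g = 1 := fun y hy =>
        Cfsg.Agent.S1527.eq_one_of_conj_mem_coprime (K i) (K j) (hcop i j hij) g x⁻¹ y⁻¹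
          (by simpa using hx) (by simpa using hy)
      rw [hF' g hg', map_zero, mul_zero]
  have hsum := Finset.sum_eq_zero (s := (Finset.univ : Finset G)) (fun g _ => hprod g)
  have hexp : ∀ g : G,
      ((ψ : ↥(Subgroup.normalizer (K i : Set G)) → ℂ) 1 * ((P i).X χ : G → ℂ) g -
        (χ : ↥(Subgroup.normalizer (K i : Set G)) → ℂ) 1 * ((P i).X ψ : G → ℂ) g) *
      conj ((ψ' : ↥(Subgroup.normalizer (K j : Set G)) → ℂ) 1 * ((P j).X χ' : G → ℂ) g -
        (χ' : ↥(Subgroup.normalizer (K j : Set G)) → ℂ) 1 * ((P j).X ψ' : G → ℂ) g) =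
      (ψ : ↥(Subgroup.normalizer (K i : Set G)) → ℂ) 1 *
        (ψ' : ↥(Subgroup.normalizer (K j : Set G)) → ℂ) 1 *
          (((P i).X χ : G → ℂ) g * conj (((P j).X χ' : G → ℂ) g)) -
      (ψ : ↥(Subgroup.normalizer (K i : Set G)) → ℂ) 1 *
        (χ' : ↥(Subgroup.normalizer (K j : Set G)) → ℂ) 1 *
          (((P i).X χ : G → ℂ) g * conj (((P j).X ψ' : G → ℂ) g)) -
      (χ : ↥(Subgroup.normalizer (K i : Set G)) → ℂ) 1 *
        (ψ' : ↥(Subgroup.normalizer (K j : Set G)) → ℂ) 1 *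
          (((P i).X ψ : G → ℂ) g * conj (((P j).X χ' : G → ℂ) g)) +
      (χ : ↥(Subgroup.normalizer (K i : Set G)) → ℂ) 1 *
        (χ' : ↥(Subgroup.normalizer (K j : Set G)) → ℂ) 1 *
          (((P i).X ψ : G → ℂ) g * conj (((P j).X ψ' : G → ℂ) g)) := by
    intro g
    simp only [map_sub, map_mul, conj_deg_eq]
    ring
  rw [Finset.sum_congr rfl (fun g _ => hexp g), Finset.sum_add_distrib, Finset.sum_sub_distrib,
    Finset.sum_sub_distrib, ← Finset.mul_sum, ← Finset.mul_sum, ← Finset.mul_sum,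
    ← Finset.mul_sum, sum_irr_mul_conj, sum_irr_mul_conj, sum_irr_mul_conj, sum_irr_mul_conj,
    if_pos hEq] at hsum
  have hne1 : (P i).X χ ≠ (P j).X ψ' := by
    rw [hEq]
    intro h
    exact hψ'ne ((P j).inj χ' hχ' ψ' hψ' h).symm
  have hne2 : (P i).X ψ ≠ (P j).X χ' := by
    rw [← hEq]
    intro h
    exact hψne ((P i).inj ψ hψ χ hχ h)
  rw [if_neg hne1, if_neg hne2, mul_zero, mul_zero, sub_zero, sub_zero] at hsum
  rw [char_one_eq_charDegree (isCharacter_of_isIrrCharacter ψ.2),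
    char_one_eq_charDegree (isCharacter_of_isIrrCharacter ψ'.2),
    char_one_eq_charDegree (isCharacter_of_isIrrCharacter χ.2),
    char_one_eq_charDegree (isCharacter_of_isIrrCharacter χ'.2)] at hsum
  have hpos1 := charDegree_pos ψ.2
  have hpos2 := charDegree_pos ψ'.2
  have hG : 0 < Nat.card G := Nat.card_pos
  have hnat : Cfsg.charDegree (ψ : ↥(Subgroup.normalizer (K i : Set G)) → ℂ) *
      Cfsg.charDegree (ψ' : ↥(Subgroup.normalizer (K j : Set G)) → ℂ) * Nat.card G +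
      Cfsg.charDegree (χ : ↥(Subgroup.normalizer (K i : Set G)) → ℂ) *
      Cfsg.charDegree (χ' : ↥(Subgroup.normalizer (K j : Set G)) → ℂ) *
        (if (P i).X ψ = (P j).X ψ' then Nat.card G else 0) = 0 := by
    have h2 : ((Cfsg.charDegree (ψ : ↥(Subgroup.normalizer (K i : Set G)) → ℂ) *
      Cfsg.charDegree (ψ' : ↥(Subgroup.normalizer (K j : Set G)) → ℂ) * Nat.card G +
      Cfsg.charDegree (χ : ↥(Subgroup.normalizer (K i : Set G)) → ℂ) *
      Cfsg.charDegree (χ' : ↥(Subgroup.normalizer (K j : Set G)) → ℂ) *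
        (if (P i).X ψ = (P j).X ψ' then Nat.card G else 0) : ℕ) : ℂ) = 0 := by
      push_cast
      exact hsum
    exact_mod_cast h2
  have h3 := Nat.eq_zero_of_add_eq_zero_right hnat
  have h4 : 0 < Cfsg.charDegree (ψ : ↥(Subgroup.normalizer (K i : Set G)) → ℂ) *
      Cfsg.charDegree (ψ' : ↥(Subgroup.normalizer (K j : Set G)) → ℂ) * Nat.card G :=
    Nat.mul_pos (Nat.mul_pos hpos1 hpos2) hG
  omega

/-- The exceptional characters of one sector on the non-identity elements of another. -/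
theorem cross_val (hodd : Odd (Nat.card G))
    (hlt : ∀ i, K i < Subgroup.normalizer (K i : Set G)) (hK1 : ∀ i, K i ≠ ⊥)
    (hTI : ∀ i, Cfsg.IsTISubset (K i : Set G))
    (hfrob : ∀ i, ∀ h ∈ K i, h ≠ 1 →
      Subgroup.normalizer (K i : Set G) ⊓ Subgroup.centralizer ({h} : Set G) ≤ K i)
    (hcop : ∀ i j, i ≠ j → Nat.Coprime (Nat.card (K i)) (Nat.card (K j)))
    (i j : ι) :
    ∃ y : ℤ, i ≠ j →
      ∀ χ ∈ relChars ((K j).subgroupOf (Subgroup.normalizer (K j : Set G))),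
      ∀ k ∈ K i, k ≠ 1 → ((P j).X χ : G → ℂ) k =
        (y : ℂ) * (χ : ↥(Subgroup.normalizer (K j : Set G)) → ℂ) 1 / (secE (K j) : ℂ) := by
  classical
  by_cases hij : i = j
  · exact ⟨0, fun h => absurd hij h⟩
  obtain ⟨ψ₀, hψ₀, hψ₀1⟩ := rel_exists_linear (K j) (hlt j) (hK1 j) (hTI j) (hfrob j)
  have hnot : ∀ χ ∈ relChars ((K i).subgroupOf (Subgroup.normalizer (K i : Set G))),
      (P j).X ψ₀ ≠ (P i).X χ := fun χ hχ h =>
    cross_ne K P hodd hcop hij hχ hψ₀ h.symm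
  obtain ⟨y, hy⟩ := (P i).v3 ((P j).X ψ₀) hnot
  refine ⟨y, fun _ χ hχ k hk hk1 => ?_⟩
  have h2 := (P j).v2 χ hχ ψ₀ hψ₀ k (off_conj K hcop hij hk hk1)
  rw [hψ₀1, hy k hk hk1] at h2
  have he0 : (secE (K j) : ℂ) ≠ 0 := secE_ne_zero
  rw [eq_div_iff he0]
  linear_combination h2

omit [Fintype G] [∀ i, Fintype ↥(Subgroup.normalizer (K i : Set G))] in
/-- The complex conjugate of an irreducible character. -/
noncomputable def conjIrr [Finite G] (Y : IrrCharacter G) : IrrCharacter G :=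
  ⟨fun g => conj ((Y : G → ℂ) g), Cfsg.Agent.Lib.Helper74.isIrrCharacter_conj Y.2⟩

theorem triv_not_exc (i : ι)
    {χ : IrrCharacter ↥(Subgroup.normalizer (K i : Set G))}
    (hχ : χ ∈ relChars ((K i).subgroupOf (Subgroup.normalizer (K i : Set G)))) :
    trivIrr G ≠ (P i).X χ := by
  intro h
  obtain ⟨a, ha, b, hb, ha1, hb1, hne⟩ := (P i).v4 χ hχ
  rw [← h] at hne
  exact hne rfl

theorem conj_not_exc (i : ι) (Y : IrrCharacter G)
    (hY : ∀ χ ∈ relChars ((K i).subgroupOf (Subgroup.normalizer (K i : Set G))),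
      Y ≠ (P i).X χ) :
    ∀ χ ∈ relChars ((K i).subgroupOf (Subgroup.normalizer (K i : Set G))),
      conjIrr Y ≠ (P i).X χ := by
  intro χ hχ h
  obtain ⟨y, hy⟩ := (P i).v3 Y hY
  obtain ⟨a, ha, b, hb, ha1, hb1, hne⟩ := (P i).v4 χ hχ
  rw [← h] at hne
  apply hne
  show conj ((Y : G → ℂ) a) = conj ((Y : G → ℂ) b)
  rw [hy a ha ha1, hy b hb hb1]

/-- The parity relation between the values of the exceptional characters of two sectors on
each other. -/
theorem cross_parity (hodd : Odd (Nat.card G))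
    (hlt : ∀ i, K i < Subgroup.normalizer (K i : Set G)) (hK1 : ∀ i, K i ≠ ⊥)
    (hfrob : ∀ i, ∀ h ∈ K i, h ≠ 1 →
      Subgroup.normalizer (K i : Set G) ⊓ Subgroup.centralizer ({h} : Set G) ≤ K i)
    (hcop : ∀ i j, i ≠ j → Nat.Coprime (Nat.card (K i)) (Nat.card (K j)))
    (dd : ι → ι → ℤ)
    (hdd : ∀ i j, i ≠ j →
      ∀ χ ∈ relChars ((K j).subgroupOf (Subgroup.normalizer (K j : Set G))),
      ∀ k ∈ K i, k ≠ 1 → ((P j).X χ : G → ℂ) k =
        (dd i j : ℂ) * (χ : ↥(Subgroup.normalizer (K j : Set G)) → ℂ) 1 / (secE (K j) : ℂ))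
    {i l : ι} (hil : i ≠ l) : Odd (dd i l + dd l i) := by
  classical
  haveI : Fintype (IrrCharacter G) := Fintype.ofFinite _
  obtain ⟨k₀, hk₀⟩ := (Subgroup.ne_bot_iff_exists_ne_one).mp (hK1 i)
  obtain ⟨k₁, hk₁⟩ := (Subgroup.ne_bot_iff_exists_ne_one).mp (hK1 l)
  have hk1 : (k₀ : G) ≠ 1 := fun h => hk₀ (Subtype.ext h)
  have hk'1 : (k₁ : G) ≠ 1 := fun h => hk₁ (Subtype.ext h)
  have hnc : ¬ IsConj (k₀ : G) (k₁ : G) := by
    intro h
    obtain ⟨c, hc⟩ := isConj_iff.mp h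
    exact hk1 (Cfsg.Agent.S1527.eq_one_of_conj_mem_coprime (K i) (K l) (hcop i l hil) k₀ 1 c
      (by simp) (by rw [hc]; exact k₁.2))
  have h2 := second_orthogonality_of_not_isConj hnc
  set Xi : Finset (IrrCharacter G) :=
    (relChars ((K i).subgroupOf (Subgroup.normalizer (K i : Set G)))).image (P i).X with hXi
  set Xl : Finset (IrrCharacter G) :=
    (relChars ((K l).subgroupOf (Subgroup.normalizer (K l : Set G)))).image (P l).X with hXl
  have hdisj : Disjoint Xi Xl := by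
    rw [Finset.disjoint_left]
    intro Y hYi hYl
    obtain ⟨χ, hχ, rfl⟩ := Finset.mem_image.mp hYi
    obtain ⟨χ', hχ', h⟩ := Finset.mem_image.mp hYl
    exact cross_ne K P hodd hcop hil hχ hχ' h.symm
  have hsi : ∑ Y ∈ Xi, (Y : G → ℂ) k₀ * conj ((Y : G → ℂ) k₁) =
      (dd l i : ℂ) * (-((P i).ε : ℂ) + ((P i).d : ℂ) * (secT (K i) : ℂ)) := by
    rw [hXi, Finset.sum_image (fun χ hχ χ' hχ' h => (P i).inj χ hχ χ' hχ' h)]
    exact sector_sum_cross (P i) (hlt i) (hfrob i) k₀.2 hk1 k₁ (dd l i)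
      (fun χ hχ => hdd l i (Ne.symm hil) χ hχ k₁ k₁.2 hk'1)
  have hsl : ∑ Y ∈ Xl, (Y : G → ℂ) k₀ * conj ((Y : G → ℂ) k₁) =
      (dd i l : ℂ) * (-((P l).ε : ℂ) + ((P l).d : ℂ) * (secT (K l) : ℂ)) := by
    rw [hXl, Finset.sum_image (fun χ hχ χ' hχ' h => (P l).inj χ hχ χ' hχ' h)]
    have h := sector_sum_cross (P l) (hlt l) (hfrob l) k₁.2 hk'1 k₀ (dd i l)
      (fun χ hχ => hdd i l hil χ hχ k₀ k₀.2 hk1)
    have h' := congrArg conj h
    rw [map_sum] at h'
    simp only [map_mul, Complex.conj_conj, map_intCast, map_natCast, map_add, map_neg] at h'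
    rw [← h']
    exact Finset.sum_congr rfl (fun χ _ => mul_comm _ _)
  set Rr : Finset (IrrCharacter G) := Finset.univ \ (Xi ∪ Xl) with hRr
  have hsplit : ∑ Y : IrrCharacter G, (Y : G → ℂ) k₀ * conj ((Y : G → ℂ) k₁) =
      ∑ Y ∈ Xi, (Y : G → ℂ) k₀ * conj ((Y : G → ℂ) k₁) +
      ∑ Y ∈ Xl, (Y : G → ℂ) k₀ * conj ((Y : G → ℂ) k₁) +
      ∑ Y ∈ Rr, (Y : G → ℂ) k₀ * conj ((Y : G → ℂ) k₁) := by
    rw [← Finset.sum_union hdisj, add_comm, hRr, Finset.sum_sdiff (Finset.subset_univ _)]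
  have hnotmem : ∀ Y ∈ Rr, Y ∉ Xi ∧ Y ∉ Xl := by
    intro Y hY
    rw [hRr, Finset.mem_sdiff, Finset.mem_union] at hY
    exact ⟨fun h => hY.2 (Or.inl h), fun h => hY.2 (Or.inr h)⟩
  have hexi : ∀ Y : IrrCharacter G, Y ∉ Xi →
      ∀ χ ∈ relChars ((K i).subgroupOf (Subgroup.normalizer (K i : Set G))),
        Y ≠ (P i).X χ := by
    intro Y hY χ hχ h
    exact hY (Finset.mem_image.mpr ⟨χ, hχ, h.symm⟩)
  have hexl : ∀ Y : IrrCharacter G, Y ∉ Xl →
      ∀ χ ∈ relChars ((K l).subgroupOf (Subgroup.normalizer (K l : Set G))),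
        Y ≠ (P l).X χ := by
    intro Y hY χ hχ h
    exact hY (Finset.mem_image.mpr ⟨χ, hχ, h.symm⟩)
  have hai : ∀ Y : IrrCharacter G, ∃ a : ℤ, Y ∉ Xi → (Y : G → ℂ) k₀ = (a : ℂ) := by
    intro Y
    by_cases hY : Y ∈ Xi
    · exact ⟨0, fun h => absurd hY h⟩
    · obtain ⟨y, hy⟩ := (P i).v3 Y (hexi Y hY)
      exact ⟨y, fun _ => hy k₀ k₀.2 hk1⟩
  choose a ha using hai
  have hbl : ∀ Y : IrrCharacter G, ∃ b : ℤ, Y ∉ Xl → (Y : G → ℂ) k₁ = (b : ℂ) := by
    intro Y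
    by_cases hY : Y ∈ Xl
    · exact ⟨0, fun h => absurd hY h⟩
    · obtain ⟨y, hy⟩ := (P l).v3 Y (hexl Y hY)
      exact ⟨y, fun _ => hy k₁ k₁.2 hk'1⟩
  choose b hb using hbl
  have hR : ∑ Y ∈ Rr, (Y : G → ℂ) k₀ * conj ((Y : G → ℂ) k₁) =
      ((∑ Y ∈ Rr, a Y * b Y : ℤ) : ℂ) := by
    push_cast
    refine Finset.sum_congr rfl (fun Y hY => ?_)
    rw [ha Y (hnotmem Y hY).1, hb Y (hnotmem Y hY).2, map_intCast]
  have htriv : trivIrr G ∈ Rr := by
    rw [hRr, Finset.mem_sdiff, Finset.mem_union]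
    refine ⟨Finset.mem_univ _, ?_⟩
    rintro (h | h)
    · obtain ⟨χ, hχ, hχe⟩ := Finset.mem_image.mp h
      exact triv_not_exc K P i hχ hχe.symm
    · obtain ⟨χ, hχ, hχe⟩ := Finset.mem_image.mp h
      exact triv_not_exc K P l hχ hχe.symm
  have hconjR : ∀ Y ∈ Rr, conjIrr Y ∈ Rr := by
    intro Y hY
    rw [hRr, Finset.mem_sdiff, Finset.mem_union]
    refine ⟨Finset.mem_univ _, ?_⟩
    rintro (h | h)
    · obtain ⟨χ, hχ, hχe⟩ := Finset.mem_image.mp h
      exact conj_not_exc K P i Y (hexi Y (hnotmem Y hY).1) χ hχ hχe.symm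
    · obtain ⟨χ, hχ, hχe⟩ := Finset.mem_image.mp h
      exact conj_not_exc K P l Y (hexl Y (hnotmem Y hY).2) χ hχ hχe.symm
  have haconj : ∀ Y ∈ Rr, a (conjIrr Y) = a Y := by
    intro Y hY
    have e1 := ha (conjIrr Y) (hnotmem _ (hconjR Y hY)).1
    have e2 := ha Y (hnotmem Y hY).1
    have e3 : ((conjIrr Y : IrrCharacter G) : G → ℂ) k₀ = conj ((Y : G → ℂ) k₀) := rfl
    rw [e3, e2, map_intCast] at e1
    exact_mod_cast e1.symm
  have hbconj : ∀ Y ∈ Rr, b (conjIrr Y) = b Y := by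
    intro Y hY
    have e1 := hb (conjIrr Y) (hnotmem _ (hconjR Y hY)).2
    have e2 := hb Y (hnotmem Y hY).2
    have e3 : ((conjIrr Y : IrrCharacter G) : G → ℂ) k₁ = conj ((Y : G → ℂ) k₁) := rfl
    rw [e3, e2, map_intCast] at e1
    exact_mod_cast e1.symm
  have hinv : ((∑ Y ∈ Rr.erase (trivIrr G), a Y * b Y : ℤ) : ZMod 2) = 0 := by
    rw [Int.cast_sum]
    refine Finset.sum_involution (fun Y _ => conjIrr Y) ?_ ?_ ?_ ?_
    · intro Y hY
      have hYR := Finset.mem_of_mem_erase hY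
      rw [haconj Y hYR, hbconj Y hYR]
      exact CharTwo.add_self_eq_zero _
    · intro Y hY _ hfix
      have hreal : ∀ g : G, ((Y : G → ℂ) g).im = 0 := fun g =>
        Complex.conj_eq_iff_im.mp (congrFun (congrArg Subtype.val hfix) g)
      have h3 := Cfsg.Agent.S0161.result hodd Y hreal
      exact (Finset.ne_of_mem_erase hY) (Subtype.ext h3)
    · intro Y hY
      have hYR := Finset.mem_of_mem_erase hY
      rw [Finset.mem_erase]
      refine ⟨?_, hconjR Y hYR⟩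
      intro h
      apply Finset.ne_of_mem_erase hY
      apply Subtype.ext
      funext g
      have h4 : conj ((Y : G → ℂ) g) = 1 := congrFun (congrArg Subtype.val h) g
      have h5 := congrArg conj h4
      rw [Complex.conj_conj, map_one] at h5
      exact h5
    · intro Y hY
      apply Subtype.ext
      funext g
      show conj (conj ((Y : G → ℂ) g)) = (Y : G → ℂ) g
      exact Complex.conj_conj _
  have ha1 : a (trivIrr G) = 1 := by
    have e1 := ha (trivIrr G) (hnotmem _ htriv).1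
    have e2 : ((trivIrr G : IrrCharacter G) : G → ℂ) k₀ = 1 := rfl
    rw [e2] at e1
    exact_mod_cast e1.symm
  have hb1 : b (trivIrr G) = 1 := by
    have e1 := hb (trivIrr G) (hnotmem _ htriv).2
    have e2 : ((trivIrr G : IrrCharacter G) : G → ℂ) k₁ = 1 := rfl
    rw [e2] at e1
    exact_mod_cast e1.symm
  have hZ : dd l i * (-(P i).ε + (P i).d * (secT (K i) : ℤ)) +
      dd i l * (-(P l).ε + (P l).d * (secT (K l) : ℤ)) +
      (1 + ∑ Y ∈ Rr.erase (trivIrr G), a Y * b Y) = 0 := by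
    have hC : ((dd l i * (-(P i).ε + (P i).d * (secT (K i) : ℤ)) +
      dd i l * (-(P l).ε + (P l).d * (secT (K l) : ℤ)) +
      (1 + ∑ Y ∈ Rr.erase (trivIrr G), a Y * b Y) : ℤ) : ℂ) = 0 := by
      rw [← h2, hsplit, hsi, hsl, hR, ← Finset.add_sum_erase Rr _ htriv, ha1, hb1]
      push_cast
      ring
    exact_mod_cast hC
  have hZ2 := congrArg (Int.cast : ℤ → ZMod 2) hZ
  push_cast at hZ2
  have hTi : ((secT (K i) : ℕ) : ZMod 2) = 0 :=
    (ZMod.natCast_eq_zero_iff_even).mpr (secT_even (K i) hodd (hfrob i))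
  have hTl : ((secT (K l) : ℕ) : ZMod 2) = 0 :=
    (ZMod.natCast_eq_zero_iff_even).mpr (secT_even (K l) hodd (hfrob l))
  have hεi : (((P i).ε : ℤ) : ZMod 2) = 1 := by
    rcases (P i).hε with h | h <;> rw [h] <;> decide
  have hεl : (((P l).ε : ℤ) : ZMod 2) = 1 := by
    rcases (P l).hε with h | h <;> rw [h] <;> decide
  have hinv' : ∑ Y ∈ Rr.erase (trivIrr G), ((a Y : ℤ) : ZMod 2) * ((b Y : ℤ) : ZMod 2) = 0 := by
    rw [← hinv]
    push_cast
    rfl
  rw [hTi, hTl, hεi, hεl, hinv'] at hZ2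
  rw [← ZMod.intCast_eq_one_iff_odd]
  push_cast
  linear_combination (-1 : ZMod 2) * hZ2

omit [∀ i, Fintype ↥(Subgroup.normalizer (K i : Set G))] in
theorem sector_d_nonneg {K₀ : Subgroup G} (P₀ : SectorPkg K₀) (ht : 2 ≤ secT K₀) :
    0 ≤ (P₀.d : ℝ) ^ 2 * (secT K₀ : ℝ) - 2 * (P₀.ε : ℝ) * (P₀.d : ℝ) := by
  have h1 : (P₀.d : ℝ) ≤ (P₀.d : ℝ) ^ 2 := by exact_mod_cast Int.le_self_sq P₀.d
  have h2 : -(P₀.d : ℝ) ≤ (P₀.d : ℝ) ^ 2 := by
    have h3 := Int.le_self_sq (-P₀.d)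
    rw [neg_sq] at h3
    exact_mod_cast h3
  have ht' : (2 : ℝ) ≤ (secT K₀ : ℝ) := by exact_mod_cast ht
  have hd2 : 0 ≤ (P₀.d : ℝ) ^ 2 := sq_nonneg _
  rcases P₀.hε with h | h <;> rw [h] <;> push_cast <;> nlinarith

/-- The row inequality: the second orthogonality relation at a non-identity element of a
sector. -/
theorem cross_row (hodd : Odd (Nat.card G))
    (hlt : ∀ i, K i < Subgroup.normalizer (K i : Set G)) (hK1 : ∀ i, K i ≠ ⊥)
    (hTI : ∀ i, Cfsg.IsTISubset (K i : Set G))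
    (hfrob : ∀ i, ∀ h ∈ K i, h ≠ 1 →
      Subgroup.normalizer (K i : Set G) ⊓ Subgroup.centralizer ({h} : Set G) ≤ K i)
    (hcop : ∀ i j, i ≠ j → Nat.Coprime (Nat.card (K i)) (Nat.card (K j)))
    (dd : ι → ι → ℤ)
    (hdd : ∀ i j, i ≠ j →
      ∀ χ ∈ relChars ((K j).subgroupOf (Subgroup.normalizer (K j : Set G))),
      ∀ k ∈ K i, k ≠ 1 → ((P j).X χ : G → ℂ) k =
        (dd i j : ℂ) * (χ : ↥(Subgroup.normalizer (K j : Set G)) → ℂ) 1 / (secE (K j) : ℂ))
    (i : ι) (Zs : Finset ι) (hi : i ∉ Zs) :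
    ∑ j ∈ Zs, (secT (K j) : ℝ) * (dd i j : ℝ) ^ 2 ≤ (secE (K i) : ℝ) - 1 := by
  classical
  haveI : Fintype (IrrCharacter G) := Fintype.ofFinite _
  obtain ⟨k₀, hk₀⟩ := (Subgroup.ne_bot_iff_exists_ne_one).mp (hK1 i)
  have hk1 : (k₀ : G) ≠ 1 := fun h => hk₀ (Subtype.ext h)
  have h2 := second_orthogonality_of_isConj (IsConj.refl (k₀ : G))
  have h2r : ∑ Y : IrrCharacter G, Complex.normSq ((Y : G → ℂ) k₀) =
      (Nat.card (Subgroup.centralizer ({(k₀ : G)} : Set G)) : ℝ) := by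
    have hC : ((∑ Y : IrrCharacter G, Complex.normSq ((Y : G → ℂ) k₀) : ℝ) : ℂ) =
        ((Nat.card (Subgroup.centralizer ({(k₀ : G)} : Set G)) : ℝ) : ℂ) := by
      push_cast
      rw [← h2]
      exact Finset.sum_congr rfl (fun Y _ => (Complex.mul_conj _).symm)
    exact_mod_cast hC
  have hinjσ : Set.InjOn
      (fun p : (Σ j, IrrCharacter ↥(Subgroup.normalizer (K j : Set G))) => (P p.1).X p.2)
      (((insert i Zs).sigma (fun j =>
        relChars ((K j).subgroupOf (Subgroup.normalizer (K j : Set G)))) :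
          Finset (Σ j, IrrCharacter ↥(Subgroup.normalizer (K j : Set G)))) : Set _) := by
    rintro ⟨j, χ⟩ hp ⟨j', χ'⟩ hq h
    rw [Finset.mem_coe, Finset.mem_sigma] at hp hq
    by_cases hjj : j = j'
    · subst hjj
      have h3 := (P j).inj χ hp.2 χ' hq.2 h
      rw [h3]
    · exact absurd h (cross_ne K P hodd hcop hjj hp.2 hq.2)
  have htriv : trivIrr G ∉ ((insert i Zs).sigma (fun j =>
        relChars ((K j).subgroupOf (Subgroup.normalizer (K j : Set G))))).image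
      (fun p : (Σ j, IrrCharacter ↥(Subgroup.normalizer (K j : Set G))) => (P p.1).X p.2) := by
    intro h
    obtain ⟨⟨j, χ⟩, hp, hpe⟩ := Finset.mem_image.mp h
    rw [Finset.mem_sigma] at hp
    exact triv_not_exc K P j hp.2 hpe.symm
  have hle : ∑ Y ∈ insert (trivIrr G) (((insert i Zs).sigma (fun j =>
        relChars ((K j).subgroupOf (Subgroup.normalizer (K j : Set G))))).image
      (fun p : (Σ j, IrrCharacter ↥(Subgroup.normalizer (K j : Set G))) => (P p.1).X p.2)),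
      Complex.normSq ((Y : G → ℂ) k₀) ≤
      ∑ Y : IrrCharacter G, Complex.normSq ((Y : G → ℂ) k₀) :=
    Finset.sum_le_sum_of_subset_of_nonneg (Finset.subset_univ _)
      (fun _ _ _ => Complex.normSq_nonneg _)
  rw [Finset.sum_insert htriv, Finset.sum_image hinjσ, Finset.sum_sigma, Finset.sum_insert hi,
    h2r] at hle
  have e1 : Complex.normSq ((trivIrr G : G → ℂ) k₀) = 1 := by
    rw [trivIrr_apply]
    exact map_one _
  have e2 := sector_sum_self (P i) (hlt i) (hTI i) (hfrob i) k₀.2 hk1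
  have e3 : ∀ j ∈ Zs, ∑ χ ∈ relChars ((K j).subgroupOf (Subgroup.normalizer (K j : Set G))),
      Complex.normSq (((P j).X χ : G → ℂ) k₀) = (dd i j : ℝ) ^ 2 * (secT (K j) : ℝ) := by
    intro j hj
    have hij : i ≠ j := fun h => hi (h ▸ hj)
    exact sector_sum_cross_sq (P j) (hfrob j) k₀ (dd i j)
      (fun χ hχ => hdd i j hij χ hχ k₀ k₀.2 hk1)
  rw [e1, e2, Finset.sum_congr rfl e3] at hle
  have hnn := sector_d_nonneg (P i) (two_le_secT (K i) hodd (hK1 i) (hfrob i))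
  have hcomm : ∑ j ∈ Zs, (secT (K j) : ℝ) * (dd i j : ℝ) ^ 2 =
      ∑ j ∈ Zs, (dd i j : ℝ) ^ 2 * (secT (K j) : ℝ) :=
    Finset.sum_congr rfl (fun j _ => mul_comm _ _)
  rw [hcomm]
  linarith

/-- The norm inequality: the norm of an exceptional character of minimal degree, computed
sector by sector. -/
theorem cross_norm [Fintype ι] [DecidableEq ι] [∀ i, Fintype ↥(K i)] (hodd : Odd (Nat.card G))
    (hlt : ∀ i, K i < Subgroup.normalizer (K i : Set G)) (hK1 : ∀ i, K i ≠ ⊥)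
    (hTI : ∀ i, Cfsg.IsTISubset (K i : Set G))
    (hfrob : ∀ i, ∀ h ∈ K i, h ≠ 1 →
      Subgroup.normalizer (K i : Set G) ⊓ Subgroup.centralizer ({h} : Set G) ≤ K i)
    (hcop : ∀ i j, i ≠ j → Nat.Coprime (Nat.card (K i)) (Nat.card (K j)))
    (hcover : ∀ g : G, g ≠ 1 → ∃ i, ∃ x : G, x * g * x⁻¹ ∈ K i)
    (dd : ι → ι → ℤ)
    (hdd : ∀ i j, i ≠ j →
      ∀ χ ∈ relChars ((K j).subgroupOf (Subgroup.normalizer (K j : Set G))),
      ∀ k ∈ K i, k ≠ 1 → ((P j).X χ : G → ℂ) k =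
        (dd i j : ℂ) * (χ : ↥(Subgroup.normalizer (K j : Set G)) → ℂ) 1 / (secE (K j) : ℂ))
    (i₀ : ι) :
    ∑ j ∈ Finset.univ.erase i₀,
      ((secT (K j) : ℝ) / (Nat.card (K j) : ℝ)) * (dd j i₀ : ℝ) ^ 2 ≤
        (secE (K i₀) : ℝ) / (Nat.card (K i₀) : ℝ) := by
  classical
  obtain ⟨ψ₀, hψ₀, hψ₀1⟩ := rel_exists_linear (K i₀) (hlt i₀) (hK1 i₀) (hTI i₀) (hfrob i₀)
  have hF : ∀ g x : G, Complex.normSq (((P i₀).X ψ₀ : G → ℂ) (x * g * x⁻¹)) =
      Complex.normSq (((P i₀).X ψ₀ : G → ℂ) g) := by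
    intro g x
    rw [Cfsg.Agent.Lib.Helper80.isClassFunction_of_isCharacter
      (isCharacter_of_isIrrCharacter ((P i₀).X ψ₀).2) g x]
  have hpart := partition_sum K hcop hTI hcover
    (fun g => Complex.normSq (((P i₀).X ψ₀ : G → ℂ) g)) hF
  have hnorm : ∑ g : G, Complex.normSq (((P i₀).X ψ₀ : G → ℂ) g) = (Nat.card G : ℝ) := by
    have h := sum_irr_mul_conj ((P i₀).X ψ₀) ((P i₀).X ψ₀)
    rw [if_pos rfl] at h
    have hC : ((∑ g : G, Complex.normSq (((P i₀).X ψ₀ : G → ℂ) g) : ℝ) : ℂ) =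
        ((Nat.card G : ℝ) : ℂ) := by
      push_cast
      rw [← h]
      exact Finset.sum_congr rfl (fun g _ => (Complex.mul_conj _).symm)
    exact_mod_cast hC
  rw [hnorm, ← Finset.add_sum_erase Finset.univ _ (Finset.mem_univ i₀)] at hpart
  have e0 := sector_norm (P i₀) (hlt i₀) (hTI i₀) (hfrob i₀) hψ₀ hψ₀1
  have ej : ∀ j ∈ Finset.univ.erase i₀,
      ∑ k : K j, Complex.normSq (((P i₀).X ψ₀ : G → ℂ) k) -
        Complex.normSq (((P i₀).X ψ₀ : G → ℂ) 1) =
      ((Nat.card (K j) : ℝ) - 1) * (dd j i₀ : ℝ) ^ 2 := by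
    intro j hj
    have hji : j ≠ i₀ := Finset.ne_of_mem_erase hj
    have h1 : ∑ k : K j, Complex.normSq (((P i₀).X ψ₀ : G → ℂ) k) -
        Complex.normSq (((P i₀).X ψ₀ : G → ℂ) 1) =
        ∑ k ∈ Finset.univ.erase (1 : K j), Complex.normSq (((P i₀).X ψ₀ : G → ℂ) k) := by
      rw [Finset.sum_erase_eq_sub (Finset.mem_univ _)]
      rfl
    have hv : ∀ k ∈ Finset.univ.erase (1 : K j),
        Complex.normSq (((P i₀).X ψ₀ : G → ℂ) k) = (dd j i₀ : ℝ) ^ 2 := by
      intro k hk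
      have hk1 : (k : G) ≠ 1 := fun h => (Finset.ne_of_mem_erase hk) (Subtype.ext h)
      have h3 := hdd j i₀ hji ψ₀ hψ₀ k k.2 hk1
      rw [h3, hψ₀1, mul_div_assoc, div_self secE_ne_zero, mul_one, ← Complex.ofReal_intCast,
        Complex.normSq_ofReal]
      ring
    rw [h1, Finset.sum_congr rfl hv, Finset.sum_const,
      Finset.card_erase_of_mem (Finset.mem_univ _), Finset.card_univ,
      ← Nat.card_eq_fintype_card, nsmul_eq_mul, Nat.cast_sub Nat.card_pos, Nat.cast_one]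
  rw [e0, Finset.sum_congr rfl (fun j hj => by rw [ej j hj])] at hpart
  have hidx : ∀ j, ((Subgroup.normalizer (K j : Set G)).index : ℝ) *
      ((secE (K j) : ℝ) * (Nat.card (K j) : ℝ)) = (Nat.card G : ℝ) := by
    intro j
    exact_mod_cast sector_index_mul (K j)
  have hET : ∀ j, (secE (K j) : ℝ) * (secT (K j) : ℝ) + 1 = (Nat.card (K j) : ℝ) := by
    intro j
    exact_mod_cast secE_mul_secT (K j) (hfrob j)
  have hhpos : ∀ j, (0 : ℝ) < (Nat.card (K j) : ℝ) := by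
    intro j
    exact_mod_cast (Nat.card_pos (α := K j))
  have hterm : ∀ j ∈ Finset.univ.erase i₀, ((Subgroup.normalizer (K j : Set G)).index : ℝ) *
      (((Nat.card (K j) : ℝ) - 1) * (dd j i₀ : ℝ) ^ 2) =
      (Nat.card G : ℝ) *
        (((secT (K j) : ℝ) / (Nat.card (K j) : ℝ)) * (dd j i₀ : ℝ) ^ 2) := by
    intro j _
    have h4 : (Nat.card (K j) : ℝ) - 1 = (secE (K j) : ℝ) * (secT (K j) : ℝ) := by
      linarith [hET j]
    have hh := (hhpos j).ne'
    rw [← hidx j, h4]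
    field_simp
  rw [Finset.sum_congr rfl hterm, ← Finset.mul_sum] at hpart
  have hG : (0 : ℝ) < (Nat.card G : ℝ) := by exact_mod_cast (Nat.card_pos (α := G))
  have hnn := sector_d_nonneg (P i₀) (two_le_secT (K i₀) hodd (hK1 i₀) (hfrob i₀))
  have hn0 : (0 : ℝ) ≤ ((Subgroup.normalizer (K i₀ : Set G)).index : ℝ) := Nat.cast_nonneg _
  have he0 : (0 : ℝ) ≤ (secE (K i₀) : ℝ) := Nat.cast_nonneg _
  have hF1 : 0 ≤ Complex.normSq (((P i₀).X ψ₀ : G → ℂ) 1) := Complex.normSq_nonneg _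
  have h5 : ((Subgroup.normalizer (K i₀ : Set G)).index : ℝ) *
      ((secE (K i₀) : ℝ) * (Nat.card (K i₀) : ℝ) - (secE (K i₀) : ℝ) ^ 2) =
      (Nat.card G : ℝ) - (Nat.card G : ℝ) * ((secE (K i₀) : ℝ) / (Nat.card (K i₀) : ℝ)) := by
    have hh := (hhpos i₀).ne'
    rw [← hidx i₀]
    field_simp
  have h6 : 0 ≤ ((Subgroup.normalizer (K i₀ : Set G)).index : ℝ) *
      ((secE (K i₀) : ℝ) * (((P i₀).d : ℝ) ^ 2 * (secT (K i₀) : ℝ) -
        2 * ((P i₀).ε : ℝ) * ((P i₀).d : ℝ))) :=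
    mul_nonneg hn0 (mul_nonneg he0 hnn)
  have hkey : (Nat.card G : ℝ) * ∑ j ∈ Finset.univ.erase i₀,
      ((secT (K j) : ℝ) / (Nat.card (K j) : ℝ)) * (dd j i₀ : ℝ) ^ 2 ≤
      (Nat.card G : ℝ) * ((secE (K i₀) : ℝ) / (Nat.card (K i₀) : ℝ)) := by
    nlinarith
  exact le_of_mul_le_mul_left hkey hG

end multi

end Cfsg.Agent.Lib.Helper25
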