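import Mathlib
import Cfsg.Prelude.Def_OddOrderChar
import Cfsg.Prelude.Def_OddOrderLocal
import Cfsg.Agent.Lib.Helper25.CN4

/-!
# Sectors of a CN-group, part 5: the endgame

`cn_arith` is the final counting argument; `cn_endgame` derives a contradiction from a
partition of a group of odd order into conjugates of Frobenius kernels that are TI-subsets of
pairwise coprime orders, given that the characters of each normaliser induced from the kernel
form a coherent set.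
-/

set_option autoImplicit false

namespace Cfsg.Agent.Lib.Helper25

open Cfsg Cfsg.Agent.Lib.Helper80 Cfsg.Agent.Lib.Helper26
open scoped ComplexConjugate

theorem cn_arith {ι : Type*} [Fintype ι] [DecidableEq ι] (i₀ : ι) (e t h : ι → ℕ) (g : ℕ)
    (dd : ι → ι → ℤ)
    (hh : ∀ j, e j * t j + 1 = h j) (he : 3 ≤ e i₀) (ht : 2 ≤ t i₀)
    (hmin : ∀ j, j ≠ i₀ → h i₀ + 2 ≤ h j)
    (hclass : ∑ j, (t j : ℝ) / (h j : ℝ) = 1 - 1 / (g : ℝ))
    (hpar : ∀ j, j ≠ i₀ → Odd (dd i₀ j + dd j i₀))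
    (hrow : ∀ Zs : Finset ι, i₀ ∉ Zs →
      ∑ j ∈ Zs, (t j : ℝ) * (dd i₀ j : ℝ) ^ 2 ≤ (e i₀ : ℝ) - 1)
    (hnorm : ∑ j ∈ Finset.univ.erase i₀, ((t j : ℝ) / (h j : ℝ)) * (dd j i₀ : ℝ) ^ 2 ≤
      (e i₀ : ℝ) / (h i₀ : ℝ))
    (hg : h i₀ * (h i₀ + 2) ≤ g) : False := by
  classical
  have hhpos : ∀ j, (0 : ℝ) < (h j : ℝ) := by
    intro j
    have h1 := hh j
    have h2 : 0 < h j := by omega
    exact_mod_cast h2
  have hanon : ∀ j, (0 : ℝ) ≤ (t j : ℝ) / (h j : ℝ) := fun j =>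
    div_nonneg (Nat.cast_nonneg _) (hhpos j).le
  have hsplit : ∑ j, (t j : ℝ) / (h j : ℝ) = (t i₀ : ℝ) / (h i₀ : ℝ) +
      (∑ j ∈ (Finset.univ.erase i₀).filter (fun j => dd j i₀ = 0), (t j : ℝ) / (h j : ℝ) +
        ∑ j ∈ (Finset.univ.erase i₀).filter (fun j => ¬ dd j i₀ = 0),
          (t j : ℝ) / (h j : ℝ)) := by
    rw [← Finset.add_sum_erase Finset.univ _ (Finset.mem_univ i₀),
      Finset.sum_filter_add_sum_filter_not]
  have h1 : ∑ j ∈ (Finset.univ.erase i₀).filter (fun j => ¬ dd j i₀ = 0),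
      (t j : ℝ) / (h j : ℝ) ≤ (e i₀ : ℝ) / (h i₀ : ℝ) := by
    refine le_trans ?_ hnorm
    refine le_trans (Finset.sum_le_sum (fun j hj => ?_))
      (Finset.sum_le_sum_of_subset_of_nonneg (Finset.filter_subset _ _)
        (fun j _ _ => mul_nonneg (hanon j) (sq_nonneg _)))
    have hne : dd j i₀ ≠ 0 := (Finset.mem_filter.mp hj).2
    have hsq : (1 : ℝ) ≤ (dd j i₀ : ℝ) ^ 2 := by
      have h3 : (1 : ℤ) ≤ (dd j i₀) ^ 2 := by
        have h4 := sq_nonneg (dd j i₀)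
        have h0 : (dd j i₀) ^ 2 ≠ 0 := pow_ne_zero 2 hne
        omega
      exact_mod_cast h3
    calc (t j : ℝ) / (h j : ℝ) = (t j : ℝ) / (h j : ℝ) * 1 := (mul_one _).symm
      _ ≤ (t j : ℝ) / (h j : ℝ) * (dd j i₀ : ℝ) ^ 2 :=
        mul_le_mul_of_nonneg_left hsq (hanon j)
  have hi₀Z : i₀ ∉ (Finset.univ.erase i₀).filter (fun j => dd j i₀ = 0) := by
    intro h
    exact (Finset.ne_of_mem_erase (Finset.mem_of_mem_filter _ h)) rfl
  have hH2 : (0 : ℝ) < (h i₀ : ℝ) + 2 := by linarith [hhpos i₀]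
  have h2 : ∑ j ∈ (Finset.univ.erase i₀).filter (fun j => dd j i₀ = 0),
      (t j : ℝ) / (h j : ℝ) ≤ ((e i₀ : ℝ) - 1) / ((h i₀ : ℝ) + 2) := by
    have h2a : ∑ j ∈ (Finset.univ.erase i₀).filter (fun j => dd j i₀ = 0),
        (t j : ℝ) / (h j : ℝ) ≤
        ∑ j ∈ (Finset.univ.erase i₀).filter (fun j => dd j i₀ = 0),
          ((t j : ℝ) * (dd i₀ j : ℝ) ^ 2) / ((h i₀ : ℝ) + 2) := by
      refine Finset.sum_le_sum (fun j hj => ?_)
      have hj' := Finset.mem_filter.mp hj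
      have hji : j ≠ i₀ := Finset.ne_of_mem_erase hj'.1
      have hodd := hpar j hji
      rw [hj'.2, add_zero] at hodd
      have hsq : (1 : ℝ) ≤ (dd i₀ j : ℝ) ^ 2 := by
        have hne : dd i₀ j ≠ 0 := by
          intro h0
          rw [h0] at hodd
          exact absurd hodd (by decide)
        have h3 : (1 : ℤ) ≤ (dd i₀ j) ^ 2 := by
          have h4 := sq_nonneg (dd i₀ j)
          have h0 : (dd i₀ j) ^ 2 ≠ 0 := pow_ne_zero 2 hne
          omega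
        exact_mod_cast h3
      have hhj : (h i₀ : ℝ) + 2 ≤ (h j : ℝ) := by exact_mod_cast hmin j hji
      calc (t j : ℝ) / (h j : ℝ) ≤ (t j : ℝ) / ((h i₀ : ℝ) + 2) :=
            div_le_div_of_nonneg_left (Nat.cast_nonneg _) hH2 hhj
        _ ≤ ((t j : ℝ) * (dd i₀ j : ℝ) ^ 2) / ((h i₀ : ℝ) + 2) :=
            div_le_div_of_nonneg_right (le_mul_of_one_le_right (Nat.cast_nonneg _) hsq) hH2.le
    rw [← Finset.sum_div] at h2a
    exact le_trans h2a (div_le_div_of_nonneg_right (hrow _ hi₀Z) hH2.le)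
  have h3 : 1 - 1 / (g : ℝ) ≤ (t i₀ : ℝ) / (h i₀ : ℝ) +
      ((e i₀ : ℝ) - 1) / ((h i₀ : ℝ) + 2) + (e i₀ : ℝ) / (h i₀ : ℝ) := by
    rw [← hclass, hsplit]
    linarith
  have hE : (3 : ℝ) ≤ (e i₀ : ℝ) := by exact_mod_cast he
  have hT : (2 : ℝ) ≤ (t i₀ : ℝ) := by exact_mod_cast ht
  have hH : (h i₀ : ℝ) = (e i₀ : ℝ) * (t i₀ : ℝ) + 1 := by
    have h4 := hh i₀
    exact_mod_cast h4.symm
  have hHpos : (0 : ℝ) < (h i₀ : ℝ) := hhpos i₀
  have hgr : (h i₀ : ℝ) * ((h i₀ : ℝ) + 2) ≤ (g : ℝ) := by exact_mod_cast hg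
  have hprod : (0 : ℝ) < (h i₀ : ℝ) * ((h i₀ : ℝ) + 2) := mul_pos hHpos hH2
  have hg1 : 1 / (g : ℝ) ≤ 1 / ((h i₀ : ℝ) * ((h i₀ : ℝ) + 2)) :=
    one_div_le_one_div_of_le hprod hgr
  have h4 : (4 : ℝ) ≤ ((e i₀ : ℝ) - 1) *
      ((e i₀ : ℝ) * (t i₀ : ℝ) * ((t i₀ : ℝ) - 2) + 3 * (t i₀ : ℝ) - 4) := by
    have ha : 0 ≤ (e i₀ : ℝ) * (t i₀ : ℝ) * ((t i₀ : ℝ) - 2) :=
      mul_nonneg (mul_nonneg (by linarith) (by linarith)) (by linarith)
    nlinarith
  have h5 : (t i₀ : ℝ) / (h i₀ : ℝ) + ((e i₀ : ℝ) - 1) / ((h i₀ : ℝ) + 2) +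
      (e i₀ : ℝ) / (h i₀ : ℝ) =
      (((t i₀ : ℝ) + (e i₀ : ℝ)) * ((h i₀ : ℝ) + 2) + ((e i₀ : ℝ) - 1) * (h i₀ : ℝ)) /
        ((h i₀ : ℝ) * ((h i₀ : ℝ) + 2)) := by
    field_simp
    ring
  have h6 : 1 - 1 / ((h i₀ : ℝ) * ((h i₀ : ℝ) + 2)) =
      ((h i₀ : ℝ) * ((h i₀ : ℝ) + 2) - 1) / ((h i₀ : ℝ) * ((h i₀ : ℝ) + 2)) := by
    field_simp
  have h7 : ((h i₀ : ℝ) * ((h i₀ : ℝ) + 2) - 1) / ((h i₀ : ℝ) * ((h i₀ : ℝ) + 2)) ≤
      (((t i₀ : ℝ) + (e i₀ : ℝ)) * ((h i₀ : ℝ) + 2) + ((e i₀ : ℝ) - 1) * (h i₀ : ℝ)) /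
        ((h i₀ : ℝ) * ((h i₀ : ℝ) + 2)) := by
    rw [← h5, ← h6]
    linarith
  have h8 := (div_le_div_iff_of_pos_right hprod).mp h7
  rw [hH] at h8
  nlinarith

/-- The endgame of the CN-theorem for groups of odd order, given coherence in every
sector. -/
theorem cn_endgame {G : Type*} [Group G] [Fintype G] (hodd : Odd (Nat.card G))
    {ι : Type*} [Fintype ι] (hι : 2 ≤ Fintype.card ι) (K : ι → Subgroup G)
    [∀ i, Fintype ↥(Subgroup.normalizer (K i : Set G))]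
    (hlt : ∀ i, K i < Subgroup.normalizer (K i : Set G)) (hK1 : ∀ i, K i ≠ ⊥)
    (hfrob : ∀ i, ∀ h ∈ K i, h ≠ 1 →
      Subgroup.normalizer (K i : Set G) ⊓ Subgroup.centralizer ({h} : Set G) ≤ K i)
    (hcop : ∀ i j, i ≠ j → Nat.Coprime (Nat.card (K i)) (Nat.card (K j)))
    (hTI : ∀ i, Cfsg.IsTISubset (K i : Set G))
    (hcover : ∀ g : G, g ≠ 1 → ∃ i, ∃ x : G, x * g * x⁻¹ ∈ K i)
    (hcoh : ∀ i, IsCoherent
      (inducedIrrAbove ((K i).subgroupOf (Subgroup.normalizer (K i : Set G))) ⊥) {1}ᶜ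
      (fun α : ↥(Subgroup.normalizer (K i : Set G)) → ℂ =>
        Cfsg.indFun (Subgroup.normalizer (K i : Set G)) α)) : False := by
  classical
  haveI : ∀ i, Fintype ↥(K i) := fun i => Fintype.ofFinite _
  have hP : ∀ i, Nonempty (SectorPkg (K i)) := fun i =>
    exists_sectorPkg (K i) hodd (hlt i) (hK1 i) (hTI i) (hfrob i) (hcoh i)
  obtain ⟨P⟩ : Nonempty (∀ i, SectorPkg (K i)) := ⟨fun i => Classical.choice (hP i)⟩
  choose dd hdd using cross_val K P hodd hlt hK1 hTI hfrob hcop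
  have hne : Nonempty ι := Fintype.card_pos_iff.mp (by omega)
  obtain ⟨i₀, -, hmin⟩ := Finset.exists_min_image Finset.univ (fun i => Nat.card (K i))
    ⟨Classical.choice hne, Finset.mem_univ _⟩
  obtain ⟨j₁, hj₁⟩ := Fintype.exists_ne_of_one_lt_card (by omega : 1 < Fintype.card ι) i₀
  have hcard1 : ∀ i, Nat.card (K i) ≠ 1 := fun i h => hK1 i (Subgroup.card_eq_one.mp h)
  have hmin' : ∀ j, j ≠ i₀ → Nat.card (K i₀) + 2 ≤ Nat.card (K j) := by
    intro j hj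
    have h1 := hmin j (Finset.mem_univ _)
    have h2 : Nat.card (K i₀) ≠ Nat.card (K j) := by
      intro h
      have h3 := hcop i₀ j (Ne.symm hj)
      rw [h, Nat.coprime_self] at h3
      exact hcard1 j h3
    obtain ⟨a, ha⟩ := card_sector_odd (K i₀) hodd
    obtain ⟨b, hb⟩ := card_sector_odd (K j) hodd
    omega
  have hg : Nat.card (K i₀) * (Nat.card (K i₀) + 2) ≤ Nat.card G := by
    have h1 : Nat.card (K i₀) * Nat.card (K j₁) ∣ Nat.card G :=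
      Nat.Coprime.mul_dvd_of_dvd_of_dvd (hcop i₀ j₁ (Ne.symm hj₁))
        (Subgroup.card_subgroup_dvd_card _) (Subgroup.card_subgroup_dvd_card _)
    have h2 := Nat.le_of_dvd Nat.card_pos h1
    have h3 := hmin' j₁ hj₁
    calc Nat.card (K i₀) * (Nat.card (K i₀) + 2) ≤ Nat.card (K i₀) * Nat.card (K j₁) :=
          Nat.mul_le_mul_left _ h3
      _ ≤ Nat.card G := h2
  have hG : (0 : ℝ) < (Nat.card G : ℝ) := by exact_mod_cast (Nat.card_pos (α := G))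
  have hhpos : ∀ j, (0 : ℝ) < (Nat.card (K j) : ℝ) := by
    intro j
    exact_mod_cast (Nat.card_pos (α := K j))
  have hclass : ∑ j, (secT (K j) : ℝ) / (Nat.card (K j) : ℝ) = 1 - 1 / (Nat.card G : ℝ) := by
    have hce := Cfsg.Agent.S1527.result K hcop hTI hcover
    have hce' : (Nat.card G : ℝ) - 1 =
        ∑ i, ((Subgroup.normalizer (K i : Set G)).index : ℝ) * ((Nat.card (K i) : ℝ) - 1) := by
      have h1 : ((Nat.card G - 1 : ℕ) : ℝ) = (Nat.card G : ℝ) - 1 := by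
        rw [Nat.cast_sub Nat.card_pos, Nat.cast_one]
      rw [← h1, hce]
      push_cast
      refine Finset.sum_congr rfl (fun i _ => ?_)
      rw [Nat.cast_sub Nat.card_pos, Nat.cast_one]
    have hterm : ∀ j ∈ (Finset.univ : Finset ι),
        ((Subgroup.normalizer (K j : Set G)).index : ℝ) * ((Nat.card (K j) : ℝ) - 1) =
        (Nat.card G : ℝ) * ((secT (K j) : ℝ) / (Nat.card (K j) : ℝ)) := by
      intro j _
      have hidx : ((Subgroup.normalizer (K j : Set G)).index : ℝ) *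
          ((secE (K j) : ℝ) * (Nat.card (K j) : ℝ)) = (Nat.card G : ℝ) := by
        exact_mod_cast sector_index_mul (K j)
      have hET : (secE (K j) : ℝ) * (secT (K j) : ℝ) + 1 = (Nat.card (K j) : ℝ) := by
        exact_mod_cast secE_mul_secT (K j) (hfrob j)
      have h4 : (Nat.card (K j) : ℝ) - 1 = (secE (K j) : ℝ) * (secT (K j) : ℝ) := by
        linarith
      have hh := (hhpos j).ne'
      rw [← hidx, h4]
      field_simp
    rw [Finset.sum_congr rfl hterm, ← Finset.mul_sum] at hce'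
    have hG0 := hG.ne'
    field_simp
    linarith
  exact cn_arith i₀ (fun j => secE (K j)) (fun j => secT (K j)) (fun j => Nat.card (K j))
    (Nat.card G) dd (fun j => secE_mul_secT (K j) (hfrob j))
    (three_le_secE (K i₀) hodd (hlt i₀)) (two_le_secT (K i₀) hodd (hK1 i₀) (hfrob i₀))
    hmin' hclass
    (fun j hj => cross_parity K P hodd hlt hK1 hfrob hcop dd hdd (Ne.symm hj))
    (fun Zs hZ => cross_row K P hodd hlt hK1 hTI hfrob hcop dd hdd i₀ Zs hZ)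
    (cross_norm K P hodd hlt hK1 hTI hfrob hcop hcover dd hdd i₀) hg

/-- The statement of the theorem on groups of odd order partitioned by conjugates of Frobenius
kernels, given the coherence theorem for a Frobenius group whose kernel is a TI-subset. -/
theorem cn_of_sibley {G : Type*} [Group G] [Fintype G]
    (hsib : ∀ (H L W₁ : Subgroup G) [Fintype L], Odd (Nat.card L) → H ≤ L → W₁ ≤ L → H ≠ ⊥ →
      W₁ ≠ ⊥ → Group.IsNilpotent H → (∀ x ∈ L, ∀ h ∈ H, x * h * x⁻¹ ∈ H) → H ⊓ W₁ = ⊥ →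
      H ⊔ W₁ = L → (∀ w ∈ W₁, w ≠ 1 → ∀ h ∈ H, w * h = h * w → h = 1) →
      Cfsg.IsTISubset (H : Set G) → Subgroup.normalizer (H : Set G) = L →
      Cfsg.IsCoherent (Cfsg.inducedIrrAbove (H.subgroupOf L) ⊥) {1}ᶜ
        (fun α : L → ℂ => Cfsg.indFun L α))
    (hodd : Odd (Nat.card G)) {ι : Type*} [Fintype ι] (hι : 2 ≤ Fintype.card ι)
    (L H : ι → Subgroup G) (hHL : ∀ i, H i < L i) (hH1 : ∀ i, H i ≠ ⊥)
    (hHn : ∀ i, ∀ x ∈ L i, ∀ h ∈ H i, x * h * x⁻¹ ∈ H i)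
    (hfrob : ∀ i, ∀ h ∈ H i, h ≠ 1 → L i ⊓ Subgroup.centralizer ({h} : Set G) ≤ H i)
    (hcop : ∀ i j, i ≠ j → Nat.Coprime (Nat.card (H i)) (Nat.card (H j)))
    (hTI : ∀ i, Cfsg.IsTISubset (H i : Set G) ∧ Subgroup.normalizer (H i : Set G) = L i)
    (hcover : ∀ g : G, g ≠ 1 → ∃ i, ∃ x : G, x * g * x⁻¹ ∈ H i) : False := by
  classical
  have hL : L = fun i => Subgroup.normalizer (H i : Set G) := funext (fun i => (hTI i).2.symm)
  subst hL
  haveI : ∀ i, Fintype ↥(Subgroup.normalizer (H i : Set G)) := fun i => Fintype.ofFinite _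
  refine cn_endgame hodd hι H hHL hH1 hfrob hcop (fun i => (hTI i).1) hcover (fun i => ?_)
  obtain ⟨W, hWN, hW1, hinf, hsup, hfpf⟩ := sector_complement (H i) (hHL i) (hfrob i)
  exact hsib (H i) (Subgroup.normalizer (H i : Set G)) W
    (Odd.of_dvd_nat hodd (Subgroup.card_subgroup_dvd_card _)) (hHL i).le hWN (hH1 i) hW1
    (sector_nilpotent (H i) (hHL i) (hH1 i) (hfrob i)) (hHn i) hinf hsup hfpf (hTI i).1 rfl

end Cfsg.Agent.Lib.Helper25
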