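import Mathlib
import Cfsg.Prelude.Def_OddOrderChar
import Cfsg.Prelude.Def_OddOrderLocal
import Cfsg.Agent.Lib.Helper25.CN1
import Cfsg.Agent.Lib.Helper25.FrobSys
import Cfsg.Agent.Lib.Helper4.FrobChar
import Cfsg.Agent.Lib.Helper4.Exceptional
import Cfsg.Agent.Lib.Helper69.Wielandt
import Cfsg.Agent.S1528
import Cfsg.Agent.S1529
import Cfsg.Agent.S0852
import Cfsg.Agent.S0853
import Cfsg.Agent.Lib.Helper25.CN2

/-!
# Exceptional characters of a sector without parity hypotheses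

`exists_sectorPkg'`: the package of exceptional characters from coherence alone.
-/

set_option autoImplicit false

namespace Cfsg.Agent.Lib.Helper25

open Cfsg Cfsg.Agent.Lib.Helper80 Cfsg.Agent.Lib.Helper26
open scoped ComplexConjugate

section sector

variable {G : Type*} [Group G] [Fintype G] (K : Subgroup G)
  [Fintype ↥(Subgroup.normalizer (K : Set G))]

theorem exists_sectorPkg'
    (hlt : K < Subgroup.normalizer (K : Set G)) (hK1 : K ≠ ⊥)
    (hTI : IsTISubset (K : Set G))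
    (hfrob : ∀ h ∈ K, h ≠ 1 →
      Subgroup.normalizer (K : Set G) ⊓ Subgroup.centralizer ({h} : Set G) ≤ K)
    (hcoh : IsCoherent (inducedIrrAbove (K.subgroupOf (Subgroup.normalizer (K : Set G))) ⊥)
      {1}ᶜ (fun α : ↥(Subgroup.normalizer (K : Set G)) → ℂ =>
        Cfsg.indFun (Subgroup.normalizer (K : Set G)) α)) :
    Nonempty (SectorPkg K) := by
  classical
  have hC := sector_cent K hTI hfrob
  obtain ⟨W, hWN, hW1, hinf, hsup, hfpf⟩ := sector_complement K hlt hfrob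
  have hKN : K ≤ Subgroup.normalizer (K : Set G) := hlt.le
  have hSeq := sector_induced_eq K hlt hTI hfrob
  set S : Set (↥(Subgroup.normalizer (K : Set G)) → ℂ) :=
    {χ : ↥(Subgroup.normalizer (K : Set G)) → ℂ |
      IsIrrCharacter ↥(Subgroup.normalizer (K : Set G)) χ ∧
        ∃ k : ↥(Subgroup.normalizer (K : Set G)), (k : G) ∈ K ∧ χ k ≠ χ 1} with hSdef
  have hmem := Cfsg.Agent.Lib.Helper4.mem_S_iff K S hSdef
  have hSirr : ∀ χ ∈ S, IsIrrCharacter ↥(Subgroup.normalizer (K : Set G)) χ :=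
    fun χ hχ => ((hmem χ).mp hχ).1
  have hSchar : ∀ χ ∈ S, IsCharacter ↥(Subgroup.normalizer (K : Set G)) χ :=
    fun χ hχ => isCharacter_of_isIrrCharacter (hSirr χ hχ)
  obtain ⟨hnz, τ₁, hτ₁, hag₀⟩ := hcoh
  rw [hSeq] at hτ₁ hag₀ hnz
  have hag : ∀ α ∈ Cfsg.zspanOn S {1}ᶜ,
      τ₁ α = Cfsg.indFun (Subgroup.normalizer (K : Set G)) α := hag₀
  -- two members
  have htwo : ∃ χ ∈ S, ∃ ξ ∈ S, χ ≠ ξ := by
    by_contra hcon
    push Not at hcon
    obtain ⟨α, hα, hα0⟩ := hnz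
    apply hα0
    obtain ⟨hαspan, hα1⟩ := Cfsg.Agent.Lib.Helper26.mem_zspanOn_one.mp hα
    rcases Set.eq_empty_or_nonempty S with hS | ⟨χ₀, hχ₀⟩
    · rw [hS, Submodule.span_empty] at hαspan
      exact (Submodule.mem_bot ℤ).mp hαspan
    · have hS1 : S = {χ₀} := by
        ext ξ
        constructor
        · intro hξ
          exact hcon ξ hξ χ₀ hχ₀
        · intro hξ
          rw [Set.mem_singleton_iff.mp hξ]
          exact hχ₀
      rw [hS1] at hαspan
      obtain ⟨n, rfl⟩ := Submodule.mem_span_singleton.mp hαspan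
      have h1 : (n : ℂ) * χ₀ 1 = 0 := by
        have h0 := hα1
        rwa [Cfsg.Agent.Lib.Helper26.zsmul_apply'] at h0
      have h2 : χ₀ 1 ≠ 0 := char_one_ne_zero (hSirr χ₀ hχ₀)
      have h3 : (n : ℂ) = 0 := (mul_eq_zero.mp h1).resolve_right h2
      have h4 : n = 0 := by exact_mod_cast h3
      rw [h4, zero_smul]
  have hzs : ∀ χ ∈ S, χ ∈ Cfsg.zspan S := fun χ hχ => Submodule.subset_span hχ
  obtain ⟨ε, hε, hirrX, hinjτ⟩ := Cfsg.Agent.S1529.result (Subgroup.normalizer (K : Set G)) S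
    hSirr htwo τ₁ hτ₁ (by
      intro α hα hα1
      have hα' : α ∈ Cfsg.zspanOn S {1}ᶜ := by
        refine ⟨hα, fun x hx => ?_⟩
        have hx1 : x = 1 := by
          by_contra h
          exact hx h
        rw [hx1, hα1]
      rw [hag α hα']
      exact indFun_one_eq_zero _ α hα1)
  obtain ⟨m, hm⟩ := Cfsg.Agent.S0853.result K hTI hlt hC S hSdef htwo τ₁ hτ₁ hag
  have hexc := fun (ψ : G → ℂ) (hψ : IsIrrCharacter G ψ) =>
    Cfsg.Agent.S0852.result K hTI hlt hC S hSdef htwo τ₁ hτ₁ hag ψ hψ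
  obtain ⟨εz, hεz, hεc⟩ : ∃ εz : ℤ, (εz = 1 ∨ εz = -1) ∧ (εz : ℂ) = ε := by
    rcases hε with h | h
    · exact ⟨1, Or.inl rfl, by rw [h]; norm_num⟩
    · exact ⟨-1, Or.inr rfl, by rw [h]; norm_num⟩
  have hε0 : ε ≠ 0 := by
    rcases hε with h | h <;> rw [h] <;> norm_num
  let X : IrrCharacter ↥(Subgroup.normalizer (K : Set G)) → IrrCharacter G := fun χ =>
    if h : (χ : ↥(Subgroup.normalizer (K : Set G)) → ℂ) ∈ S then
      ⟨ε • τ₁ (χ : ↥(Subgroup.normalizer (K : Set G)) → ℂ), hirrX _ h⟩ else trivIrr G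
  have hrelS : ∀ χ ∈ relChars (K.subgroupOf (Subgroup.normalizer (K : Set G))),
      (χ : ↥(Subgroup.normalizer (K : Set G)) → ℂ) ∈ S := fun χ hχ =>
    (hmem _).mpr ⟨χ.2, (mem_relChars _).mp hχ⟩
  have hXval : ∀ χ ∈ relChars (K.subgroupOf (Subgroup.normalizer (K : Set G))),
      ((X χ : IrrCharacter G) : G → ℂ) =
        ε • τ₁ (χ : ↥(Subgroup.normalizer (K : Set G)) → ℂ) := by
    intro χ hχ
    simp only [X, dif_pos (hrelS χ hχ)]
  refine ⟨⟨εz, εz * m, X, hεz, ?_, ?_, ?_, ?_, ?_⟩⟩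
  · intro χ hχ χ' hχ' h
    have h1 : ((X χ : IrrCharacter G) : G → ℂ) = ((X χ' : IrrCharacter G) : G → ℂ) := by rw [h]
    rw [hXval χ hχ, hXval χ' hχ'] at h1
    have h2 : τ₁ (χ : ↥(Subgroup.normalizer (K : Set G)) → ℂ) =
        τ₁ (χ' : ↥(Subgroup.normalizer (K : Set G)) → ℂ) := by
      have h3 := congrArg (fun f : G → ℂ => ε⁻¹ • f) h1
      simp only [smul_smul, inv_mul_cancel₀ hε0, one_smul] at h3
      exact h3
    exact Subtype.ext (hinjτ _ (hrelS χ hχ) _ (hrelS χ' hχ') h2)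
  · intro χ hχ k hk hk1
    have h1 := hm _ (hrelS χ hχ) k hk hk1
    rw [hXval χ hχ, Pi.smul_apply, smul_eq_mul]
    have h2 : τ₁ (χ : ↥(Subgroup.normalizer (K : Set G)) → ℂ) (k : G) =
        (χ : ↥(Subgroup.normalizer (K : Set G)) → ℂ) k + (m : ℂ) *
          (χ : ↥(Subgroup.normalizer (K : Set G)) → ℂ) 1 /
            ((K.subgroupOf (Subgroup.normalizer (K : Set G))).index : ℂ) := by
      rw [← h1]
      ring
    rw [h2, ← hεc]
    push_cast
    ring
  · intro χ hχ χ' hχ' g hg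
    have hχS := hrelS χ hχ
    have hχ'S := hrelS χ' hχ'
    have h1 := Cfsg.Agent.Lib.Helper4.star_alpha K S τ₁ hτ₁ hχS hχ'S (hSchar _ hχS)
      (hSchar _ hχ'S)
    rw [hag _ (Cfsg.Agent.Lib.Helper4.alphaFun_mem_zspanOn S hχS hχ'S (hSchar _ hχS)
      (hSchar _ hχ'S))] at h1
    have h2 : Cfsg.indFun (Subgroup.normalizer (K : Set G))
        (Cfsg.Agent.Lib.Helper4.alphaFun (χ : ↥(Subgroup.normalizer (K : Set G)) → ℂ)
          (χ' : ↥(Subgroup.normalizer (K : Set G)) → ℂ)) g = 0 := by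
      apply Cfsg.Agent.Lib.Helper69.indFun_eq_zero_of_vanish
      intro c hc
      by_cases hcK : c⁻¹ * g * c ∈ K
      · have hg1 := hg c hcK
        have h3 : (⟨c⁻¹ * g * c, hc⟩ : ↥(Subgroup.normalizer (K : Set G))) = 1 := by
          apply Subtype.ext
          show c⁻¹ * g * c = 1
          rw [hg1]
          group
        rw [h3]
        exact Cfsg.Agent.Lib.Helper4.alphaFun_one _ _
      · exact Cfsg.Agent.Lib.Helper4.alpha_vanish K hC χ.2 χ'.2 ((hmem _).mp hχS).2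
          ((hmem _).mp hχ'S).2 ⟨c⁻¹ * g * c, hc⟩ hcK
    have h4 := congrFun h1 g
    rw [h2] at h4
    simp only [Pi.sub_apply, Pi.smul_apply, smul_eq_mul] at h4
    rw [hXval χ hχ, hXval χ' hχ']
    simp only [Pi.smul_apply, smul_eq_mul]
    linear_combination (-ε) * h4
  · intro Y hY
    have hnot : ¬ ∃ χ ∈ S, (Y : G → ℂ) = τ₁ χ ∨ (Y : G → ℂ) = -τ₁ χ := by
      rintro ⟨χ, hχ, h⟩
      have hχrel : (⟨χ, hSirr χ hχ⟩ : IrrCharacter ↥(Subgroup.normalizer (K : Set G))) ∈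
          relChars (K.subgroupOf (Subgroup.normalizer (K : Set G))) :=
        (mem_relChars _).mpr ((hmem χ).mp hχ).2
      have hXv := hXval _ hχrel
      have hYne := hY _ hχrel
      have hXirr := (X ⟨χ, hSirr χ hχ⟩).2
      rw [hXv] at hXirr
      rcases hε with he | he
      · rw [he, one_smul] at hXv hXirr
        rcases h with h | h
        · exact hYne (Subtype.ext (by rw [hXv]; exact h))
        · exact irr_ne_neg Y.2 hXirr h
      · rw [he, neg_one_smul] at hXv hXirr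
        rcases h with h | h
        · apply irr_ne_neg Y.2 hXirr
          rw [neg_neg]
          exact h
        · exact hYne (Subtype.ext (by rw [hXv]; exact h))
    have hconst : ∀ a ∈ K, ∀ b ∈ K, a ≠ 1 → b ≠ 1 → (Y : G → ℂ) a = (Y : G → ℂ) b := by
      intro a ha b hb ha1 hb1
      by_contra hab
      exact hnot ((hexc Y Y.2).mpr ⟨a, ha, b, hb, ha1, hb1, hab⟩)
    obtain ⟨k₀, hk₀⟩ := (Subgroup.ne_bot_iff_exists_ne_one).mp hK1
    have hk₀' : (k₀ : G) ≠ 1 := fun h => hk₀ (Subtype.ext h)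
    obtain ⟨y, hy⟩ := Cfsg.Agent.Lib.Helper4.int_const_of_genchar
      (fun h : K => (Y : G → ℂ) h) 0 0
      (Cfsg.Agent.Lib.Helper75.isCharacter_res K (isCharacter_of_isIrrCharacter Y.2))
      Cfsg.Agent.Lib.Helper26.isCharacter_zero Cfsg.Agent.Lib.Helper26.isCharacter_zero
      ((Y : G → ℂ) k₀) (by
        intro k hk
        simp only [Pi.zero_apply, sub_zero]
        exact hconst k k.2 k₀ k₀.2 (fun h => hk (Subtype.ext h)) hk₀') ⟨k₀, hk₀⟩
    refine ⟨y, fun k hk hk1 => ?_⟩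
    rw [← hy]
    exact hconst k hk k₀ k₀.2 hk1 hk₀'
  · intro χ hχ
    have hXv := hXval χ hχ
    have h1 : ∃ χ' ∈ S, ((X χ : IrrCharacter G) : G → ℂ) = τ₁ χ' ∨
        ((X χ : IrrCharacter G) : G → ℂ) = -τ₁ χ' := by
      refine ⟨_, hrelS χ hχ, ?_⟩
      rcases hε with he | he
      · left
        rw [hXv, he, one_smul]
      · right
        rw [hXv, he, neg_one_smul]
    exact (hexc _ (X χ).2).mp h1

end sector

end Cfsg.Agent.Lib.Helper25
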