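import Mathlib
import Cfsg.Agent.S1530
import Cfsg.Agent.S0198
import Cfsg.Agent.Lib.Helper26.Coh

/-!
# Abstract coherence tools for two unrelated finite groups

* `coh_step`: the step lemma (adding one irreducible character to a coherent set), for an
  arbitrary isometry between two finite groups;
* `coh_equal_degree`: a set of at least two irreducible characters of equal degree is coherent;
* `coh_grow`: growing a coherent subset by characters of increasing degree.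
-/

set_option autoImplicit false

namespace Cfsg.Agent.Lib.Helper25

open Cfsg Cfsg.Agent.Lib.Helper26 Cfsg.Agent.S1530
open scoped ComplexConjugate

/-- The step lemma for coherence, for two unrelated finite groups. -/
theorem coh_step {N : Type*} [Group N] [Fintype N] {G : Type*} [Group G] [Fintype G]
    (S₀ : Finset (N → ℂ)) (χ : N → ℂ) (hirr : ∀ ξ ∈ S₀, Cfsg.IsIrrCharacter N ξ)
    (hχ : Cfsg.IsIrrCharacter N χ) (hχS : χ ∉ S₀) (d : (N → ℂ) → ℕ)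
    (hd : ∀ ξ ∈ insert χ S₀, ξ 1 = (d ξ : ℂ)) (τ : (N → ℂ) → (G → ℂ))
    (hτ : Cfsg.IsLinearIsometryOn (Cfsg.zspanOn (↑(insert χ S₀) : Set (N → ℂ)) {1}ᶜ) τ)
    (hτ1 : ∀ α ∈ Cfsg.zspanOn (↑(insert χ S₀) : Set (N → ℂ)) {1}ᶜ, τ α 1 = 0)
    (hcoh : Cfsg.IsCoherent (↑S₀ : Set (N → ℂ)) {1}ᶜ τ) (ψ : N → ℂ) (hψ : ψ ∈ S₀)
    (hdvd : d ψ ∣ d χ) (hlt : 2 * d ψ * d χ < ∑ ξ ∈ S₀, d ξ ^ 2) :
    Cfsg.IsCoherent (↑(insert χ S₀) : Set (N → ℂ)) {1}ᶜ τ := by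
  classical
  have : Fintype (IrrCharacter G) := Fintype.ofFinite _
  obtain ⟨-, τ₁, hτ₁, hτ₁τ⟩ := hcoh
  have hτ' : IsLinearIsometryOn ((zspanOnSub (↑(insert χ S₀) : Set (N → ℂ)) {1}ᶜ :
      Submodule ℤ (N → ℂ)) : Set (N → ℂ)) τ := hτ
  have hτ₁' : IsLinearIsometryOn ((Submodule.span ℤ (↑S₀ : Set (N → ℂ)) :
      Submodule ℤ (N → ℂ)) : Set (N → ℂ)) τ₁ := hτ₁
  have hS₀S : (↑S₀ : Set (N → ℂ)) ⊆ ↑(insert χ S₀) := by
    intro x hx
    exact Finset.mem_coe.mpr (Finset.mem_insert_of_mem (Finset.mem_coe.mp hx))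
  have hdψ : ψ 1 = d ψ := hd ψ (Finset.mem_insert_of_mem hψ)
  have hdχ : χ 1 = d χ := hd χ (Finset.mem_insert_self _ _)
  have hψirr := hirr ψ hψ
  have hdψpos : 0 < d ψ := by
    obtain ⟨n, hn, e⟩ := irr_degree hψirr
    rw [hdψ] at e
    have : d ψ = n := by exact_mod_cast e
    omega
  have hdχpos : 0 < d χ := by
    obtain ⟨n, hn, e⟩ := irr_degree hχ
    rw [hdχ] at e
    have : d χ = n := by exact_mod_cast e
    omega
  obtain ⟨a, ha⟩ := hdvd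
  have hapos : 0 < a := by
    rcases Nat.eq_zero_or_pos a with h | h
    · rw [h, mul_zero] at ha; omega
    · exact h
  have hmem₀ : ∀ ξ ∈ S₀, ξ ∈ Submodule.span ℤ (↑S₀ : Set (N → ℂ)) :=
    fun ξ hξ => Submodule.subset_span (Finset.mem_coe.mpr hξ)
  have hmemS : ∀ ξ ∈ insert χ S₀, ξ ∈ Submodule.span ℤ (↑(insert χ S₀) : Set (N → ℂ)) :=
    fun ξ hξ => Submodule.subset_span (Finset.mem_coe.mpr hξ)
  set β : N → ℂ := χ - (a : ℤ) • ψ with hβ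
  have hβ1 : β 1 = 0 := by
    rw [hβ, Pi.sub_apply, zsmul_apply', hdχ, hdψ, ha]
    push_cast; ring
  have hβE : β ∈ zspanOnSub (↑(insert χ S₀) : Set (N → ℂ)) {1}ᶜ := by
    show β ∈ zspanOn _ _
    rw [mem_zspanOn_one]
    exact ⟨Submodule.sub_mem _ (hmemS χ (Finset.mem_insert_self _ _))
      (Submodule.smul_mem _ _ (hmemS ψ (Finset.mem_insert_of_mem hψ))), hβ1⟩
  have hχχ : classInner χ χ = 1 := classInner_irr_self hχ
  have hψψ : classInner ψ ψ = 1 := classInner_irr_self hψirr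
  have hχξ : ∀ ξ ∈ S₀, classInner χ ξ = 0 :=
    fun ξ hξ => classInner_irr_ne hχ (hirr ξ hξ) (fun h => hχS (h ▸ hξ))
  have hξχ : ∀ ξ ∈ S₀, classInner ξ χ = 0 :=
    fun ξ hξ => classInner_irr_ne (hirr ξ hξ) hχ (fun h => hχS (h ▸ hξ))
  have hβξ : ∀ ξ ∈ S₀, classInner β ξ = -(a : ℂ) * (if ψ = ξ then 1 else 0) := by
    intro ξ hξ
    rw [hβ, classInner_sub_left, classInner_zsmul_left, hχξ ξ hξ,
      classInner_irr hψirr (hirr ξ hξ)]
    push_cast; ring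
  have hββ : classInner β β = 1 + (a : ℂ) ^ 2 := by
    have h1 : classInner β β = classInner β χ - (a : ℤ) * classInner β ψ := by
      conv_lhs => rw [hβ]
      rw [classInner_sub_right, classInner_zsmul_right]
    rw [h1, hβξ ψ hψ, if_pos rfl, hβ, classInner_sub_left, classInner_zsmul_left, hχχ,
      hξχ ψ hψ]
    push_cast; ring
  have hγ : ∀ ξ ∈ S₀, ((d ψ : ℤ) • ξ - (d ξ : ℤ) • ψ) ∈ zspanOn (↑S₀ : Set (N → ℂ)) {1}ᶜ := by
    intro ξ hξ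
    rw [mem_zspanOn_one]
    refine ⟨Submodule.sub_mem _ (Submodule.smul_mem _ _ (hmem₀ ξ hξ))
      (Submodule.smul_mem _ _ (hmem₀ ψ hψ)), ?_⟩
    rw [Pi.sub_apply, zsmul_apply', zsmul_apply', hd ξ (Finset.mem_insert_of_mem hξ), hdψ]
    push_cast; ring
  have hτγ : ∀ ξ ∈ S₀, τ ((d ψ : ℤ) • ξ - (d ξ : ℤ) • ψ) =
      (d ψ : ℤ) • τ₁ ξ - (d ξ : ℤ) • τ₁ ψ := by
    intro ξ hξ
    rw [← hτ₁τ _ (hγ ξ hξ), lin_sub hτ₁' (Submodule.smul_mem _ _ (hmem₀ ξ hξ))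
      (Submodule.smul_mem _ _ (hmem₀ ψ hψ)), lin_zsmul hτ₁' (hmem₀ ξ hξ),
      lin_zsmul hτ₁' (hmem₀ ψ hψ)]
  have hk : ∀ ξ, ∃ k : ℤ, ξ ∈ S₀ → classInner (τ β) (τ₁ ξ) = k := by
    intro ξ
    by_cases hξ : ξ ∈ S₀
    · obtain ⟨k, hk⟩ := classInner_gen_int (lin_gen hτ' hβE) (lin_gen hτ₁' (hmem₀ ξ hξ))
      exact ⟨k, fun _ => hk⟩
    · exact ⟨0, fun h => absurd h hξ⟩
  choose k hk using hk
  have hrel : ∀ ξ ∈ S₀, (d ψ : ℤ) * k ξ - (d ξ : ℤ) * k ψ =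
      (a : ℤ) * (d ξ : ℤ) - (if ψ = ξ then (a : ℤ) * d ψ else 0) := by
    intro ξ hξ
    have h1 : classInner (τ β) (τ ((d ψ : ℤ) • ξ - (d ξ : ℤ) • ψ)) =
        classInner β ((d ψ : ℤ) • ξ - (d ξ : ℤ) • ψ) :=
      lin_inner hτ' hβE (zspanOn_mono hS₀S _ (hγ ξ hξ))
    rw [hτγ ξ hξ, classInner_sub_right, classInner_zsmul_right, classInner_zsmul_right,
      hk ξ hξ, hk ψ hψ, classInner_sub_right, classInner_zsmul_right, classInner_zsmul_right,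
      hβξ ξ hξ, hβξ ψ hψ, if_pos rfl] at h1
    split_ifs with h
    · rw [if_pos h] at h1
      have h2 : (((d ψ : ℤ) * k ξ - (d ξ : ℤ) * k ψ : ℤ) : ℂ) =
          (((a : ℤ) * (d ξ : ℤ) - (a : ℤ) * d ψ : ℤ) : ℂ) := by
        push_cast
        push_cast at h1
        linear_combination h1
      exact_mod_cast h2
    · rw [if_neg h] at h1
      have h2 : (((d ψ : ℤ) * k ξ - (d ξ : ℤ) * k ψ : ℤ) : ℂ) =
          (((a : ℤ) * (d ξ : ℤ) - 0 : ℤ) : ℂ) := by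
        push_cast
        push_cast at h1
        linear_combination h1
      exact_mod_cast h2
  -- Bessel
  set P : G → ℂ := ∑ ξ ∈ S₀, k ξ • τ₁ ξ with hP
  have hP1 : classInner (τ β) P = ∑ ξ ∈ S₀, (k ξ : ℂ) * (k ξ : ℂ) := by
    rw [hP, classInner_sum_right]
    refine Finset.sum_congr rfl (fun ξ hξ => ?_)
    rw [classInner_zsmul_right, hk ξ hξ]
  have hP2 : classInner P (τ β) = ∑ ξ ∈ S₀, (k ξ : ℂ) * (k ξ : ℂ) := by
    rw [← classInner_conj_symm, hP1, map_sum]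
    refine Finset.sum_congr rfl (fun ξ hξ => ?_)
    simp
  have horth₀ : ∀ x ∈ S₀, ∀ y ∈ S₀, x ≠ y → classInner x y = 0 :=
    fun x hx y hy hne => classInner_irr_ne (hirr x hx) (hirr y hy) hne
  have hP3 : classInner P P = ∑ ξ ∈ S₀, (k ξ : ℂ) * (k ξ : ℂ) := by
    have h1 : P = τ₁ (∑ ξ ∈ S₀, k ξ • ξ) := by
      rw [lin_sum hτ₁' S₀ (fun ξ => k ξ • ξ)
        (fun ξ hξ => Submodule.smul_mem _ _ (hmem₀ ξ hξ))]
      refine Finset.sum_congr rfl (fun ξ hξ => ?_)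
      rw [lin_zsmul hτ₁' (hmem₀ ξ hξ)]
    have h2 : (∑ ξ ∈ S₀, k ξ • ξ) ∈ Submodule.span ℤ (↑S₀ : Set (N → ℂ)) :=
      Submodule.sum_mem _ (fun ξ hξ => Submodule.smul_mem _ _ (hmem₀ ξ hξ))
    rw [h1, lin_inner hτ₁' h2 h2, classInner_comb_comb horth₀]
    refine Finset.sum_congr rfl (fun ξ hξ => ?_)
    rw [classInner_irr_self (hirr ξ hξ), mul_one]
  have hPgen : IsGeneralizedCharacter G (τ β - P) :=
    isGen_sub (lin_gen hτ' hβE)
      (isGen_sum S₀ _ (fun ξ hξ => isGen_zsmul (lin_gen hτ₁' (hmem₀ ξ hξ)) _))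
  obtain ⟨n', hn'⟩ := norm_gen_nat hPgen
  have hττ : classInner (τ β) (τ β) = 1 + (a : ℂ) ^ 2 := by
    rw [lin_inner hτ' hβE hβE, hββ]
  have hnorm' : (n' : ℤ) + ∑ ξ ∈ S₀, k ξ ^ 2 = 1 + (a : ℤ) ^ 2 := by
    have h1 : classInner (τ β - P) (τ β - P) = 1 + (a : ℂ) ^ 2 -
        ∑ ξ ∈ S₀, (k ξ : ℂ) * (k ξ : ℂ) := by
      rw [classInner_sub_left, classInner_sub_right, classInner_sub_right, hP1, hP2, hP3, hττ]
      ring
    rw [hn'] at h1
    have h2 : (((n' : ℤ) + ∑ ξ ∈ S₀, k ξ ^ 2 : ℤ) : ℂ) = ((1 + (a : ℤ) ^ 2 : ℤ) : ℂ) := by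
      push_cast
      rw [h1]
      have : ∑ ξ ∈ S₀, (k ξ : ℂ) ^ 2 = ∑ ξ ∈ S₀, (k ξ : ℂ) * (k ξ : ℂ) :=
        Finset.sum_congr rfl (fun ξ _ => by ring)
      rw [this]
      ring
    exact_mod_cast h2
  -- arithmetic
  set e : ℤ := k ψ + a with he
  set D : ℤ := ∑ ξ ∈ S₀, (d ξ : ℤ) ^ 2 with hD
  have hrel' : ∀ ξ ∈ S₀.erase ψ, (d ψ : ℤ) * k ξ = (d ξ : ℤ) * e := by
    intro ξ hξ
    obtain ⟨hne, hξ'⟩ := Finset.mem_erase.mp hξ
    have := hrel ξ hξ'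
    rw [if_neg (fun h => hne h.symm)] at this
    rw [he]
    linarith
  have hDerase : ∑ ξ ∈ S₀.erase ψ, (d ξ : ℤ) ^ 2 = D - (d ψ : ℤ) ^ 2 := by
    rw [hD, ← Finset.add_sum_erase S₀ (fun ξ => (d ξ : ℤ) ^ 2) hψ]
    ring
  have hsum : (d ψ : ℤ) ^ 2 * ∑ ξ ∈ S₀, k ξ ^ 2 =
      (d ψ : ℤ) ^ 2 * (k ψ) ^ 2 + e ^ 2 * (D - (d ψ : ℤ) ^ 2) := by
    rw [← Finset.add_sum_erase S₀ (fun ξ => k ξ ^ 2) hψ, mul_add, Finset.mul_sum]
    have h1 : ∀ ξ ∈ S₀.erase ψ, (d ψ : ℤ) ^ 2 * k ξ ^ 2 = e ^ 2 * (d ξ : ℤ) ^ 2 := by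
      intro ξ hξ
      have h2 := hrel' ξ hξ
      calc (d ψ : ℤ) ^ 2 * k ξ ^ 2 = ((d ψ : ℤ) * k ξ) ^ 2 := by ring
        _ = e ^ 2 * (d ξ : ℤ) ^ 2 := by rw [h2]; ring
    rw [Finset.sum_congr rfl h1, ← Finset.mul_sum, hDerase]
  have hltZ : 2 * (d ψ : ℤ) * ((d ψ : ℤ) * a) < D := by
    rw [hD]
    rw [ha] at hlt
    exact_mod_cast hlt
  have hDge : (d ψ : ℤ) ^ 2 ≤ D := by
    rw [hD]
    exact Finset.single_le_sum (f := fun ξ => (d ξ : ℤ) ^ 2) (fun ξ _ => sq_nonneg _) hψ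
  have hdψZ : (1 : ℤ) ≤ d ψ := by exact_mod_cast hdψpos
  have haZ : (1 : ℤ) ≤ a := by exact_mod_cast hapos
  have hn'0 : (0 : ℤ) ≤ n' := by exact_mod_cast Nat.zero_le n'
  have hkψ : k ψ = e - a := by rw [he]; ring
  have hmain : (d ψ : ℤ) ^ 2 * (n' : ℤ) + e ^ 2 * D - 2 * a * e * (d ψ : ℤ) ^ 2 =
      (d ψ : ℤ) ^ 2 := by
    have h1 : (d ψ : ℤ) ^ 2 * ((n' : ℤ) + ∑ ξ ∈ S₀, k ξ ^ 2) =
        (d ψ : ℤ) ^ 2 * (1 + (a : ℤ) ^ 2) := by rw [hnorm']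
    rw [mul_add, hsum, hkψ] at h1
    linear_combination h1
  have hdψsq : (1 : ℤ) ≤ (d ψ : ℤ) ^ 2 := by nlinarith
  have hlt' : 2 * (a : ℤ) * (d ψ : ℤ) ^ 2 < D := by
    have : 2 * (a : ℤ) * (d ψ : ℤ) ^ 2 = 2 * (d ψ : ℤ) * ((d ψ : ℤ) * a) := by ring
    rw [this]; exact hltZ
  have he01 : e = 0 ∨ e = 1 :=
    arith_e ((d ψ : ℤ) ^ 2) a e D n' hdψsq haZ hn'0 hlt' hDge hmain
  have hτ₁ψ1 : τ₁ ψ 1 ≠ 0 := by
    apply norm_one_ne_zero (lin_gen hτ₁' (hmem₀ ψ hψ))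
    rw [lin_inner hτ₁' (hmem₀ ψ hψ) (hmem₀ ψ hψ), hψψ]
  have he0 : e = 0 := by
    rcases he01 with h | h
    · exact h
    · exfalso
      rw [h] at hmain
      have hn0 : (n' : ℤ) = 0 := by
        have h1 : (d ψ : ℤ) ^ 2 * (n' : ℤ) < (d ψ : ℤ) ^ 2 * 1 := by linarith
        have h2 : (n' : ℤ) < 1 := lt_of_mul_lt_mul_left h1 (by positivity)
        omega
      have hn0' : n' = 0 := by exact_mod_cast hn0
      rw [hn0', Nat.cast_zero] at hn'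
      have hτβP : τ β = P := sub_eq_zero.mp (classInner_self_eq_zero hn')
      have hval : ∀ ξ ∈ S₀, (d ψ : ℂ) * τ₁ ξ 1 = (d ξ : ℂ) * τ₁ ψ 1 := by
        intro ξ hξ
        have h1 := hτ1 _ (zspanOn_mono hS₀S _ (hγ ξ hξ))
        rw [hτγ ξ hξ, Pi.sub_apply, zsmul_apply', zsmul_apply'] at h1
        push_cast at h1
        linear_combination h1
      have hP1' : (d ψ : ℂ) * P 1 = (∑ ξ ∈ S₀, (k ξ : ℂ) * (d ξ : ℂ)) * τ₁ ψ 1 := by
        rw [hP, Finset.sum_apply, Finset.mul_sum, Finset.sum_mul]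
        refine Finset.sum_congr rfl (fun ξ hξ => ?_)
        rw [zsmul_apply']
        linear_combination (k ξ : ℂ) * hval ξ hξ
      have hτβ1 : τ β 1 = 0 := hτ1 β hβE
      rw [← hτβP, hτβ1, mul_zero] at hP1'
      have hsum0 : ∑ ξ ∈ S₀, (k ξ : ℂ) * (d ξ : ℂ) = 0 := by
        rcases mul_eq_zero.mp hP1'.symm with h0 | h0
        · exact h0
        · exact absurd h0 hτ₁ψ1
      have hsum0Z : ∑ ξ ∈ S₀, k ξ * (d ξ : ℤ) = 0 := by
        have : ((∑ ξ ∈ S₀, k ξ * (d ξ : ℤ) : ℤ) : ℂ) = ((0 : ℤ) : ℂ) := by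
          push_cast
          exact hsum0
        exact_mod_cast this
      have h3 : (d ψ : ℤ) * ∑ ξ ∈ S₀, k ξ * (d ξ : ℤ) = D - a * (d ψ : ℤ) ^ 2 := by
        rw [← Finset.add_sum_erase S₀ (fun ξ => k ξ * (d ξ : ℤ)) hψ, mul_add, Finset.mul_sum]
        have h4 : ∀ ξ ∈ S₀.erase ψ, (d ψ : ℤ) * (k ξ * (d ξ : ℤ)) = (d ξ : ℤ) ^ 2 := by
          intro ξ hξ
          have h5 := hrel' ξ hξ
          rw [h] at h5
          calc (d ψ : ℤ) * (k ξ * (d ξ : ℤ)) = ((d ψ : ℤ) * k ξ) * (d ξ : ℤ) := by ring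
            _ = (d ξ : ℤ) ^ 2 := by rw [h5]; ring
        rw [Finset.sum_congr rfl h4, hDerase, hkψ, h]
        ring
      rw [hsum0Z, mul_zero] at h3
      nlinarith
  have hkψa : k ψ = -(a : ℤ) := by rw [hkψ, he0]; ring
  have hk0 : ∀ ξ ∈ S₀, ξ ≠ ψ → k ξ = 0 := by
    intro ξ hξ hne
    have h1 := hrel' ξ (Finset.mem_erase.mpr ⟨hne, hξ⟩)
    rw [he0, mul_zero] at h1
    rcases mul_eq_zero.mp h1 with h2 | h2
    · omega
    · exact h2
  set Γ : G → ℂ := τ β + (a : ℤ) • τ₁ ψ with hΓ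
  have hΓgen : IsGeneralizedCharacter G Γ :=
    isGen_add (lin_gen hτ' hβE) (isGen_zsmul (lin_gen hτ₁' (hmem₀ ψ hψ)) _)
  have hΓξ : ∀ ξ ∈ S₀, classInner Γ (τ₁ ξ) = 0 := by
    intro ξ hξ
    rw [hΓ, classInner_add_left, classInner_zsmul_left, hk ξ hξ,
      lin_inner hτ₁' (hmem₀ ψ hψ) (hmem₀ ξ hξ), classInner_irr hψirr (hirr ξ hξ)]
    by_cases h : ψ = ξ
    · rw [if_pos h, ← h, hkψa]
      push_cast; ring
    · rw [if_neg h, hk0 ξ hξ (fun h' => h h'.symm)]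
      push_cast; ring
  have hξΓ : ∀ ξ ∈ S₀, classInner (τ₁ ξ) Γ = 0 := by
    intro ξ hξ
    rw [← classInner_conj_symm, hΓξ ξ hξ, map_zero]
  have hΓΓ : classInner Γ Γ = 1 := by
    have h1 : classInner Γ Γ = classInner Γ (τ β) + (a : ℤ) * classInner Γ (τ₁ ψ) := by
      conv_lhs => rw [hΓ]
      rw [classInner_add_right, classInner_zsmul_right]
    rw [h1, hΓξ ψ hψ, mul_zero, add_zero, hΓ, classInner_add_left, classInner_zsmul_left, hττ,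
      ← classInner_conj_symm (τ β) (τ₁ ψ), hk ψ hψ, hkψa]
    simp
    ring
  -- the extension
  set T : (N → ℂ) → (G → ℂ) := fun θ => if θ = χ then Γ else τ₁ θ with hT
  have hTχ : T χ = Γ := by rw [hT]; simp
  have hTξ : ∀ ξ ∈ S₀, T ξ = τ₁ ξ := by
    intro ξ hξ
    have hne : ξ ≠ χ := fun h => hχS (h ▸ hξ)
    rw [hT]; simp [hne]
  have hirrS : ∀ x ∈ insert χ S₀, IsIrrCharacter N x := by
    intro x hx
    rcases Finset.mem_insert.mp hx with h | h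
    · rw [h]; exact hχ
    · exact hirr x h
  have horth : ∀ x ∈ insert χ S₀, ∀ y ∈ insert χ S₀, x ≠ y → classInner x y = 0 :=
    fun x hx y hy hne => classInner_irr_ne (hirrS x hx) (hirrS y hy) hne
  have hnorm : ∀ x ∈ insert χ S₀, classInner x x ≠ 0 := by
    intro x hx
    rw [classInner_irr_self (hirrS x hx)]
    exact one_ne_zero
  have hTiso : ∀ x ∈ insert χ S₀, ∀ y ∈ insert χ S₀,
      classInner (T x) (T y) = classInner x y := by
    intro x hx y hy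
    rcases Finset.mem_insert.mp hx with h | h
    · rcases Finset.mem_insert.mp hy with h' | h'
      · rw [h, h', hTχ, hΓΓ, hχχ]
      · rw [h, hTχ, hTξ y h', hΓξ y h', hχξ y h']
    · rcases Finset.mem_insert.mp hy with h' | h'
      · rw [h', hTχ, hTξ x h, hξΓ x h, hξχ x h]
      · rw [hTξ x h, hTξ y h', lin_inner hτ₁' (hmem₀ x h) (hmem₀ y h')]
  have hTgen : ∀ x ∈ insert χ S₀, IsGeneralizedCharacter G (T x) := by
    intro x hx
    rcases Finset.mem_insert.mp hx with h | h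
    · rw [h, hTχ]; exact hΓgen
    · rw [hTξ x h]; exact lin_gen hτ₁' (hmem₀ x h)
  refine ⟨⟨β, hβE, ?_⟩, extMap (insert χ S₀) T, extMap_isometry horth hnorm T hTiso hTgen, ?_⟩
  · intro h0
    rw [h0, classInner_zero_left] at hββ
    have h1 : (0 : ℝ) = 1 + (a : ℝ) ^ 2 := by exact_mod_cast hββ
    nlinarith [sq_nonneg (a : ℝ)]
  · intro α hα
    obtain ⟨hαspan, hα1⟩ := mem_zspanOn_one.mp hα
    obtain ⟨f, rfl⟩ := mem_zspan_finset.mp hαspan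
    rw [extMap_comb horth hnorm T f, Finset.sum_insert hχS, hTχ]
    rw [Finset.sum_insert hχS] at hα1
    set ρ : N → ℂ := ∑ x ∈ S₀, f x • x with hρ
    have hρmem : ρ ∈ Submodule.span ℤ (↑S₀ : Set (N → ℂ)) :=
      Submodule.sum_mem _ (fun ξ hξ => Submodule.smul_mem _ _ (hmem₀ ξ hξ))
    set δ : N → ℂ := (f χ * (a : ℤ)) • ψ + ρ with hδ
    have hδmem : δ ∈ Submodule.span ℤ (↑S₀ : Set (N → ℂ)) :=
      Submodule.add_mem _ (Submodule.smul_mem _ _ (hmem₀ ψ hψ)) hρmem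
    have hsplit : f χ • χ + ρ = f χ • β + δ := by
      rw [hδ, hβ, smul_sub, mul_smul]
      abel
    have hδ1 : δ 1 = 0 := by
      have h1 : (f χ • χ + ρ) 1 = 0 := hα1
      rw [hsplit, Pi.add_apply, zsmul_apply', hβ1, mul_zero, zero_add] at h1
      exact h1
    have hδ₀ : δ ∈ zspanOn (↑S₀ : Set (N → ℂ)) {1}ᶜ := mem_zspanOn_one.mpr ⟨hδmem, hδ1⟩
    have hδE : δ ∈ zspanOnSub (↑(insert χ S₀) : Set (N → ℂ)) {1}ᶜ := zspanOn_mono hS₀S _ hδ₀
    rw [Finset.sum_insert hχS, hsplit,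
      lin_add hτ' (Submodule.smul_mem _ _ hβE) hδE, lin_zsmul hτ' hβE, ← hτ₁τ δ hδ₀, hδ,
      lin_add hτ₁' (Submodule.smul_mem _ _ (hmem₀ ψ hψ)) hρmem, lin_zsmul hτ₁' (hmem₀ ψ hψ), hρ,
      lin_sum hτ₁' S₀ (fun x => f x • x) (fun ξ hξ => Submodule.smul_mem _ _ (hmem₀ ξ hξ)), hΓ,
      smul_add, mul_smul, add_assoc]
    congr 2
    refine Finset.sum_congr rfl (fun ξ hξ => ?_)
    rw [hTξ ξ hξ, lin_zsmul hτ₁' (hmem₀ ξ hξ)]


theorem isom_mono {L : Type*} [Group L] [Fintype L] {G : Type*} [Group G] [Fintype G]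
    {E E' : Set (L → ℂ)} {τ : (L → ℂ) → (G → ℂ)} (h : E' ⊆ E)
    (hτ : IsLinearIsometryOn E τ) : IsLinearIsometryOn E' τ :=
  ⟨fun a ha b hb => hτ.1 a (h ha) b (h hb), fun a ha n => hτ.2.1 a (h ha) n,
    fun a ha b hb => hτ.2.2.1 a (h ha) b (h hb), fun a ha => hτ.2.2.2 a (h ha)⟩

/-- A set of at least two irreducible characters of equal degree is coherent, for any isometry
on the differences with values vanishing at `1`. -/
theorem coh_equal_degree {L : Type*} [Group L] [Fintype L] {G : Type*} [Group G] [Fintype G]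
    (F : Finset (L → ℂ)) (hF2 : 2 ≤ F.card) (hirr : ∀ a ∈ F, IsIrrCharacter L a)
    (hdeg : ∀ a ∈ F, ∀ b ∈ F, a 1 = b 1) (τ : (L → ℂ) → (G → ℂ))
    (hτ : IsLinearIsometryOn (zspanOn (↑F : Set (L → ℂ)) {1}ᶜ) τ)
    (hτ1 : ∀ α ∈ zspanOn (↑F : Set (L → ℂ)) {1}ᶜ, τ α 1 = 0) :
    IsCoherent (↑F : Set (L → ℂ)) {1}ᶜ τ := by
  classical
  have hτ' : IsLinearIsometryOn ((zspanOnSub (↑F : Set (L → ℂ)) {1}ᶜ :
      Submodule ℤ (L → ℂ)) : Set (L → ℂ)) τ := hτ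
  let e : F ≃ Fin F.card := F.equivFin
  let χ : Fin F.card → (L → ℂ) := fun i => ((e.symm i : F) : L → ℂ)
  have hχF : ∀ i, χ i ∈ F := fun i => (e.symm i).2
  have hχinj : Function.Injective χ := fun i j h => e.symm.injective (Subtype.ext h)
  have hsurj : ∀ a ∈ F, ∃ i, χ i = a := by
    intro a ha
    refine ⟨e ⟨a, ha⟩, ?_⟩
    show ((e.symm (e ⟨a, ha⟩) : F) : L → ℂ) = a
    rw [e.symm_apply_apply]
  let i₀ : Fin F.card := ⟨0, by omega⟩
  have hmemF : ∀ a ∈ F, a - χ i₀ ∈ zspanOnSub (↑F : Set (L → ℂ)) {1}ᶜ := by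
    intro a ha
    show _ ∈ zspanOn _ _
    rw [mem_zspanOn_one]
    refine ⟨Submodule.sub_mem _ (Submodule.subset_span (Finset.mem_coe.mpr ha))
      (Submodule.subset_span (Finset.mem_coe.mpr (hχF i₀))), ?_⟩
    rw [Pi.sub_apply, hdeg _ ha _ (hχF i₀), sub_self]
  have hmem : ∀ i, χ i - χ i₀ ∈ zspanOnSub (↑F : Set (L → ℂ)) {1}ᶜ := fun i => hmemF _ (hχF i)
  have hirr' : ∀ i, IsIrrCharacter L (χ i) := fun i => hirr _ (hχF i)
  have hin : ∀ i j, classInner (χ i) (χ j) = if i = j then 1 else 0 := by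
    intro i j
    by_cases hij : i = j
    · rw [if_pos hij, hij, classInner_irr_self (hirr' j)]
    · rw [if_neg hij, classInner_irr_ne (hirr' i) (hirr' j) (fun h => hij (hχinj h))]
  obtain ⟨ε, hε, μ, hμirr, hμinj, hμ⟩ := Cfsg.Agent.S0198.result F.card i₀
    (fun i => τ (χ i - χ i₀)) (by
      show τ (χ i₀ - χ i₀) = 0
      rw [sub_self]
      exact lin_zero hτ') (fun i => lin_gen hτ' (hmem i)) (fun i => hτ1 _ (hmem i)) (by
      intro i j hi hj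
      show classInner (τ (χ i - χ i₀)) (τ (χ j - χ i₀)) = _
      rw [lin_inner hτ' (hmem i) (hmem j), classInner_sub_left, classInner_sub_right,
        classInner_sub_right, hin i j, hin i i₀, hin i₀ j, hin i₀ i₀, if_neg hi,
        if_neg (show ¬ (i₀ = j) from fun h => hj h.symm), if_pos rfl]
      split_ifs <;> ring)
  have hμ' : ∀ i, τ (χ i - χ i₀) = ε • (μ i - μ i₀) := hμ
  let T : (L → ℂ) → (G → ℂ) := fun a => if h : a ∈ F then ε • μ (e ⟨a, h⟩) else 0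
  have hT : ∀ i, T (χ i) = ε • μ i := by
    intro i
    show (if h : χ i ∈ F then ε • μ (e ⟨χ i, h⟩) else 0) = ε • μ i
    rw [dif_pos (hχF i)]
    have h1 : e ⟨χ i, hχF i⟩ = i := e.apply_symm_apply i
    rw [h1]
  have hεε : ε * (starRingEnd ℂ) ε = 1 := by
    rcases hε with rfl | rfl <;> simp
  have horth : ∀ a ∈ F, ∀ b ∈ F, a ≠ b → classInner a b = 0 :=
    fun a ha b hb hab => classInner_irr_ne (hirr a ha) (hirr b hb) hab
  have hnorm : ∀ a ∈ F, classInner a a ≠ 0 := by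
    intro a ha
    rw [classInner_irr_self (hirr a ha)]
    exact one_ne_zero
  have hTinner : ∀ a ∈ F, ∀ b ∈ F, classInner (T a) (T b) = classInner a b := by
    intro a ha b hb
    obtain ⟨i, rfl⟩ := hsurj a ha
    obtain ⟨j, rfl⟩ := hsurj b hb
    rw [hT, hT, classInner_smul_left, classInner_smul_right, ← mul_assoc, hεε, one_mul]
    by_cases hij : i = j
    · subst hij
      rw [classInner_irr_self (hμirr i), classInner_irr_self (hirr' i)]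
    · rw [classInner_irr_ne (hμirr i) (hμirr j) (fun h => hij (hμinj h)),
        classInner_irr_ne (hirr' i) (hirr' j) (fun h => hij (hχinj h))]
  have hTgen : ∀ a ∈ F, IsGeneralizedCharacter G (T a) := by
    intro a ha
    obtain ⟨i, rfl⟩ := hsurj a ha
    rw [hT]
    rcases hε with rfl | rfl
    · rw [one_smul]; exact isGen_of_irr (hμirr i)
    · rw [neg_one_smul]; exact isGen_neg (isGen_of_irr (hμirr i))
  have hTdiff : ∀ a ∈ F, τ (a - χ i₀) = T a - T (χ i₀) := by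
    intro a ha
    obtain ⟨i, rfl⟩ := hsurj a ha
    rw [hT, hT, hμ' i, smul_sub]
  obtain ⟨a₁, ha₁, a₂, ha₂, hne12⟩ := Finset.one_lt_card.mp hF2
  refine ⟨⟨a₁ - a₂, ?_, sub_ne_zero.mpr hne12⟩, extMap F T,
    extMap_isometry horth hnorm T hTinner hTgen, ?_⟩
  · rw [mem_zspanOn_one]
    refine ⟨Submodule.sub_mem _ (Submodule.subset_span (Finset.mem_coe.mpr ha₁))
      (Submodule.subset_span (Finset.mem_coe.mpr ha₂)), ?_⟩
    rw [Pi.sub_apply, hdeg a₁ ha₁ a₂ ha₂, sub_self]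
  · intro α hα
    rw [mem_zspanOn_one] at hα
    obtain ⟨hα1, hα0⟩ := hα
    obtain ⟨f, rfl⟩ := mem_zspan_finset.mp hα1
    rw [extMap_comb horth hnorm T f]
    have hd0 : a₁ 1 ≠ 0 := by
      obtain ⟨d, hd, hd'⟩ := irr_degree (hirr a₁ ha₁)
      rw [hd']
      exact_mod_cast hd.ne'
    have hsum0 : ∑ a ∈ F, (f a : ℂ) = 0 := by
      have h1 : ∑ a ∈ F, (f a : ℂ) * a₁ 1 = 0 := by
        rw [← hα0, Finset.sum_apply]
        refine Finset.sum_congr rfl (fun a ha => ?_)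
        rw [zsmul_apply', hdeg a ha a₁ ha₁]
      rw [← Finset.sum_mul] at h1
      exact (mul_eq_zero.mp h1).resolve_right hd0
    have hsum0Z : ∑ a ∈ F, f a = 0 := by
      have : ((∑ a ∈ F, f a : ℤ) : ℂ) = ((0 : ℤ) : ℂ) := by
        push_cast
        exact hsum0
      exact_mod_cast this
    have hre : ∑ a ∈ F, f a • a = ∑ a ∈ F, f a • (a - χ i₀) := by
      have h1 : ∑ a ∈ F, f a • (a - χ i₀) = ∑ a ∈ F, f a • a - (∑ a ∈ F, f a) • χ i₀ := by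
        rw [Finset.sum_smul, ← Finset.sum_sub_distrib]
        refine Finset.sum_congr rfl (fun a _ => ?_)
        rw [smul_sub]
      rw [h1, hsum0Z, zero_smul, sub_zero]
    rw [hre, lin_sum hτ' F (fun a => f a • (a - χ i₀))
      (fun a ha => Submodule.smul_mem _ _ (hmemF a ha))]
    have h2 : ∀ a ∈ F, τ (f a • (a - χ i₀)) = f a • T a - f a • T (χ i₀) := by
      intro a ha
      rw [lin_zsmul hτ' (hmemF a ha), hTdiff a ha, smul_sub]
    rw [Finset.sum_congr rfl h2, Finset.sum_sub_distrib, ← Finset.sum_smul, hsum0Z, zero_smul,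
      sub_zero]

/-- Growing a coherent subset: the characters outside `S₁` are added by increasing degree. -/
theorem coh_grow {L : Type*} [Group L] [Fintype L] {G : Type*} [Group G] [Fintype G]
    (S S₁ : Finset (L → ℂ)) (hS₁ : S₁ ⊆ S) (hirr : ∀ ξ ∈ S, IsIrrCharacter L ξ)
    (d : (L → ℂ) → ℕ) (hd : ∀ ξ ∈ S, ξ 1 = (d ξ : ℂ)) (τ : (L → ℂ) → (G → ℂ))
    (hτ : IsLinearIsometryOn (zspanOn (↑S : Set (L → ℂ)) {1}ᶜ) τ)
    (hτ1 : ∀ α ∈ zspanOn (↑S : Set (L → ℂ)) {1}ᶜ, τ α 1 = 0)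
    (hcoh : IsCoherent (↑S₁ : Set (L → ℂ)) {1}ᶜ τ) (ψ : L → ℂ) (hψ : ψ ∈ S₁)
    (hstep : ∀ χ ∈ S, χ ∉ S₁ → d ψ ∣ d χ ∧
      2 * d ψ * d χ < ∑ ξ ∈ S.filter (fun ξ => ξ ∈ S₁ ∨ d ξ < d χ), d ξ ^ 2) :
    IsCoherent (↑S : Set (L → ℂ)) {1}ᶜ τ := by
  classical
  have key : ∀ n : ℕ, ∀ T : Finset (L → ℂ), S₁ ⊆ T → T ⊆ S → (S \ T).card = n →
      IsCoherent (↑T : Set (L → ℂ)) {1}ᶜ τ → IsCoherent (↑S : Set (L → ℂ)) {1}ᶜ τ := by
    intro n
    induction n with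
    | zero =>
      intro T h1 h2 h3 h4
      have h5 : S ⊆ T := by
        rw [Finset.card_eq_zero] at h3
        exact Finset.sdiff_eq_empty_iff_subset.mp h3
      have h6 : T = S := Finset.Subset.antisymm h2 h5
      rw [← h6]
      exact h4
    | succ n ih =>
      intro T h1 h2 h3 h4
      have hne : (S \ T).Nonempty := by
        rw [← Finset.card_pos, h3]
        omega
      obtain ⟨χ, hχ, hmin⟩ := Finset.exists_min_image (S \ T) d hne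
      obtain ⟨hχS, hχT⟩ := Finset.mem_sdiff.mp hχ
      have hχS₁ : χ ∉ S₁ := fun h => hχT (h1 h)
      obtain ⟨hdvd, hlt⟩ := hstep χ hχS hχS₁
      have hins : insert χ T ⊆ S := Finset.insert_subset hχS h2
      have hsub : (↑(insert χ T) : Set (L → ℂ)) ⊆ ↑S := by
        intro x hx
        exact Finset.mem_coe.mpr (hins (Finset.mem_coe.mp hx))
      apply ih (insert χ T) (h1.trans (Finset.subset_insert _ _)) hins
      · have h5 : S \ insert χ T = (S \ T).erase χ := by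
          ext x
          simp only [Finset.mem_sdiff, Finset.mem_insert, Finset.mem_erase, not_or]
          tauto
        rw [h5, Finset.card_erase_of_mem hχ, h3]
        rfl
      · apply coh_step T χ (fun ξ hξ => hirr ξ (h2 hξ)) (hirr χ hχS) hχT d
          (fun ξ hξ => hd ξ (hins hξ)) τ (isom_mono (zspanOn_mono hsub _) hτ)
          (fun α hα => hτ1 α (zspanOn_mono hsub _ hα)) h4 ψ (h1 hψ) hdvd
        refine lt_of_lt_of_le hlt (Finset.sum_le_sum_of_subset ?_)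
        intro ξ hξ
        obtain ⟨hξS, hξ'⟩ := Finset.mem_filter.mp hξ
        rcases hξ' with h | h
        · exact h1 h
        · by_contra hξT
          have := hmin ξ (Finset.mem_sdiff.mpr ⟨hξS, hξT⟩)
          omega
  exact key _ S₁ (Finset.Subset.refl _) hS₁ rfl hcoh

end Cfsg.Agent.Lib.Helper25
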