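import Mathlib
import Cfsg.Agent.S0188
import Cfsg.Agent.Lib.Helper80.Codegree
import Cfsg.Agent.Lib.Helper80.Orthogonality
import Cfsg.Agent.Lib.Helper80.PrimeCodeg
import Cfsg.Agent.Lib.Helper79.Linear
import Cfsg.Agent.Lib.Helper15.LinChar
import Cfsg.Agent.Lib.Helper26.CharBase

/-!
# Counting irreducible characters of small degree

Lower bounds for the sum of the squares of the degrees of the non-principal irreducible
characters of degree less than a given degree, for `p`-groups with a large abelianization and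
for direct products of a `p`-group with a group of order prime to `p`.
-/

set_option autoImplicit false

namespace Cfsg.Agent.Lib.Helper25

open Cfsg Cfsg.Agent.Lib.Helper80

theorem linear_iff {G : Type*} [Group G] (θ : IrrCharacter G) :
    charDegree (θ : G → ℂ) = 1 ↔ (θ : G → ℂ) 1 = 1 := by
  rw [char_one_eq_charDegree (isCharacter_of_isIrrCharacter θ.2)]
  constructor
  · intro h; rw [h]; simp
  · intro h; exact_mod_cast h

theorem deg_eq_pow {K : Type*} [Group K] [Finite K] {p a : ℕ} (hp : p.Prime)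
    (hK : Nat.card K = p ^ a) (θ : IrrCharacter K) : ∃ c, charDegree (θ : K → ℂ) = p ^ c := by
  have h := charDegree_dvd_card θ.2
  rw [hK] at h
  obtain ⟨c, -, hc⟩ := (Nat.dvd_prime_pow hp).mp h
  exact ⟨c, hc⟩

/-- The number of linear characters is the index of the commutator subgroup. -/
theorem card_linear_eq {G : Type*} [Group G] [Finite G] [Fintype (IrrCharacter G)] :
    (Finset.univ.filter (fun θ : IrrCharacter G => charDegree (θ : G → ℂ) = 1)).card =
      (commutator G).index := by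
  classical
  have h1 : (Finset.univ.filter (fun θ : IrrCharacter G => charDegree (θ : G → ℂ) = 1)).card =
      Nat.card {χ : IrrCharacter G // (χ : G → ℂ) 1 = 1} := by
    rw [Nat.card_eq_fintype_card, Fintype.card_subtype]
    congr 1
    ext θ
    simp only [Finset.mem_filter, Finset.mem_univ, true_and]
    exact linear_iff θ
  rw [h1]
  apply le_antisymm Cfsg.Agent.Lib.Helper79.card_linear_irr_le
  rw [← Cfsg.Agent.Lib.Helper79.card_monoidHom_units]
  have : Finite (IrrCharacter G) := Finite.of_fintype _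
  apply Nat.card_le_card_of_injective (fun f : G →* ℂˣ =>
    (⟨⟨fun g => ((f g : ℂˣ) : ℂ), isIrrCharacter_of_hom f⟩, by simp⟩ :
      {χ : IrrCharacter G // (χ : G → ℂ) 1 = 1}))
  intro f f' h
  ext g
  have h2 := congrArg (fun χ : {χ : IrrCharacter G // (χ : G → ℂ) 1 = 1} =>
    ((χ : IrrCharacter G) : G → ℂ) g) h
  exact h2

section count

variable {K : Type*} [Group K] [Fintype K] [Fintype (IrrCharacter K)]

/-- In a `p`-group, the sum of the squares of the degrees smaller than a given degree `m` is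
divisible by `m ^ 2`. -/
theorem pgroup_sq_dvd {p a : ℕ} (hp : p.Prime) (hK : Nat.card K = p ^ a) (θ₀ : IrrCharacter K) :
    charDegree (θ₀ : K → ℂ) ^ 2 ∣ ∑ θ ∈ Finset.univ.filter (fun θ : IrrCharacter K =>
      charDegree (θ : K → ℂ) < charDegree (θ₀ : K → ℂ)), charDegree (θ : K → ℂ) ^ 2 := by
  classical
  obtain ⟨b, hb⟩ := deg_eq_pow hp hK θ₀
  have htot := sum_charDegree_sq (G := K)
  rw [← Finset.sum_filter_add_sum_filter_not Finset.univ
    (fun θ : IrrCharacter K => charDegree (θ : K → ℂ) < charDegree (θ₀ : K → ℂ))] at htot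
  have h1 : charDegree (θ₀ : K → ℂ) ^ 2 ∣ Nat.card K := by
    have h2 := charDegree_sq_le_card θ₀.2
    rw [hK, hb, ← pow_mul] at h2 ⊢
    exact pow_dvd_pow p ((Nat.pow_le_pow_iff_right hp.one_lt).mp h2)
  have h3 : charDegree (θ₀ : K → ℂ) ^ 2 ∣ ∑ θ ∈ Finset.univ.filter (fun θ : IrrCharacter K =>
      ¬ charDegree (θ : K → ℂ) < charDegree (θ₀ : K → ℂ)), charDegree (θ : K → ℂ) ^ 2 := by
    apply Finset.dvd_sum
    intro θ hθ
    have h4 := (Finset.mem_filter.mp hθ).2
    obtain ⟨c, hc⟩ := deg_eq_pow hp hK θ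
    rw [hb, hc] at h4 ⊢
    have h5 : b ≤ c := (Nat.pow_le_pow_iff_right hp.one_lt).mp (not_lt.mp h4)
    exact pow_dvd_pow_of_dvd (pow_dvd_pow p h5) 2
  rw [← htot] at h1
  exact (Nat.dvd_add_left h3).mp h1

theorem sum_lt_split (m : ℕ) (hm : 1 < m) :
    ∑ θ ∈ Finset.univ.filter (fun θ : IrrCharacter K => charDegree (θ : K → ℂ) < m),
        charDegree (θ : K → ℂ) ^ 2 =
      1 + ∑ θ ∈ Finset.univ.filter (fun θ : IrrCharacter K =>
        θ ≠ trivIrr K ∧ charDegree (θ : K → ℂ) < m), charDegree (θ : K → ℂ) ^ 2 := by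
  classical
  have h : Finset.univ.filter (fun θ : IrrCharacter K => charDegree (θ : K → ℂ) < m) =
      insert (trivIrr K) (Finset.univ.filter (fun θ : IrrCharacter K =>
        θ ≠ trivIrr K ∧ charDegree (θ : K → ℂ) < m)) := by
    ext θ
    simp only [Finset.mem_filter, Finset.mem_univ, true_and, Finset.mem_insert]
    constructor
    · intro h
      by_cases hθ : θ = trivIrr K
      · exact Or.inl hθ
      · exact Or.inr ⟨hθ, h⟩
    · rintro (rfl | ⟨-, h⟩)
      · rw [charDegree_trivIrr]; exact hm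
      · exact h
  rw [h, Finset.sum_insert (by simp), charDegree_trivIrr]
  norm_num

theorem pgroup_sq_le {p a : ℕ} (hp : p.Prime) (hK : Nat.card K = p ^ a) (θ₀ : IrrCharacter K)
    (h1 : 1 < charDegree (θ₀ : K → ℂ)) :
    charDegree (θ₀ : K → ℂ) ^ 2 ≤ ∑ θ ∈ Finset.univ.filter (fun θ : IrrCharacter K =>
      charDegree (θ : K → ℂ) < charDegree (θ₀ : K → ℂ)), charDegree (θ : K → ℂ) ^ 2 := by
  classical
  apply Nat.le_of_dvd _ (pgroup_sq_dvd hp hK θ₀)
  rw [sum_lt_split _ h1]
  omega

/-- The `p`-group case: a large abelianization gives the degree inequality. -/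
theorem pgroup_count {p a : ℕ} (hp : p.Prime) (hK : Nat.card K = p ^ a) (e : ℕ)
    (hlin : 4 * e ^ 2 + 1 < (Finset.univ.filter (fun θ : IrrCharacter K =>
      charDegree (θ : K → ℂ) = 1)).card)
    (θ₀ : IrrCharacter K) (h1 : 1 < charDegree (θ₀ : K → ℂ)) :
    2 * e * charDegree (θ₀ : K → ℂ) < ∑ θ ∈ Finset.univ.filter (fun θ : IrrCharacter K =>
      θ ≠ trivIrr K ∧ charDegree (θ : K → ℂ) < charDegree (θ₀ : K → ℂ)),
        charDegree (θ : K → ℂ) ^ 2 := by
  classical
  have hA := pgroup_sq_le hp hK θ₀ h1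
  have hB : (Finset.univ.filter (fun θ : IrrCharacter K => charDegree (θ : K → ℂ) = 1)).card ≤
      ∑ θ ∈ Finset.univ.filter (fun θ : IrrCharacter K =>
        charDegree (θ : K → ℂ) < charDegree (θ₀ : K → ℂ)), charDegree (θ : K → ℂ) ^ 2 := by
    calc (Finset.univ.filter (fun θ : IrrCharacter K => charDegree (θ : K → ℂ) = 1)).card
        = ∑ θ ∈ Finset.univ.filter (fun θ : IrrCharacter K => charDegree (θ : K → ℂ) = 1),
            charDegree (θ : K → ℂ) ^ 2 := by
          rw [Finset.card_eq_sum_ones]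
          refine Finset.sum_congr rfl (fun θ hθ => ?_)
          rw [(Finset.mem_filter.mp hθ).2]
          norm_num
      _ ≤ _ := Finset.sum_le_sum_of_subset (fun θ hθ => by
          rw [Finset.mem_filter] at hθ ⊢
          exact ⟨hθ.1, by rw [hθ.2]; exact h1⟩)
  rw [sum_lt_split _ h1] at hA hB
  set m := charDegree (θ₀ : K → ℂ) with hm
  set Sg := ∑ θ ∈ Finset.univ.filter (fun θ : IrrCharacter K =>
      θ ≠ trivIrr K ∧ charDegree (θ : K → ℂ) < m), charDegree (θ : K → ℂ) ^ 2 with hSg
  rcases le_or_gt m (2 * e) with h | h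
  · have h2 : 2 * e * m ≤ 2 * e * (2 * e) := Nat.mul_le_mul_left _ h
    nlinarith
  · have h2 : (2 * e + 1) * m ≤ m * m := Nat.mul_le_mul_right _ h
    nlinarith

/-- In a commutative group all irreducible characters are linear. -/
theorem comm_deg_one (hc : ∀ a b : K, a * b = b * a) (θ₀ : IrrCharacter K) :
    charDegree (θ₀ : K → ℂ) = 1 := by
  classical
  by_contra hne
  have hcomm : commutator K = ⊥ := by
    rw [eq_bot_iff]
    unfold commutator
    rw [Subgroup.commutator_le]
    intro g₁ _ g₂ _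
    rw [Subgroup.mem_bot, commutatorElement_def, hc g₁ g₂]
    group
  have hlin := card_linear_eq (G := K)
  rw [hcomm, Subgroup.index_bot] at hlin
  have htot := sum_charDegree_sq (G := K)
  rw [← Finset.sum_filter_add_sum_filter_not Finset.univ
    (fun θ : IrrCharacter K => charDegree (θ : K → ℂ) = 1)] at htot
  have h1 : ∑ θ ∈ Finset.univ.filter (fun θ : IrrCharacter K => charDegree (θ : K → ℂ) = 1),
      charDegree (θ : K → ℂ) ^ 2 = Nat.card K := by
    rw [← hlin, Finset.card_eq_sum_ones]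
    refine Finset.sum_congr rfl (fun θ hθ => ?_)
    rw [(Finset.mem_filter.mp hθ).2]
    norm_num
  rw [h1] at htot
  have h2 : ∑ θ ∈ Finset.univ.filter (fun θ : IrrCharacter K => ¬ charDegree (θ : K → ℂ) = 1),
      charDegree (θ : K → ℂ) ^ 2 = 0 := by omega
  have h3 := (Finset.sum_eq_zero_iff.mp h2) θ₀ (by
    rw [Finset.mem_filter]; exact ⟨Finset.mem_univ _, hne⟩)
  have h4 := charDegree_pos θ₀.2
  have h5 : 0 < charDegree (θ₀ : K → ℂ) ^ 2 := by positivity
  omega

end count

section prod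

variable {K : Type*} [Group K] [Fintype K] [Fintype (IrrCharacter K)]
  {A B : Type*} [Group A] [Fintype A] [Group B] [Fintype B] (φ : A × B ≃* K)

/-- The product character transported to `K`. -/
noncomputable def prodIrr (α : IrrCharacter A) (β : IrrCharacter B) : IrrCharacter K :=
  ⟨fun k => (α : A → ℂ) (φ.symm k).1 * (β : B → ℂ) (φ.symm k).2,
    isIrrCharacter_comp_mulEquiv φ.symm (Cfsg.Agent.S0188.isIrrCharacter_prod α.2 β.2)⟩

omit [Fintype K] [Fintype (IrrCharacter K)] in
theorem prodIrr_apply (α : IrrCharacter A) (β : IrrCharacter B) (x : A) (y : B) :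
    (prodIrr φ α β : K → ℂ) (φ (x, y)) = (α : A → ℂ) x * (β : B → ℂ) y := by
  show (α : A → ℂ) (φ.symm (φ (x, y))).1 * (β : B → ℂ) (φ.symm (φ (x, y))).2 = _
  rw [MulEquiv.symm_apply_apply]

omit [Fintype K] [Fintype (IrrCharacter K)] in
theorem prodIrr_apply' (α : IrrCharacter A) (β : IrrCharacter B) (k : K) :
    (prodIrr φ α β : K → ℂ) k = (α : A → ℂ) (φ.symm k).1 * (β : B → ℂ) (φ.symm k).2 := rfl

omit [Fintype K] [Fintype (IrrCharacter K)] in
theorem charDegree_prodIrr (α : IrrCharacter A) (β : IrrCharacter B) :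
    charDegree (prodIrr φ α β : K → ℂ) = charDegree (α : A → ℂ) * charDegree (β : B → ℂ) := by
  have h := prodIrr_apply φ α β 1 1
  rw [show φ ((1 : A), (1 : B)) = 1 from map_one φ,
    char_one_eq_charDegree (isCharacter_of_isIrrCharacter (prodIrr φ α β).2),
    char_one_eq_charDegree (isCharacter_of_isIrrCharacter α.2),
    char_one_eq_charDegree (isCharacter_of_isIrrCharacter β.2)] at h
  exact_mod_cast h

omit [Fintype K] [Fintype (IrrCharacter K)] in
theorem exists_prodIrr (θ : IrrCharacter K) : ∃ α β, θ = prodIrr φ α β := by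
  have h := isIrrCharacter_comp_mulEquiv φ θ.2
  obtain ⟨a, b, ha, hb, hab⟩ := (Cfsg.Agent.S0188.result _).mp h
  refine ⟨⟨a, ha⟩, ⟨b, hb⟩, Subtype.ext ?_⟩
  funext k
  have h1 := congrFun hab (φ.symm k)
  simp only [MulEquiv.apply_symm_apply] at h1
  exact h1

omit [Fintype K] [Fintype (IrrCharacter K)] in
theorem prodIrr_ne_triv_of_deg (α : IrrCharacter A) (β : IrrCharacter B)
    (h : charDegree (prodIrr φ α β : K → ℂ) ≠ 1) : prodIrr φ α β ≠ trivIrr K := by
  intro h1
  rw [h1, charDegree_trivIrr] at h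
  exact h rfl

/-- The linear character of `B` cut out by a linear character of `K`. -/
noncomputable def resB (θ : IrrCharacter K) : IrrCharacter B := by
  classical
  exact if h : (θ : K → ℂ) 1 = 1 then
    ⟨fun y => ((((Cfsg.Agent.Lib.Helper15.linCharHom (isCharacter_of_isIrrCharacter θ.2) h).comp
      (φ.toMonoidHom.comp (MonoidHom.inr A B))) y : ℂˣ) : ℂ), isIrrCharacter_of_hom _⟩
  else trivIrr B

omit [Fintype K] [Fintype (IrrCharacter K)] [Fintype A] [Fintype B] in
theorem resB_apply (θ : IrrCharacter K) (h : (θ : K → ℂ) 1 = 1) (y : B) :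
    (resB φ θ : B → ℂ) y = (θ : K → ℂ) (φ (1, y)) := by
  unfold resB
  rw [dif_pos h]
  rfl

include φ in
open Classical in
/-- The product case of the degree inequality. -/
theorem prod_count {p a : ℕ} (hp : p.Prime) (hA : Nat.card A = p ^ a)
    (hB : (Nat.card B).Coprime p) (f : B →* ℂˣ) (hf : f ≠ 1) (e : ℕ) (he : 0 < e)
    (h1 : ∀ m : ℕ, e ∣ (Finset.univ.filter (fun θ : IrrCharacter K =>
      θ ≠ trivIrr K ∧ charDegree (θ : K → ℂ) = m)).card)
    (h2 : e ∣ (Finset.univ.filter (fun θ : IrrCharacter K =>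
      θ ≠ trivIrr K ∧ charDegree (θ : K → ℂ) = 1 ∧
        ∀ k : K, (∃ j : ℕ, k ^ (p ^ j) = 1) → (θ : K → ℂ) k = 1)).card)
    (θ₀ : IrrCharacter K) (hpd : p ∣ charDegree (θ₀ : K → ℂ)) :
    2 * e * charDegree (θ₀ : K → ℂ) < ∑ θ ∈ Finset.univ.filter (fun θ : IrrCharacter K =>
      θ ≠ trivIrr K ∧ charDegree (θ : K → ℂ) < charDegree (θ₀ : K → ℂ)),
        charDegree (θ : K → ℂ) ^ 2 := by
  classical
  let _ : Fintype (IrrCharacter A) := Fintype.ofFinite _
  let _ : Fintype (IrrCharacter B) := Fintype.ofFinite _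
  obtain ⟨α, β, rfl⟩ := exists_prodIrr φ θ₀
  rw [charDegree_prodIrr] at hpd ⊢
  obtain ⟨b, hb⟩ := deg_eq_pow hp hA α
  have hβcop : (charDegree (β : B → ℂ)).Coprime p :=
    Nat.Coprime.coprime_dvd_left (charDegree_dvd_card β.2) hB
  have hβpos := charDegree_pos β.2
  have hpα : p ∣ charDegree (α : A → ℂ) :=
    (Nat.Coprime.dvd_mul_right (Nat.Coprime.symm hβcop)).mp hpd
  have hb1 : b ≠ 0 := by
    rintro rfl
    rw [hb, pow_zero] at hpα
    exact hp.one_lt.ne' (Nat.dvd_one.mp hpα)
  have hα2 : 2 ≤ charDegree (α : A → ℂ) := by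
    rw [hb]
    calc 2 ≤ p := hp.two_le
      _ = p ^ 1 := (pow_one p).symm
      _ ≤ p ^ b := Nat.pow_le_pow_right hp.pos (Nat.one_le_iff_ne_zero.mpr hb1)
  set mA := charDegree (α : A → ℂ) with hmA
  set d' := charDegree (β : B → ℂ) with hd'
  by_cases hd : d' = 1
  · -- the case of a linear second factor
    rw [hd, mul_one]
    -- the number of linear characters of `B`
    set FB : Finset (IrrCharacter B) :=
      Finset.univ.filter (fun l : IrrCharacter B => charDegree (l : B → ℂ) = 1) with hFB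
    set FA : Finset (IrrCharacter A) :=
      Finset.univ.filter (fun α' : IrrCharacter A => charDegree (α' : A → ℂ) < mA) with hFA
    set W : Finset (IrrCharacter K) := Finset.univ.filter (fun θ : IrrCharacter K =>
      θ ≠ trivIrr K ∧ charDegree (θ : K → ℂ) = 1 ∧
        ∀ k : K, (∃ j : ℕ, k ^ (p ^ j) = 1) → (θ : K → ℂ) k = 1) with hW
    have hWne : W.Nonempty := by
      obtain ⟨y, hy⟩ : ∃ y, f y ≠ 1 := by
        by_contra hcon
        push Not at hcon
        exact hf (MonoidHom.ext hcon)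
      set lf : IrrCharacter B := ⟨fun y => ((f y : ℂˣ) : ℂ), isIrrCharacter_of_hom f⟩ with hlf
      refine ⟨prodIrr φ (trivIrr A) lf, ?_⟩
      rw [hW, Finset.mem_filter]
      refine ⟨Finset.mem_univ _, ?_, ?_, ?_⟩
      · intro h
        have h3 := congrArg (fun θ : IrrCharacter K => (θ : K → ℂ) (φ (1, y))) h
        simp only [prodIrr_apply, trivIrr_apply, one_mul] at h3
        apply hy
        exact Units.ext h3
      · rw [charDegree_prodIrr, charDegree_trivIrr, one_mul]
        rw [linear_iff]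
        simp [hlf]
      · rintro k ⟨j, hj⟩
        rw [prodIrr_apply', trivIrr_apply, one_mul]
        have h3 : (φ.symm k).2 ^ (p ^ j) = 1 := by
          have h4 := congrArg (fun x => (φ.symm x).2) hj
          simpa using h4
        have h5 : (φ.symm k).2 = 1 := by
          rw [← orderOf_eq_one_iff]
          have h6 : orderOf (φ.symm k).2 ∣ p ^ j := orderOf_dvd_of_pow_eq_one h3
          have h7 : orderOf (φ.symm k).2 ∣ Nat.card B := orderOf_dvd_natCard _
          exact Nat.eq_one_of_dvd_coprimes (Nat.Coprime.pow_right j hB) h7 h6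
        rw [h5]
        simp [hlf]
    have hWe : e ≤ W.card := Nat.le_of_dvd (Finset.card_pos.mpr hWne) h2
    have hWFB : W.card ≤ (FB.erase (trivIrr B)).card := by
      apply Finset.card_le_card_of_injOn (resB φ)
      · intro θ hθ
        rw [Finset.mem_coe, hW, Finset.mem_filter] at hθ
        obtain ⟨-, hne, hdeg, htriv⟩ := hθ
        have hθ1 : (θ : K → ℂ) 1 = 1 := (linear_iff θ).mp hdeg
        rw [Finset.mem_coe, Finset.mem_erase, hFB, Finset.mem_filter]
        refine ⟨?_, Finset.mem_univ _, ?_⟩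
        · intro h
          apply hne
          apply Subtype.ext
          funext k
          rw [trivIrr_apply]
          obtain ⟨⟨x, y⟩, rfl⟩ := φ.surjective k
          have h3 : ((x, y) : A × B) = (x, 1) * (1, y) := by simp
          rw [h3, map_mul, Cfsg.Agent.Lib.Helper15.linChar_mul
            (isCharacter_of_isIrrCharacter θ.2) hθ1]
          have h4 : (θ : K → ℂ) (φ (x, 1)) = 1 := by
            apply htriv
            obtain ⟨j, hj⟩ := (IsPGroup.of_card hA) x
            refine ⟨j, ?_⟩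
            rw [← map_pow, Prod.pow_mk, hj, one_pow]
            exact map_one φ
          have h5 : (θ : K → ℂ) (φ (1, y)) = 1 := by
            rw [← resB_apply φ θ hθ1, h, trivIrr_apply]
          rw [h4, h5, one_mul]
        · rw [linear_iff, resB_apply φ θ hθ1]
          rw [show φ ((1 : A), (1 : B)) = 1 from map_one φ]
          exact hθ1
      · intro θ hθ θ' hθ' h
        rw [Finset.mem_coe, hW, Finset.mem_filter] at hθ hθ'
        obtain ⟨-, -, hdeg, htriv⟩ := hθ
        obtain ⟨-, -, hdeg', htriv'⟩ := hθ'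
        have hθ1 : (θ : K → ℂ) 1 = 1 := (linear_iff θ).mp hdeg
        have hθ1' : (θ' : K → ℂ) 1 = 1 := (linear_iff θ').mp hdeg'
        apply Subtype.ext
        funext k
        obtain ⟨⟨x, y⟩, rfl⟩ := φ.surjective k
        have h3 : ((x, y) : A × B) = (x, 1) * (1, y) := by simp
        have hx : ∃ j : ℕ, (φ (x, 1)) ^ (p ^ j) = 1 := by
          obtain ⟨j, hj⟩ := (IsPGroup.of_card hA) x
          refine ⟨j, ?_⟩
          rw [← map_pow, Prod.pow_mk, hj, one_pow]
          exact map_one φ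
        rw [h3, map_mul, Cfsg.Agent.Lib.Helper15.linChar_mul
          (isCharacter_of_isIrrCharacter θ.2) hθ1, Cfsg.Agent.Lib.Helper15.linChar_mul
          (isCharacter_of_isIrrCharacter θ'.2) hθ1', htriv _ hx, htriv' _ hx,
          ← resB_apply φ θ hθ1, ← resB_apply φ θ' hθ1', h]
    have htrivFB : trivIrr B ∈ FB := by
      rw [hFB, Finset.mem_filter]
      exact ⟨Finset.mem_univ _, charDegree_trivIrr⟩
    have hFBcard : e + 1 ≤ FB.card := by
      have h3 := Finset.card_erase_of_mem htrivFB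
      have h4 : 0 < FB.card := Finset.card_pos.mpr ⟨_, htrivFB⟩
      omega
    -- the `p`-group sum
    have hAb : mA ^ 2 ≤ ∑ α' ∈ FA, charDegree (α' : A → ℂ) ^ 2 :=
      pgroup_sq_le hp hA α (by omega)
    -- the family of products
    set g : IrrCharacter A × IrrCharacter B → IrrCharacter K := fun x => prodIrr φ x.1 x.2
      with hg
    have hginj : ∀ x ∈ FA ×ˢ FB, ∀ y ∈ FA ×ˢ FB, g x = g y → x = y := by
      rintro ⟨α₁, l₁⟩ hx ⟨α₂, l₂⟩ hy h
      obtain ⟨-, hx2⟩ := Finset.mem_product.mp hx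
      obtain ⟨-, hy2⟩ := Finset.mem_product.mp hy
      have hl₁ : (l₁ : B → ℂ) 1 = 1 := (linear_iff l₁).mp (Finset.mem_filter.mp hx2).2
      have hl₂ : (l₂ : B → ℂ) 1 = 1 := (linear_iff l₂).mp (Finset.mem_filter.mp hy2).2
      have hα : α₁ = α₂ := by
        apply Subtype.ext
        funext u
        have h3 := congrArg (fun θ : IrrCharacter K => (θ : K → ℂ) (φ (u, 1))) h
        simp only [hg, prodIrr_apply, hl₁, hl₂, mul_one] at h3
        exact h3
      have hl : l₁ = l₂ := by
        apply Subtype.ext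
        funext v
        have h3 := congrArg (fun θ : IrrCharacter K => (θ : K → ℂ) (φ (1, v))) h
        simp only [hg, prodIrr_apply, hα] at h3
        exact mul_left_cancel₀ (char_one_ne_zero α₂.2) h3
      rw [hα, hl]
    have hsub : (FA ×ˢ FB).image g ⊆ Finset.univ.filter (fun θ : IrrCharacter K =>
        charDegree (θ : K → ℂ) < mA) := by
      intro θ hθ
      obtain ⟨⟨α₁, l₁⟩, hx, rfl⟩ := Finset.mem_image.mp hθ
      obtain ⟨hx1, hx2⟩ := Finset.mem_product.mp hx
      rw [Finset.mem_filter]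
      refine ⟨Finset.mem_univ _, ?_⟩
      show charDegree (prodIrr φ α₁ l₁ : K → ℂ) < mA
      rw [charDegree_prodIrr, (Finset.mem_filter.mp hx2).2, mul_one]
      exact (Finset.mem_filter.mp hx1).2
    have hsum : ∑ θ ∈ (FA ×ˢ FB).image g, charDegree (θ : K → ℂ) ^ 2 =
        (∑ α' ∈ FA, charDegree (α' : A → ℂ) ^ 2) * FB.card := by
      rw [Finset.sum_image hginj, Finset.sum_product, Finset.sum_mul]
      refine Finset.sum_congr rfl (fun α₁ _ => ?_)
      rw [Finset.card_eq_sum_ones, Finset.mul_sum]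
      refine Finset.sum_congr rfl (fun l₁ hl₁ => ?_)
      rw [hFB, Finset.mem_filter] at hl₁
      show charDegree (prodIrr φ α₁ l₁ : K → ℂ) ^ 2 = _
      rw [charDegree_prodIrr, hl₁.2, mul_one, mul_one]
    have hge := Finset.sum_le_sum_of_subset (f := fun θ : IrrCharacter K =>
      charDegree (θ : K → ℂ) ^ 2) hsub
    have hV := sum_lt_split (K := K) mA (by omega)
    rw [hsum] at hge
    rw [hV] at hge
    have h5 : mA ^ 2 * (e + 1) ≤ (∑ α' ∈ FA, charDegree (α' : A → ℂ) ^ 2) * FB.card :=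
      Nat.mul_le_mul hAb hFBcard
    have h6 : 2 * mA ≤ mA ^ 2 := by nlinarith
    have h7 : 2 * mA * (e + 1) ≤ mA ^ 2 * (e + 1) := Nat.mul_le_mul_right _ h6
    nlinarith
  · -- the case of a nonlinear second factor
    have hd2 : 2 ≤ d' := by omega
    have hne : mA ≠ d' := by
      intro h
      have h3 : p ∣ d' := by rw [← h]; exact hpα
      have h4 : p ∣ Nat.gcd d' p := Nat.dvd_gcd h3 (dvd_refl p)
      rw [hβcop] at h4
      exact hp.one_lt.ne' (Nat.dvd_one.mp h4)
    set U₁ : Finset (IrrCharacter K) := Finset.univ.filter (fun θ : IrrCharacter K =>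
      θ ≠ trivIrr K ∧ charDegree (θ : K → ℂ) = mA) with hU₁
    set U₂ : Finset (IrrCharacter K) := Finset.univ.filter (fun θ : IrrCharacter K =>
      θ ≠ trivIrr K ∧ charDegree (θ : K → ℂ) = d') with hU₂
    have hU₁ne : U₁.Nonempty := by
      refine ⟨prodIrr φ α (trivIrr B), ?_⟩
      rw [hU₁, Finset.mem_filter]
      have h3 : charDegree (prodIrr φ α (trivIrr B) : K → ℂ) = mA := by
        rw [charDegree_prodIrr, charDegree_trivIrr, mul_one]
      exact ⟨Finset.mem_univ _, prodIrr_ne_triv_of_deg φ _ _ (by rw [h3]; omega), h3⟩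
    have hU₂ne : U₂.Nonempty := by
      refine ⟨prodIrr φ (trivIrr A) β, ?_⟩
      rw [hU₂, Finset.mem_filter]
      have h3 : charDegree (prodIrr φ (trivIrr A) β : K → ℂ) = d' := by
        rw [charDegree_prodIrr, charDegree_trivIrr, one_mul]
      exact ⟨Finset.mem_univ _, prodIrr_ne_triv_of_deg φ _ _ (by rw [h3]; omega), h3⟩
    have hc₁ : e ≤ U₁.card := Nat.le_of_dvd (Finset.card_pos.mpr hU₁ne) (h1 mA)
    have hc₂ : e ≤ U₂.card := Nat.le_of_dvd (Finset.card_pos.mpr hU₂ne) (h1 d')
    have hdisj : Disjoint U₁ U₂ := by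
      rw [Finset.disjoint_left]
      intro θ h3 h4
      rw [hU₁, Finset.mem_filter] at h3
      rw [hU₂, Finset.mem_filter] at h4
      exact hne (h3.2.2.symm.trans h4.2.2)
    have hsub : U₁ ∪ U₂ ⊆ Finset.univ.filter (fun θ : IrrCharacter K =>
        θ ≠ trivIrr K ∧ charDegree (θ : K → ℂ) < mA * d') := by
      intro θ hθ
      rw [Finset.mem_filter]
      rcases Finset.mem_union.mp hθ with h3 | h3
      · rw [hU₁, Finset.mem_filter] at h3
        refine ⟨Finset.mem_univ _, h3.2.1, ?_⟩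
        rw [h3.2.2]
        nlinarith
      · rw [hU₂, Finset.mem_filter] at h3
        refine ⟨Finset.mem_univ _, h3.2.1, ?_⟩
        rw [h3.2.2]
        nlinarith
    have hge := Finset.sum_le_sum_of_subset (f := fun θ : IrrCharacter K =>
      charDegree (θ : K → ℂ) ^ 2) hsub
    rw [Finset.sum_union hdisj] at hge
    have hs₁ : ∑ θ ∈ U₁, charDegree (θ : K → ℂ) ^ 2 = U₁.card * mA ^ 2 := by
      rw [Finset.card_eq_sum_ones, Finset.sum_mul]
      refine Finset.sum_congr rfl (fun θ hθ => ?_)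
      rw [hU₁, Finset.mem_filter] at hθ
      rw [hθ.2.2, one_mul]
    have hs₂ : ∑ θ ∈ U₂, charDegree (θ : K → ℂ) ^ 2 = U₂.card * d' ^ 2 := by
      rw [Finset.card_eq_sum_ones, Finset.sum_mul]
      refine Finset.sum_congr rfl (fun θ hθ => ?_)
      rw [hU₂, Finset.mem_filter] at hθ
      rw [hθ.2.2, one_mul]
    rw [hs₁, hs₂] at hge
    have h5 : e * mA ^ 2 ≤ U₁.card * mA ^ 2 := Nat.mul_le_mul_right _ hc₁
    have h6 : e * d' ^ 2 ≤ U₂.card * d' ^ 2 := Nat.mul_le_mul_right _ hc₂
    have h7 : 2 * mA * d' + 1 ≤ mA ^ 2 + d' ^ 2 := by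
      rcases Nat.lt_or_gt_of_ne hne with h | h
      · obtain ⟨k, hk⟩ := Nat.exists_eq_add_of_lt h
        rw [hk]
        nlinarith [Nat.zero_le (k * k)]
      · obtain ⟨k, hk⟩ := Nat.exists_eq_add_of_lt h
        rw [hk]
        nlinarith [Nat.zero_le (k * k)]
    have h8 : e * (2 * mA * d' + 1) ≤ e * (mA ^ 2 + d' ^ 2) := Nat.mul_le_mul_left _ h7
    calc 2 * e * (mA * d') < e * (2 * mA * d' + 1) := by nlinarith [he]
      _ ≤ e * (mA ^ 2 + d' ^ 2) := h8
      _ = e * mA ^ 2 + e * d' ^ 2 := by ring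
      _ ≤ U₁.card * mA ^ 2 + U₂.card * d' ^ 2 := Nat.add_le_add h5 h6
      _ ≤ _ := hge

end prod

end Cfsg.Agent.Lib.Helper25
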