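import Mathlib
import Cfsg.Prelude.Def_OddOrderChar
import Cfsg.Agent.Lib.Helper25.PF65b
import Cfsg.Agent.Lib.Helper25.NormTwo
import Cfsg.Agent.S1492
import Cfsg.Agent.S1517

/-!
# Coherence of the characters not trivial on a central subgroup (prime power case)

`K` a normal subgroup of prime power order of `L`, `Z ≤ Z(K)` normal in `L` and nontrivial,
`[L:K]` dividing `|Z| - 1`, every member of `S ∖ S(Z)` irreducible.  Then `S ∖ S(Z)` is
coherent (`coherent_diff_pgroup`).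

Auxiliary: `card_fiber_of_irr`, `dvd_sum_sq_of_irr` (the fibres of `θ ↦ Ind θ` over irreducible
induced characters have `[L:K]` elements), `mem_diff_above_iff`, `conj_mem_diff_above`.
-/

set_option autoImplicit false

namespace Cfsg.Agent.Lib.Helper25

open Cfsg Cfsg.Agent.Lib.Helper80 Cfsg.Agent.Lib.Helper26

section fiber

variable {L : Type*} [Group L] [Fintype L] (K : Subgroup L) [hK : K.Normal]

/-- The fibre of `θ ↦ Ind θ` over an irreducible induced character has `[L:K]` elements. -/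
theorem card_fiber_of_irr (θ₀ : IrrCharacter K)
    (hirr : IsIrrCharacter L (Cfsg.indFun K (θ₀ : K → ℂ))) :
    Nat.card {θ : IrrCharacter K // Cfsg.indFun K (θ : K → ℂ) = Cfsg.indFun K (θ₀ : K → ℂ)} =
      K.index := by
  have h1 := card_fiber_mul K θ₀
  have h2 := classInner_indFun_indFun K θ₀.2 θ₀.2
  rw [classInner_irr_self hirr] at h2
  have hKpos : 0 < Nat.card K := Nat.card_pos
  have hc : (Nat.card K : ℂ) ≠ 0 := Nat.cast_ne_zero.mpr hKpos.ne'
  have h3 : Nat.card {x : L // (θ₀ : K → ℂ) = cj K (θ₀ : K → ℂ) x} = Nat.card K := by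
    have h4 : (Nat.card K : ℂ) * 1 = (Nat.card K : ℂ) * ((Nat.card K : ℂ)⁻¹ *
        (Nat.card {x : L // (θ₀ : K → ℂ) = cj K (θ₀ : K → ℂ) x} : ℂ)) := by rw [← h2]
    rw [mul_one, ← mul_assoc, mul_inv_cancel₀ hc, one_mul] at h4
    exact_mod_cast h4.symm
  rw [h3] at h1
  have hL : Nat.card L = K.index * Nat.card K := (Subgroup.index_mul_card K).symm
  rw [hL] at h1
  exact Nat.eq_of_mul_eq_mul_right hKpos h1

/-- The sum of the squares of the degrees over an `L`-stable set of irreducible characters of `K`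
inducing irreducibly is divisible by `[L:K]`. -/
theorem dvd_sum_sq_of_irr [Fintype (IrrCharacter K)] (P : IrrCharacter K → Prop)
    [DecidablePred P]
    (hP : ∀ θ : IrrCharacter K, P θ → ∀ x : L, P ⟨cj K (θ : K → ℂ) x, cj_irr K θ.2 x⟩)
    (hirr : ∀ θ : IrrCharacter K, P θ → IsIrrCharacter L (Cfsg.indFun K (θ : K → ℂ))) :
    K.index ∣ ∑ θ ∈ Finset.univ.filter P, Cfsg.charDegree (θ : K → ℂ) ^ 2 := by
  classical
  set U : Finset (IrrCharacter K) := Finset.univ.filter P with hU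
  set f : IrrCharacter K → (L → ℂ) := fun θ => Cfsg.indFun K (θ : K → ℂ) with hf
  have hindex : 0 < K.index := Nat.pos_of_ne_zero (Subgroup.index_ne_zero_of_finite)
  rw [← Finset.sum_fiberwise_of_maps_to (s := U) (t := U.image f) (g := f)
    (fun θ hθ => Finset.mem_image_of_mem f hθ)]
  apply Finset.dvd_sum
  intro φ hφ
  obtain ⟨θ₀, hθ₀, rfl⟩ := Finset.mem_image.mp hφ
  have hPθ₀ : P θ₀ := (Finset.mem_filter.mp hθ₀).2
  have hfib : U.filter (fun θ => f θ = f θ₀) = Finset.univ.filter (fun θ => f θ = f θ₀) := by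
    ext θ
    simp only [Finset.mem_filter, Finset.mem_univ, true_and, hU]
    constructor
    · exact fun h => h.2
    · intro h
      refine ⟨?_, h⟩
      obtain ⟨x, hx⟩ := exists_cj_of_indFun_eq K θ.2 θ₀.2 h
      have : θ = ⟨cj K (θ₀ : K → ℂ) x, cj_irr K θ₀.2 x⟩ := Subtype.ext hx
      rw [this]
      exact hP θ₀ hPθ₀ x
  have hdeg : ∀ θ ∈ Finset.univ.filter (fun θ : IrrCharacter K => f θ = f θ₀),
      Cfsg.charDegree (θ : K → ℂ) ^ 2 = Cfsg.charDegree (θ₀ : K → ℂ) ^ 2 := by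
    intro θ hθ
    have h1 : f θ = f θ₀ := (Finset.mem_filter.mp hθ).2
    have h2 : f θ 1 = f θ₀ 1 := by rw [h1]
    simp only [hf] at h2
    rw [indFun_apply_one, indFun_apply_one] at h2
    have h3 : (θ : K → ℂ) 1 = (θ₀ : K → ℂ) 1 :=
      mul_left_cancel₀ (Nat.cast_ne_zero.mpr hindex.ne') h2
    unfold Cfsg.charDegree
    rw [h3]
  rw [hfib, Finset.sum_congr rfl hdeg, Finset.sum_const, smul_eq_mul]
  have hcard : (Finset.univ.filter (fun θ : IrrCharacter K => f θ = f θ₀)).card = K.index := by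
    have h4 := card_fiber_of_irr K θ₀ (hirr θ₀ hPθ₀)
    rw [Nat.card_eq_fintype_card, Fintype.card_subtype] at h4
    exact h4
  rw [hcard]
  exact dvd_mul_right _ _

/-- Membership in `S ∖ S(Z)`. -/
theorem mem_diff_above_iff (Z : Subgroup L) [hZ : Z.Normal] (φ : L → ℂ) :
    φ ∈ inducedIrrAbove K ⊥ \ inducedIrrAbove K Z ↔
      ∃ θ : K → ℂ, IsIrrCharacter K θ ∧ (¬ ∀ a : K, (a : L) ∈ Z → θ a = θ 1) ∧
        φ = Cfsg.indFun K θ := by
  constructor
  · rintro ⟨⟨θ, hθ, hθ1, -, rfl⟩, hnot⟩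
    exact ⟨θ, hθ, fun h => hnot ⟨θ, hθ, hθ1, h, rfl⟩, rfl⟩
  · rintro ⟨θ, hθ, hnz, rfl⟩
    refine ⟨⟨θ, hθ, ?_, ?_, rfl⟩, ?_⟩
    · intro h
      apply hnz
      intro a _
      rw [h]
    · intro a ha
      rw [Subgroup.mem_bot] at ha
      have h1 : a = 1 := Subtype.ext ha
      rw [h1]
    · rintro ⟨θ', hθ', -, hker, heq⟩
      obtain ⟨x, hx⟩ := exists_cj_of_indFun_eq K hθ hθ' heq
      apply hnz
      intro a ha
      rw [hx, cj_apply_one]
      exact hker ⟨x * (a : L) * x⁻¹, hK.conj_mem a a.2 x⟩ (hZ.conj_mem _ ha x)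

omit hK in
theorem conj_mem_diff_above (Z : Subgroup L) {φ : L → ℂ}
    (h : φ ∈ inducedIrrAbove K ⊥ \ inducedIrrAbove K Z) :
    conjFun φ ∈ inducedIrrAbove K ⊥ \ inducedIrrAbove K Z := by
  refine ⟨conj_mem_above K ⊥ h.1, fun h2 => h.2 ?_⟩
  have h3 := conj_mem_above K Z h2
  rwa [conjFun_conjFun] at h3

end fiber

section pgroup

variable {L : Type*} [Group L] [Fintype L] {G : Type*} [Group G] [Fintype G]
  (K : Subgroup L) [hK : K.Normal]

theorem coherent_diff_pgroup {τ : (L → ℂ) → (G → ℂ)} {R : (L → ℂ) → Finset (G → ℂ)}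
    (hS : IsCoherenceSystem (inducedIrrAbove K ⊥) τ R) (Z : Subgroup L) [hZ : Z.Normal]
    (hZK : Z ≤ K) (hZc : ∀ z ∈ Z, ∀ k ∈ K, z * k = k * z)
    (hirr : ∀ χ ∈ inducedIrrAbove K ⊥ \ inducedIrrAbove K Z, IsIrrCharacter L χ)
    {p m : ℕ} (hp : p.Prime) (hp3 : 3 ≤ p) (hKp : Nat.card K = p ^ m) (hZ1 : Z ≠ ⊥)
    (he : K.index ∣ Nat.card Z - 1) :
    IsCoherent (inducedIrrAbove K ⊥ \ inducedIrrAbove K Z) {1}ᶜ τ := by
  classical
  haveI : Finite (IrrCharacter K) := irr_finite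
  haveI : Fintype (IrrCharacter K) := Fintype.ofFinite _
  set S : Set (L → ℂ) := inducedIrrAbove K ⊥ with hSdef
  set S2 : Set (L → ℂ) := S \ inducedIrrAbove K Z with hS2def
  have hdn : ∀ φ : L → ℂ, φ ∈ S → ∃ k m : ℕ, φ 1 = (k : ℂ) ∧ Cfsg.classInner φ φ = (m : ℂ) := by
    intro φ hφ
    have hc := hS.isCharacter φ hφ
    obtain ⟨k, hk⟩ := char_degree hc
    obtain ⟨m, hm⟩ := pair_char_nat hc hc
    exact ⟨k, m, hk, by rw [classInner_eq_pair _ hc]; exact hm⟩
  choose! d n hdn using hdn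
  have hd : ∀ φ ∈ S, φ 1 = (d φ : ℂ) := fun φ hφ => (hdn φ hφ).1
  have hn : ∀ φ ∈ S, Cfsg.classInner φ φ = (n φ : ℂ) := fun φ hφ => (hdn φ hφ).2
  have he0 : 0 < K.index := Nat.pos_of_ne_zero (Subgroup.index_ne_zero_of_finite)
  have hdeg : ∀ θ' : ↥K → ℂ, Cfsg.IsIrrCharacter ↥K θ' → Cfsg.indFun K θ' ∈ S →
      d (Cfsg.indFun K θ') = K.index * Cfsg.charDegree θ' := by
    intro θ' hθ' hmem
    have h1 := hd _ hmem
    rw [indFun_apply_one, char_one_eq_charDegree (isCharacter_of_isIrrCharacter hθ')] at h1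
    exact_mod_cast h1.symm
  have hn1 : ∀ φ ∈ S2, n φ = 1 := by
    intro φ hφ
    have h1 := hn φ hφ.1
    rw [classInner_irr_self (hirr φ hφ)] at h1
    exact_mod_cast h1.symm
  have hmem := mem_diff_above_iff K Z
  -- the subgroup Z inside K
  set Z' : Subgroup K := Z.subgroupOf K with hZ'
  haveI hZ'n : Z'.Normal := Subgroup.Normal.subgroupOf hZ K
  have hpow : ∀ θ : K → ℂ, IsIrrCharacter K θ → ∃ b, Cfsg.charDegree θ = p ^ b := by
    intro θ hθ
    have h1 := charDegree_dvd_card hθ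
    rw [hKp] at h1
    obtain ⟨b, -, hb⟩ := (Nat.dvd_prime_pow hp).mp h1
    exact ⟨b, hb⟩
  have hZ'card : Nat.card Z' = Nat.card Z :=
    Nat.card_congr (Subgroup.subgroupOfEquivOfLe hZK).toEquiv
  have hZ'idx : Nat.card Z * Z'.index = p ^ m := by
    rw [← hZ'card, ← hKp]
    exact Subgroup.card_mul_index Z'
  obtain ⟨c, hc⟩ : ∃ c, Nat.card Z = p ^ c := by
    have h1 : Nat.card Z ∣ p ^ m := Dvd.intro _ hZ'idx
    obtain ⟨c, -, hc⟩ := (Nat.dvd_prime_pow hp).mp h1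
    exact ⟨c, hc⟩
  obtain ⟨j, hj⟩ : ∃ j, Z'.index = p ^ j := by
    have h1 : Z'.index ∣ p ^ m := Dvd.intro_left _ hZ'idx
    obtain ⟨j, -, hj⟩ := (Nat.dvd_prime_pow hp).mp h1
    exact ⟨j, hj⟩
  have hc1 : 1 ≤ c := by
    by_contra h0
    have h1 : c = 0 := by omega
    rw [h1, pow_zero] at hc
    exact hZ1 (Subgroup.eq_bot_of_card_eq Z hc)
  have hcop : Nat.Coprime K.index p := by
    rw [Nat.coprime_comm, Nat.Prime.coprime_iff_not_dvd hp]
    intro hpe
    have h1 : p ∣ Nat.card Z - 1 := dvd_trans hpe he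
    have h2 : p ∣ Nat.card Z := by
      rw [hc]
      exact dvd_pow_self p (by omega)
    have h3 : 1 ≤ Nat.card Z := Nat.card_pos
    have h4 : p ∣ 1 := by
      have h5 := Nat.dvd_sub h2 h1
      rwa [Nat.sub_sub_self h3] at h5
    exact hp.one_lt.ne' (Nat.dvd_one.mp h4)
  have hsq : ∀ θ : K → ℂ, IsIrrCharacter K θ → ∀ a, Cfsg.charDegree θ = p ^ a →
      p ^ (2 * a) ∣ Z'.index := by
    intro θ hθ a ha
    have h1 := Cfsg.Agent.S1492.result θ hθ ⊥ ⊤ Z' bot_le le_top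
      (by
        intro c _ b hb
        rw [Subgroup.mem_bot] at hb ⊢
        rw [hb]
        group)
      (by
        intro d hd c _
        rw [Subgroup.mem_bot]
        have h2 := hZc d (Subgroup.mem_subgroupOf.mp hd) c c.2
        have h3 : d * c = c * d := Subtype.ext h2
        rw [h3]
        group)
      (by
        intro b hb
        rw [Subgroup.mem_bot] at hb
        rw [hb])
    rw [char_one_eq_charDegree (isCharacter_of_isIrrCharacter hθ), Complex.norm_natCast,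
      Subgroup.card_top] at h1
    have h2 : Cfsg.charDegree θ ^ 2 * Nat.card K * Nat.card Z' ≤ Nat.card K ^ 2 := by
      exact_mod_cast h1
    have h3 : Nat.card Z' * Z'.index = Nat.card K := Subgroup.card_mul_index Z'
    have hKpos : 0 < Nat.card K := Nat.card_pos
    have hZ'pos : 0 < Nat.card Z' := Nat.card_pos
    have h4 : Cfsg.charDegree θ ^ 2 * Nat.card Z' ≤ Z'.index * Nat.card Z' := by
      have h5 : Cfsg.charDegree θ ^ 2 * Nat.card Z' * Nat.card K ≤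
          Z'.index * Nat.card Z' * Nat.card K := by
        calc Cfsg.charDegree θ ^ 2 * Nat.card Z' * Nat.card K
            = Cfsg.charDegree θ ^ 2 * Nat.card K * Nat.card Z' := by ring
          _ ≤ Nat.card K ^ 2 := h2
          _ = Z'.index * Nat.card Z' * Nat.card K := by rw [← h3]; ring
      exact Nat.le_of_mul_le_mul_right h5 hKpos
    have h6 : Cfsg.charDegree θ ^ 2 ≤ Z'.index := Nat.le_of_mul_le_mul_right h4 hZ'pos
    rw [ha, ← pow_mul, hj] at h6
    rw [hj]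
    have h7 := (Nat.pow_le_pow_iff_right hp.one_lt).mp h6
    exact pow_dvd_pow p (by omega)
  have hsumNZ : ∑ θ ∈ Finset.univ.filter (fun θ : IrrCharacter K =>
      ¬ ∀ x ∈ Z', (θ : K → ℂ) x = (θ : K → ℂ) 1), Cfsg.charDegree (θ : K → ℂ) ^ 2 + Z'.index =
      Nat.card K := by
    have h := sum_charDegree_sq (G := K)
    rw [← Finset.sum_filter_add_sum_filter_not Finset.univ
      (fun θ : IrrCharacter K => ∀ x ∈ Z', (θ : K → ℂ) x = (θ : K → ℂ) 1),
      sum_charDegree_sq_filter_ker Z'] at h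
    omega
  -- the finite set
  have hfS2 : S2.Finite := (above_finite K ⊥).subset Set.sdiff_subset
  set U : Finset (L → ℂ) := hfS2.toFinset with hUdef
  have hUS2 : ∀ φ, φ ∈ U ↔ φ ∈ S2 := fun φ => hfS2.mem_toFinset
  have hUS : (↑U : Set (L → ℂ)) ⊆ S := fun φ hφ => ((hUS2 φ).mp (Finset.mem_coe.mp hφ)).1
  have hUc : ∀ φ ∈ U, Cfsg.conjFun φ ∈ U := fun φ hφ =>
    (hUS2 _).mpr (conj_mem_diff_above K Z ((hUS2 φ).mp hφ))
  have hUne : U.Nonempty := by
    have h1 : Z'.index < Nat.card K := by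
      have h2 : Nat.card Z' * Z'.index = Nat.card K := Subgroup.card_mul_index Z'
      have h3 : 2 ≤ Nat.card Z' := by
        rw [hZ'card, hc]
        calc 2 ≤ p := hp.two_le
          _ = p ^ 1 := (pow_one p).symm
          _ ≤ p ^ c := Nat.pow_le_pow_right hp.pos hc1
      have h4 : 0 < Z'.index := Nat.pos_of_ne_zero (Subgroup.index_ne_zero_of_finite)
      nlinarith
    have h5 : (Finset.univ.filter (fun θ : IrrCharacter K =>
        ¬ ∀ x ∈ Z', (θ : K → ℂ) x = (θ : K → ℂ) 1)).Nonempty := by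
      rw [Finset.nonempty_iff_ne_empty]
      intro h6
      rw [h6, Finset.sum_empty] at hsumNZ
      omega
    obtain ⟨θ, hθ⟩ := h5
    exact ⟨Cfsg.indFun K (θ : K → ℂ), (hUS2 _).mpr ((hmem _).mpr
      ⟨θ, θ.2, (Finset.mem_filter.mp hθ).2, rfl⟩)⟩
  obtain ⟨χ₁, hχ₁U, hχ₁min⟩ := Finset.exists_min_image U d hUne
  obtain ⟨θ₁, hθ₁, hθ₁nz, hχ₁eq⟩ := (hmem χ₁).mp ((hUS2 χ₁).mp hχ₁U)
  obtain ⟨a₀, ha₀⟩ := hpow θ₁ hθ₁
  have hχ₁S : Cfsg.indFun K θ₁ ∈ S := hχ₁eq ▸ hUS (Finset.mem_coe.mpr hχ₁U)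
  have hdχ₁ : d χ₁ = K.index * p ^ a₀ := by
    rw [hχ₁eq, hdeg θ₁ hθ₁ hχ₁S, ha₀]
  have hdconj : ∀ φ ∈ S, d (Cfsg.conjFun φ) = d φ := by
    intro φ hφ
    have h1 := hd _ (hS.conj_mem φ hφ)
    have h2 : Cfsg.conjFun φ 1 = (d φ : ℂ) := by
      unfold Cfsg.conjFun
      rw [hd φ hφ, Complex.conj_natCast]
    rw [h2] at h1
    exact_mod_cast h1.symm
  set T₀ : Finset (L → ℂ) := U.filter (fun φ => d φ = d χ₁) with hT₀def
  have hT₀U : T₀ ⊆ U := Finset.filter_subset _ _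
  have hT₀c : ∀ φ ∈ T₀, Cfsg.conjFun φ ∈ T₀ := by
    intro φ hφ
    obtain ⟨h1, h2⟩ := Finset.mem_filter.mp hφ
    exact Finset.mem_filter.mpr ⟨hUc φ h1, by rw [hdconj φ (hUS (Finset.mem_coe.mpr h1)), h2]⟩
  have hχ₁T₀ : χ₁ ∈ T₀ := Finset.mem_filter.mpr ⟨hχ₁U, rfl⟩
  have hT₀coh : Cfsg.IsCoherent (↑T₀ : Set (L → ℂ)) {1}ᶜ τ := by
    have hS' : IsCoherenceSystem (↑T₀ : Set (L → ℂ)) τ R :=
      coherenceSystem_subset hS (fun φ hφ => hUS (Finset.mem_coe.mpr (hT₀U (Finset.mem_coe.mp hφ))))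
        ⟨χ₁, Finset.mem_coe.mpr hχ₁T₀⟩ (fun χ hχ => Finset.mem_coe.mpr (hT₀c χ (Finset.mem_coe.mp hχ)))
    apply Cfsg.Agent.S1517.result _ τ R hS'
    intro φ hφ ψ hψ
    have h1 := Finset.mem_filter.mp (Finset.mem_coe.mp hφ)
    have h2 := Finset.mem_filter.mp (Finset.mem_coe.mp hψ)
    rw [hd φ (hUS (Finset.mem_coe.mpr h1.1)), hd ψ (hUS (Finset.mem_coe.mpr h2.1)), h1.2, h2.2]
  have hUcoh : Cfsg.IsCoherent (↑U : Set (L → ℂ)) {1}ᶜ τ := by
    apply coherent_of_step hS d n hd hn U T₀ hUS hUc hT₀U hT₀c hT₀coh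
    intro T hT₀T hTU hTc hTcoh hTne
    have hne : (U \ T).Nonempty := by
      rw [Finset.nonempty_iff_ne_empty]
      intro h
      exact hTne (Finset.Subset.antisymm hTU (Finset.sdiff_eq_empty_iff_subset.mp h))
    obtain ⟨ψ, hψmem, hψmin⟩ := Finset.exists_min_image (U \ T) d hne
    obtain ⟨hψU, hψT⟩ := Finset.mem_sdiff.mp hψmem
    obtain ⟨θ, hθ, hθnz, hψeq⟩ := (hmem ψ).mp ((hUS2 ψ).mp hψU)
    obtain ⟨a, ha⟩ := hpow θ hθ
    have hψS : Cfsg.indFun K θ ∈ S := hψeq ▸ hUS (Finset.mem_coe.mpr hψU)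
    have hdψ : d ψ = K.index * p ^ a := by
      rw [hψeq, hdeg θ hθ hψS, ha]
    have haa : a₀ < a := by
      have h1 := hχ₁min ψ hψU
      rw [hdχ₁, hdψ] at h1
      have h2 := Nat.le_of_mul_le_mul_left h1 he0
      have h3 := (Nat.pow_le_pow_iff_right hp.one_lt).mp h2
      rcases Nat.lt_or_ge a₀ a with h4 | h4
      · exact h4
      · exfalso
        have h5 : a = a₀ := by omega
        apply hψT
        apply hT₀T
        exact Finset.mem_filter.mpr ⟨hψU, by rw [hdψ, hdχ₁, h5]⟩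
    refine ⟨ψ, hψU, hψT, χ₁, hT₀T hχ₁T₀, ?_, ?_⟩
    · rw [hdχ₁, hdψ]
      exact Nat.mul_dvd_mul_left _ (pow_dvd_pow p haa.le)
    · let P : IrrCharacter K → Prop := fun χ =>
        (¬ ∀ x ∈ Z', (χ : ↥K → ℂ) x = (χ : ↥K → ℂ) 1) ∧ Cfsg.charDegree (χ : ↥K → ℂ) < p ^ a
      have hcjdeg : ∀ (θ' : IrrCharacter K) (x : L),
          Cfsg.charDegree (cj K (θ' : ↥K → ℂ) x) = Cfsg.charDegree (θ' : ↥K → ℂ) := by
        intro θ' x
        have e1 := char_one_eq_charDegree (isCharacter_of_isIrrCharacter (cj_irr K θ'.2 x))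
        have e2 := char_one_eq_charDegree (isCharacter_of_isIrrCharacter θ'.2)
        rw [cj_apply_one, e2] at e1
        exact_mod_cast e1.symm
      have hPinv : ∀ θ' : IrrCharacter K, P θ' →
          ∀ x : L, P ⟨cj K (θ' : ↥K → ℂ) x, cj_irr K θ'.2 x⟩ := by
        rintro θ' ⟨h1, h3⟩ x
        refine ⟨?_, ?_⟩
        · intro h
          apply h1
          intro y hy
          have hyx : x⁻¹ * (y : L) * x ∈ K := by simpa using hK.conj_mem y y.2 x⁻¹
          have hyZ : (⟨x⁻¹ * (y : L) * x, hyx⟩ : K) ∈ Z' := by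
            rw [hZ', Subgroup.mem_subgroupOf]
            simpa using hZ.conj_mem _ (Subgroup.mem_subgroupOf.mp hy) x⁻¹
          have h4 := h ⟨x⁻¹ * (y : L) * x, hyx⟩ hyZ
          have h5 : cj K (θ' : ↥K → ℂ) x ⟨x⁻¹ * (y : L) * x, hyx⟩ = (θ' : ↥K → ℂ) y := by
            unfold cj
            refine congrArg (θ' : ↥K → ℂ) (Subtype.ext ?_)
            show x * (x⁻¹ * (y : L) * x) * x⁻¹ = (y : L)
            group
          have h6 : cj K (θ' : ↥K → ℂ) x 1 = (θ' : ↥K → ℂ) 1 := cj_apply_one K _ x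
          exact h5.symm.trans (h4.trans h6)
        · show Cfsg.charDegree (cj K (θ' : ↥K → ℂ) x) < p ^ a
          rw [hcjdeg θ' x]
          exact h3
      have hPU : ∀ θ' : IrrCharacter K, (¬ ∀ x ∈ Z', (θ' : ↥K → ℂ) x = (θ' : ↥K → ℂ) 1) →
          Cfsg.indFun K (θ' : ↥K → ℂ) ∈ U := fun θ' h1 =>
        (hUS2 _).mpr ((hmem _).mpr ⟨θ', θ'.2, h1, rfl⟩)
      have hPT : ∀ θ' : IrrCharacter K, P θ' → Cfsg.indFun K (θ' : ↥K → ℂ) ∈ T := by
        rintro θ' ⟨h1, h3⟩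
        have hU' := hPU θ' h1
        by_contra hT'
        have h4 := hψmin _ (Finset.mem_sdiff.mpr ⟨hU', hT'⟩)
        rw [hdψ, hdeg _ θ'.2 (hUS (Finset.mem_coe.mpr hU'))] at h4
        have h5 := Nat.le_of_mul_le_mul_left h4 he0
        omega
      have hsum := sum_sq_div_norm_ge K P hPinv T hPT d n
        (fun φ hφ => hd φ (hUS (Finset.mem_coe.mpr (hTU hφ))))
        (fun φ hφ => hn φ (hUS (Finset.mem_coe.mpr (hTU hφ))))
      -- the counting
      have hdvd_e : K.index ∣ ∑ θ' ∈ Finset.univ.filter P, Cfsg.charDegree (θ' : ↥K → ℂ) ^ 2 :=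
        dvd_sum_sq_of_irr K P hPinv (fun θ' hθ' =>
          hirr _ ((hUS2 _).mp (hPU θ' hθ'.1)))
      have hsplit := Finset.sum_filter_add_sum_filter_not
        (Finset.univ.filter (fun θ : IrrCharacter K =>
          ¬ ∀ x ∈ Z', (θ : K → ℂ) x = (θ : K → ℂ) 1))
        (fun χ : IrrCharacter K => Cfsg.charDegree (χ : K → ℂ) < p ^ a)
        (fun χ : IrrCharacter K => Cfsg.charDegree (χ : K → ℂ) ^ 2)
      have hPfilter : (Finset.univ.filter (fun θ : IrrCharacter K =>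
          ¬ ∀ x ∈ Z', (θ : K → ℂ) x = (θ : K → ℂ) 1)).filter
          (fun χ : IrrCharacter K => Cfsg.charDegree (χ : K → ℂ) < p ^ a) =
          Finset.univ.filter P := by
        ext χ
        simp only [Finset.mem_filter, Finset.mem_univ, true_and, P]
      rw [hPfilter] at hsplit
      have hbig : p ^ (2 * a) ∣ ∑ χ ∈ (Finset.univ.filter (fun θ : IrrCharacter K =>
          ¬ ∀ x ∈ Z', (θ : K → ℂ) x = (θ : K → ℂ) 1)).filter
          (fun χ : IrrCharacter K => ¬ Cfsg.charDegree (χ : K → ℂ) < p ^ a),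
          Cfsg.charDegree (χ : K → ℂ) ^ 2 := by
        apply Finset.dvd_sum
        intro χ hχ
        obtain ⟨-, hχd⟩ := Finset.mem_filter.mp hχ
        obtain ⟨b, hb⟩ := hpow χ χ.2
        rw [hb, ← pow_mul]
        apply pow_dvd_pow
        have h1 : p ^ a ≤ p ^ b := by
          rw [← hb]
          omega
        have h2 := (Nat.pow_le_pow_iff_right hp.one_lt).mp h1
        omega
      have hdvd_p : p ^ (2 * a) ∣
          ∑ θ' ∈ Finset.univ.filter P, Cfsg.charDegree (θ' : ↥K → ℂ) ^ 2 := by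
        have h1 : p ^ (2 * a) ∣ Nat.card K - Z'.index := by
          have h2 : Nat.card K - Z'.index = Z'.index * (Nat.card Z' - 1) := by
            have h3 : Nat.card Z' * Z'.index = Nat.card K := Subgroup.card_mul_index Z'
            have h4 : 1 ≤ Nat.card Z' := Nat.card_pos
            rw [← h3, Nat.mul_sub, mul_one, mul_comm]
          rw [h2]
          exact dvd_mul_of_dvd_left (hsq θ hθ a ha) _
        have h5 : ∑ θ ∈ Finset.univ.filter (fun θ : IrrCharacter K =>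
            ¬ ∀ x ∈ Z', (θ : K → ℂ) x = (θ : K → ℂ) 1), Cfsg.charDegree (θ : K → ℂ) ^ 2 =
            Nat.card K - Z'.index := by omega
        rw [← h5, ← hsplit] at h1
        exact (Nat.dvd_add_left hbig).mp h1
      have hθ₁P : P ⟨θ₁, hθ₁⟩ := by
        refine ⟨hθ₁nz, ?_⟩
        show Cfsg.charDegree θ₁ < p ^ a
        rw [ha₀]
        exact Nat.pow_lt_pow_right hp.one_lt haa
      have hpos : 0 < ∑ θ' ∈ Finset.univ.filter P, Cfsg.charDegree (θ' : ↥K → ℂ) ^ 2 := by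
        have h1 : Cfsg.charDegree θ₁ ^ 2 ≤
            ∑ θ' ∈ Finset.univ.filter P, Cfsg.charDegree (θ' : ↥K → ℂ) ^ 2 :=
          Finset.single_le_sum (f := fun χ : IrrCharacter K => Cfsg.charDegree (χ : K → ℂ) ^ 2)
            (fun _ _ => Nat.zero_le _) (Finset.mem_filter.mpr ⟨Finset.mem_univ _, hθ₁P⟩)
        rw [ha₀] at h1
        have h2 : 0 < (p ^ a₀) ^ 2 := by positivity
        omega
      have hge : K.index * p ^ (2 * a) ≤
          ∑ θ' ∈ Finset.univ.filter P, Cfsg.charDegree (θ' : ↥K → ℂ) ^ 2 :=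
        Nat.le_of_dvd hpos (Nat.Coprime.mul_dvd_of_dvd_of_dvd
          (Nat.Coprime.pow_right _ hcop) hdvd_e hdvd_p)
      have harith : 2 * (K.index * p ^ a) * (K.index * p ^ a₀) <
          K.index * (K.index * p ^ (2 * a)) := by
        have h1 : 3 * p ^ (a + a₀) ≤ p ^ (2 * a) := by
          calc 3 * p ^ (a + a₀) ≤ p * p ^ (a + a₀) := Nat.mul_le_mul_right _ hp3
            _ = p ^ (a + a₀ + 1) := by ring
            _ ≤ p ^ (2 * a) := Nat.pow_le_pow_right hp.pos (by omega)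
        have h2 : 0 < p ^ (a + a₀) := by positivity
        have h3 : 2 * (K.index * p ^ a) * (K.index * p ^ a₀) =
            K.index * K.index * (2 * p ^ (a + a₀)) := by ring
        have h4 : K.index * (K.index * p ^ (2 * a)) = K.index * K.index * p ^ (2 * a) := by ring
        rw [h3, h4]
        apply Nat.mul_lt_mul_of_pos_left _ (Nat.mul_pos he0 he0)
        omega
      rw [hdχ₁, hdψ]
      have he' : (0 : ℝ) < (K.index : ℝ) := by exact_mod_cast he0
      have hge' : ((K.index * p ^ (2 * a) : ℕ) : ℝ) ≤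
          ∑ θ ∈ Finset.univ.filter P, (Cfsg.charDegree (θ : ↥K → ℂ) : ℝ) ^ 2 := by
        exact_mod_cast hge
      calc (2 * ((K.index * p ^ a : ℕ) : ℝ) * ((K.index * p ^ a₀ : ℕ) : ℝ))
          = ((2 * (K.index * p ^ a) * (K.index * p ^ a₀) : ℕ) : ℝ) := by push_cast; ring
        _ < ((K.index * (K.index * p ^ (2 * a)) : ℕ) : ℝ) := by exact_mod_cast harith
        _ = (K.index : ℝ) * ((K.index * p ^ (2 * a) : ℕ) : ℝ) := by push_cast; ring
        _ ≤ (K.index : ℝ) *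
            ∑ θ ∈ Finset.univ.filter P, (Cfsg.charDegree (θ : ↥K → ℂ) : ℝ) ^ 2 :=
            mul_le_mul_of_nonneg_left hge' he'.le
        _ ≤ _ := hsum
  rw [hUdef, Set.Finite.coe_toFinset] at hUcoh
  exact hUcoh

end pgroup

end Cfsg.Agent.Lib.Helper25
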