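import Mathlib
import Cfsg.Agent.S0033
import Cfsg.Agent.S0171
import Cfsg.Agent.S1528
import Cfsg.Agent.Lib.Helper25.CN1
import Cfsg.Agent.Lib.Helper25.PF66
import Cfsg.Agent.Lib.Helper25.Feit1
import Cfsg.Agent.Lib.Helper25.Feit3
import Cfsg.Agent.Lib.Helper80.CharOps

/-!
# Frobenius groups given by a normal subgroup with small centralisers

`K` a normal subgroup of the finite group `N` such that the centraliser in `N` of every
non-identity element of `K` lies in `K`.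

* `frobT_index_dvd`, `frobT_coprime`, `frobT_complement`, `frobT_nilpotent`: structure;
* `frobT_induced_irr`, `frobT_exists_ind`, `frobT_ind_rel`: the irreducible characters of `N`
  not trivial on `K` are the characters induced from non-principal irreducible characters of `K`;
* `frobT_dvd_card`: divisibility of the size of stable sets of characters of `K`;
* `frobT_coherent`: coherence from degree counting.
-/

set_option autoImplicit false

namespace Cfsg.Agent.Lib.Helper25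

open Cfsg Cfsg.Agent.Lib.Helper80 Cfsg.Agent.Lib.Helper26

theorem sum_irr_ne_triv {G : Type*} [Group G] [Fintype G] {ψ : G → ℂ}
    (hψ : IsIrrCharacter G ψ) (hne : ψ ≠ fun _ => 1) : ∑ g : G, ψ g = 0 := by
  have h := classInner_irr_ne hψ (isIrrCharacter_one (G := G)) hne
  unfold classInner at h
  simp only [map_one, mul_one] at h
  rcases mul_eq_zero.mp h with h1 | h1
  · exfalso
    have : (Nat.card G : ℂ) ≠ 0 := by exact_mod_cast Nat.card_pos.ne'
    exact this (inv_eq_zero.mp h1)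
  · exact h1

section frobT

variable {N : Type*} [Group N] [Fintype N] (K : Subgroup N) [hK : K.Normal]

omit [Fintype N] in
theorem frobT_index_dvd [Finite N]
    (hC : ∀ k ∈ K, k ≠ 1 → Subgroup.centralizer ({k} : Set N) ≤ K) :
    K.index ∣ Nat.card K - 1 := frob_count_le K K hC

omit [Fintype N] in
theorem frobT_coprime [Finite N]
    (hC : ∀ k ∈ K, k ≠ 1 → Subgroup.centralizer ({k} : Set N) ≤ K) :
    (Nat.card K).Coprime K.index := by
  apply Nat.Coprime.coprime_dvd_right (frobT_index_dvd K hC)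
  obtain ⟨a, ha⟩ : ∃ a, Nat.card K = a + 1 := ⟨Nat.card K - 1, by
    have : 1 ≤ Nat.card K := Nat.card_pos
    omega⟩
  rw [ha, Nat.add_sub_cancel]
  simp

omit [Fintype N] in
theorem frobT_complement [Finite N]
    (hC : ∀ k ∈ K, k ≠ 1 → Subgroup.centralizer ({k} : Set N) ≤ K) :
    ∃ W : Subgroup N, K ⊓ W = ⊥ ∧ K ⊔ W = ⊤ ∧
      ∀ w ∈ W, w ≠ 1 → ∀ k ∈ K, w * k = k * w → k = 1 := by
  obtain ⟨W, hW⟩ := Subgroup.exists_right_complement'_of_coprime (frobT_coprime K hC)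
  refine ⟨W, hW.disjoint.eq_bot, hW.sup_eq_top, ?_⟩
  intro w hw hw1 k hk hwk
  by_contra hk1
  have h1 : w ∈ K := by
    apply hC k hk hk1
    rw [Subgroup.mem_centralizer_iff]
    intro y hy
    rw [Set.mem_singleton_iff] at hy
    rw [hy]
    exact hwk.symm
  have h2 : w ∈ K ⊓ W := ⟨h1, hw⟩
  rw [hW.disjoint.eq_bot, Subgroup.mem_bot] at h2
  exact hw1 h2

theorem frobT_induced_irr (hC : ∀ k ∈ K, k ≠ 1 → Subgroup.centralizer ({k} : Set N) ≤ K)
    {θ : K → ℂ} (hθ : IsIrrCharacter K θ) (hθ1 : θ ≠ fun _ => 1) :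
    IsIrrCharacter N (indFun K θ) := by
  obtain ⟨W, h1, h2, h3⟩ := frobT_complement K hC
  exact Cfsg.Agent.S0171.result K W h1 h2 h3 θ hθ hθ1

omit [Fintype N] in
theorem frobT_nilpotent [Finite N]
    (hC : ∀ k ∈ K, k ≠ 1 → Subgroup.centralizer ({k} : Set N) ≤ K)
    (hK1 : K ≠ ⊥) (hK2 : K ≠ ⊤) : Group.IsNilpotent K := by
  have hidx : K.index ≠ 1 := fun h => hK2 (Subgroup.index_eq_one.mp h)
  obtain ⟨p, hp, hpd⟩ := Nat.exists_prime_and_dvd hidx
  haveI : Fact p.Prime := ⟨hp⟩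
  have hpN : p ∣ Nat.card N := dvd_trans hpd (Subgroup.index_dvd_card _)
  obtain ⟨w, hw⟩ := exists_prime_orderOf_dvd_card' (G := N) p hpN
  have hdvd := frobT_index_dvd K hC
  have hwK : w ∉ K := by
    intro h
    have h1 : p ∣ Nat.card K := by
      rw [← hw]
      exact Subgroup.orderOf_dvd_natCard _ h
    have h2 : p ∣ Nat.card K - 1 := dvd_trans hpd hdvd
    have hpos : 1 ≤ Nat.card K := Nat.card_pos
    have h3 : p ∣ 1 := by
      have h4 := Nat.dvd_sub h1 h2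
      rwa [Nat.sub_sub_self hpos] at h4
    exact hp.one_lt.ne' (Nat.dvd_one.mp h3)
  let φ : K ≃* K := MulAut.conjNormal w
  have hφ : ∀ k : K, ((φ k : K) : N) = w * k * w⁻¹ := fun k => MulAut.conjNormal_apply w k
  have hfpf : MonoidHom.FixedPointFree (φ : K →* K) := by
    intro k hk
    by_contra hk1
    have hk' : φ k = k := hk
    have h1 : w * (k : N) * w⁻¹ = (k : N) := by rw [← hφ k, hk']
    apply hwK
    apply hC (k : N) k.2 (fun h => hk1 (Subtype.ext h))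
    rw [Subgroup.mem_centralizer_iff]
    intro y hy
    rw [Set.mem_singleton_iff] at hy
    rw [hy]
    calc (k : N) * w = (w * (k : N) * w⁻¹) * w := by rw [h1]
      _ = w * (k : N) := by group
  have hord : orderOf φ = p := by
    have h1 : φ ^ p = 1 := by
      show (MulAut.conjNormal w) ^ p = 1
      rw [← map_pow, ← hw, pow_orderOf_eq_one, map_one]
    have h2 := orderOf_dvd_of_pow_eq_one h1
    rcases (Nat.dvd_prime hp).mp h2 with h3 | h3
    · exfalso
      rw [orderOf_eq_one_iff] at h3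
      obtain ⟨k, hk1⟩ := (Subgroup.ne_bot_iff_exists_ne_one).mp hK1
      have h4 := hfpf k (by
        show φ k = k
        rw [h3]
        rfl)
      exact hk1 h4
    · exact h3
  exact Cfsg.Agent.S0033.result φ hfpf p hp hord

theorem indFun_one_apply_coe (h : K) :
    indFun K (fun _ : K => (1 : ℂ)) (h : N) = indFun K (fun _ : K => (1 : ℂ)) 1 := by
  have h0 := indFun_apply_coe K (fun _ : K => (1 : ℂ)) h
  have h1 := indFun_apply_coe K (fun _ : K => (1 : ℂ)) 1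
  rw [show ((1 : K) : N) = 1 from rfl] at h1
  rw [h0, h1]
  rfl

theorem frobT_exists_ind (hC : ∀ k ∈ K, k ≠ 1 → Subgroup.centralizer ({k} : Set N) ≤ K)
    {χ : N → ℂ} (hχ : IsIrrCharacter N χ) (hker : ∃ k ∈ K, χ k ≠ χ 1) :
    ∃ θ : IrrCharacter K, θ ≠ trivIrr K ∧ χ = indFun K (θ : K → ℂ) := by
  obtain ⟨φ, hφ, rfl⟩ := Cfsg.Agent.S1528.result K hC χ hχ hker
  refine ⟨⟨φ, hφ⟩, ?_, rfl⟩
  intro h
  obtain ⟨k, hk, hne⟩ := hker
  apply hne
  have h1 : φ = fun _ => 1 := congrArg Subtype.val h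
  rw [h1]
  exact indFun_one_apply_coe K ⟨k, hk⟩

omit [Fintype N] in
theorem cj_ne_one {θ : K → ℂ} (hθ1 : θ ≠ fun _ => 1) (x : N) : cj K θ x ≠ fun _ => 1 := by
  intro h
  apply hθ1
  funext a
  have hmem : x⁻¹ * (a : N) * x ∈ K := by
    have := hK.conj_mem a a.2 x⁻¹
    rwa [inv_inv] at this
  have h3 := congrFun h ⟨x⁻¹ * (a : N) * x, hmem⟩
  simp only [cj] at h3
  rw [← h3]
  congr 1
  apply Subtype.ext
  simp [mul_assoc]

theorem frobT_ind_rel {θ : K → ℂ} (hθ : IsIrrCharacter K θ) (hθ1 : θ ≠ fun _ => 1) :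
    ∃ k ∈ K, indFun K θ k ≠ indFun K θ 1 := by
  classical
  by_contra hcon
  push Not at hcon
  have h1 : ∑ k : K, indFun K θ (k : N) = (Nat.card K : ℂ) * indFun K θ 1 := by
    rw [Finset.sum_congr rfl (fun (k : K) _ => hcon (k : N) k.2), Finset.sum_const, Finset.card_univ,
      nsmul_eq_mul, Nat.card_eq_fintype_card]
  have h2 : ∑ k : K, indFun K θ (k : N) = 0 := by
    simp_rw [indFun_apply_coe K θ]
    rw [← Finset.mul_sum, Finset.sum_comm, Finset.sum_eq_zero, mul_zero]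
    intro x _
    exact sum_irr_ne_triv (cj_irr K hθ x) (cj_ne_one K hθ1 x)
  rw [h2, indFun_apply_one] at h1
  have h3 : (Nat.card K : ℂ) ≠ 0 := by exact_mod_cast Nat.card_pos.ne'
  have h4 : (K.index : ℂ) ≠ 0 := by exact_mod_cast Subgroup.index_ne_zero_of_finite
  have h5 : θ 1 ≠ 0 := char_one_ne_zero hθ
  exact (mul_ne_zero h3 (mul_ne_zero h4 h5)) h1.symm

omit [Fintype N] hK in
theorem triv_coe_ne {θ : IrrCharacter K} (h : θ ≠ trivIrr K) : (θ : K → ℂ) ≠ fun _ => 1 :=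
  fun h1 => h (Subtype.ext h1)

/-- The number of members of a stable set of non-principal irreducible characters of `K` of a
fixed degree is divisible by `[N:K]`. -/
theorem frobT_dvd_card (hC : ∀ k ∈ K, k ≠ 1 → Subgroup.centralizer ({k} : Set N) ≤ K)
    [Fintype (IrrCharacter K)] (P : IrrCharacter K → Prop) [DecidablePred P] (m : ℕ)
    (hP : ∀ θ : IrrCharacter K, P θ → ∀ x : N, P ⟨cj K (θ : K → ℂ) x, cj_irr K θ.2 x⟩)
    (hne : ∀ θ : IrrCharacter K, P θ → θ ≠ trivIrr K)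
    (hdeg : ∀ θ : IrrCharacter K, P θ → charDegree (θ : K → ℂ) = m) :
    K.index ∣ (Finset.univ.filter P).card := by
  classical
  have h1 := dvd_sum_sq_of_irr K P hP
    (fun θ hθ => frobT_induced_irr K hC θ.2 (triv_coe_ne K (hne θ hθ)))
  have h2 : ∑ θ ∈ Finset.univ.filter P, charDegree (θ : K → ℂ) ^ 2 =
      (Finset.univ.filter P).card * m ^ 2 := by
    rw [Finset.card_eq_sum_ones, Finset.sum_mul]
    refine Finset.sum_congr rfl (fun θ hθ => ?_)
    rw [hdeg θ (Finset.mem_filter.mp hθ).2, one_mul]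
  rw [h2] at h1
  rcases (Finset.univ.filter P).eq_empty_or_nonempty with h3 | ⟨θ, hθ⟩
  · rw [h3, Finset.card_empty]
    exact dvd_zero _
  · have hPθ := (Finset.mem_filter.mp hθ).2
    have h4 : m ∣ Nat.card K := by
      rw [← hdeg θ hPθ]
      exact charDegree_dvd_card θ.2
    have h5 : (K.index).Coprime m :=
      Nat.Coprime.coprime_dvd_right h4 (Nat.Coprime.symm (frobT_coprime K hC))
    exact (Nat.Coprime.dvd_mul_right (Nat.Coprime.pow_right 2 h5)).mp h1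

end frobT

section core

variable {N : Type*} [Group N] [Fintype N] {G : Type*} [Group G] [Fintype G]
  (K : Subgroup N) [hK : K.Normal]

open Classical in
/-- Coherence of the set of irreducible characters of `N` not trivial on `K`, from two counting
conditions on the irreducible characters of `K`. -/
theorem frobT_coherent (hC : ∀ k ∈ K, k ≠ 1 → Subgroup.centralizer ({k} : Set N) ≤ K)
    [Fintype (IrrCharacter K)]
    (hlin : 2 * K.index ≤ (Finset.univ.filter (fun θ : IrrCharacter K =>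
      θ ≠ trivIrr K ∧ charDegree (θ : K → ℂ) = 1)).card)
    (hcount : ∀ θ₀ : IrrCharacter K, 1 < charDegree (θ₀ : K → ℂ) →
      2 * K.index * charDegree (θ₀ : K → ℂ) <
        ∑ θ ∈ Finset.univ.filter (fun θ : IrrCharacter K =>
          θ ≠ trivIrr K ∧ charDegree (θ : K → ℂ) < charDegree (θ₀ : K → ℂ)),
          charDegree (θ : K → ℂ) ^ 2)
    (τ : (N → ℂ) → (G → ℂ))
    (hτ : IsLinearIsometryOn
      (zspanOn {χ : N → ℂ | IsIrrCharacter N χ ∧ ∃ h ∈ K, χ h ≠ χ 1} {1}ᶜ) τ)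
    (hτ1 : ∀ α ∈ zspanOn {χ : N → ℂ | IsIrrCharacter N χ ∧ ∃ h ∈ K, χ h ≠ χ 1} {1}ᶜ,
      τ α 1 = 0) :
    IsCoherent {χ : N → ℂ | IsIrrCharacter N χ ∧ ∃ h ∈ K, χ h ≠ χ 1} {1}ᶜ τ := by
  set S : Set (N → ℂ) := {χ : N → ℂ | IsIrrCharacter N χ ∧ ∃ h ∈ K, χ h ≠ χ 1} with hS
  have hSirr : ∀ ξ ∈ S, IsIrrCharacter N ξ := fun ξ h => h.1
  have hfin : S.Finite := finite_of_irr hSirr
  set F : Finset (N → ℂ) := hfin.toFinset with hF
  have hFS : (↑F : Set (N → ℂ)) = S := hfin.coe_toFinset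
  have hmemF : ∀ ξ, ξ ∈ F ↔ ξ ∈ S := fun ξ => hfin.mem_toFinset
  rw [← hFS] at hτ hτ1 ⊢
  have hirr : ∀ ξ ∈ F, IsIrrCharacter N ξ := fun ξ h => hSirr ξ ((hmemF ξ).mp h)
  have hd : ∀ ξ ∈ F, ξ 1 = (deg ξ : ℂ) := fun ξ h => deg_eq (hirr ξ h)
  set e := K.index with he
  have hepos : 0 < e := Nat.pos_of_ne_zero Subgroup.index_ne_zero_of_finite
  have hind : ∀ θ : IrrCharacter K, θ ≠ trivIrr K → indFun K (θ : K → ℂ) ∈ F ∧
      deg (indFun K (θ : K → ℂ)) = e * charDegree (θ : K → ℂ) := by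
    intro θ hθ
    have h1 := frobT_induced_irr K hC θ.2 (triv_coe_ne K hθ)
    refine ⟨(hmemF _).mpr ⟨h1, frobT_ind_rel K θ.2 (triv_coe_ne K hθ)⟩, ?_⟩
    have h2 := deg_eq h1
    rw [indFun_apply_one, char_one_eq_charDegree (isCharacter_of_isIrrCharacter θ.2)] at h2
    exact_mod_cast h2.symm
  have hexi : ∀ χ ∈ F, ∃ θ : IrrCharacter K, θ ≠ trivIrr K ∧ χ = indFun K (θ : K → ℂ) :=
    fun χ h => frobT_exists_ind K hC (hirr χ h) ((hmemF χ).mp h).2
  have hcj : ∀ θ : IrrCharacter K, ∀ x : N,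
      charDegree (cj K (θ : K → ℂ) x) = charDegree (θ : K → ℂ) := by
    intro θ x
    unfold charDegree
    rw [cj_apply_one]
  have hcjne : ∀ θ : IrrCharacter K, θ ≠ trivIrr K → ∀ x : N,
      (⟨cj K (θ : K → ℂ) x, cj_irr K θ.2 x⟩ : IrrCharacter K) ≠ trivIrr K := by
    intro θ hθ x h
    exact cj_ne_one K (triv_coe_ne K hθ) x (congrArg Subtype.val h)
  set S₁ : Finset (N → ℂ) := F.filter (fun ξ => deg ξ = e) with hS₁
  have hineq : ∀ (P : IrrCharacter K → Prop) [DecidablePred P] (T : Finset (N → ℂ)), T ⊆ F →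
      (∀ θ : IrrCharacter K, P θ → ∀ x : N, P ⟨cj K (θ : K → ℂ) x, cj_irr K θ.2 x⟩) →
      (∀ θ : IrrCharacter K, P θ → indFun K (θ : K → ℂ) ∈ T) →
      e * ∑ θ ∈ Finset.univ.filter P, charDegree (θ : K → ℂ) ^ 2 ≤ ∑ φ ∈ T, deg φ ^ 2 := by
    intro P _ T hTF hP hT
    have h1 := sum_sq_div_norm_ge K P hP T hT deg (fun _ => 1) (fun φ hφ => hd φ (hTF hφ))
      (fun φ hφ => by rw [classInner_irr_self (hirr φ (hTF hφ))]; simp)
    have h2 : ((e * ∑ θ ∈ Finset.univ.filter P, charDegree (θ : K → ℂ) ^ 2 : ℕ) : ℝ) ≤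
        ((∑ φ ∈ T, deg φ ^ 2 : ℕ) : ℝ) := by
      push_cast
      simpa using h1
    exact_mod_cast h2
  have hS₁F : S₁ ⊆ F := Finset.filter_subset _ _
  have hS₁card : 2 ≤ S₁.card := by
    have h1 := hineq (fun θ : IrrCharacter K => θ ≠ trivIrr K ∧ charDegree (θ : K → ℂ) = 1) S₁
      hS₁F (fun θ h x => ⟨hcjne θ h.1 x, by
        show charDegree (cj K (θ : K → ℂ) x) = 1
        rw [hcj]; exact h.2⟩)
      (fun θ h => by
        rw [hS₁, Finset.mem_filter]
        obtain ⟨h2, h3⟩ := hind θ h.1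
        exact ⟨h2, by rw [h3, h.2, mul_one]⟩)
    have h2 : ∑ θ ∈ Finset.univ.filter (fun θ : IrrCharacter K =>
        θ ≠ trivIrr K ∧ charDegree (θ : K → ℂ) = 1), charDegree (θ : K → ℂ) ^ 2 =
        (Finset.univ.filter (fun θ : IrrCharacter K =>
          θ ≠ trivIrr K ∧ charDegree (θ : K → ℂ) = 1)).card := by
      rw [Finset.card_eq_sum_ones]
      refine Finset.sum_congr rfl (fun θ hθ => ?_)
      rw [(Finset.mem_filter.mp hθ).2.2]
      norm_num
    have h3 : ∑ φ ∈ S₁, deg φ ^ 2 = S₁.card * e ^ 2 := by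
      rw [Finset.card_eq_sum_ones, Finset.sum_mul]
      refine Finset.sum_congr rfl (fun φ hφ => ?_)
      rw [(Finset.mem_filter.mp hφ).2, one_mul]
    rw [h2, h3] at h1
    by_contra hlt
    push Not at hlt
    have h4 : S₁.card ≤ 1 := by omega
    have h5 := Nat.mul_le_mul_left e hlin
    have h6 : S₁.card * e ^ 2 ≤ 1 * e ^ 2 := Nat.mul_le_mul_right _ h4
    nlinarith
  have hsubS₁ : (↑S₁ : Set (N → ℂ)) ⊆ ↑F := by
    intro x hx
    exact Finset.mem_coe.mpr (hS₁F (Finset.mem_coe.mp hx))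
  have hcoh₁ : IsCoherent (↑S₁ : Set (N → ℂ)) {1}ᶜ τ := by
    apply coh_equal_degree S₁ hS₁card (fun a ha => hirr a (hS₁F ha)) _ τ
      (isom_mono (zspanOn_mono hsubS₁ _) hτ) (fun α hα => hτ1 α (zspanOn_mono hsubS₁ _ hα))
    intro a ha b hb
    rw [hd a (hS₁F ha), hd b (hS₁F hb), (Finset.mem_filter.mp ha).2, (Finset.mem_filter.mp hb).2]
  obtain ⟨ψ, hψ⟩ : S₁.Nonempty := Finset.card_pos.mp (by omega)
  have hψe : deg ψ = e := (Finset.mem_filter.mp hψ).2
  apply coh_grow F S₁ hS₁F hirr deg hd τ hτ hτ1 hcoh₁ ψ hψ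
  intro χ hχF hχS₁
  obtain ⟨θ₀, hθ₀, rfl⟩ := hexi χ hχF
  obtain ⟨-, hdeg₀⟩ := hind θ₀ hθ₀
  have hm1 : charDegree (θ₀ : K → ℂ) ≠ 1 := by
    intro h
    apply hχS₁
    rw [hS₁, Finset.mem_filter]
    exact ⟨hχF, by rw [hdeg₀, h, mul_one]⟩
  have hm : 1 < charDegree (θ₀ : K → ℂ) := by
    have := charDegree_pos θ₀.2
    omega
  rw [hψe, hdeg₀]
  refine ⟨dvd_mul_right _ _, ?_⟩
  have h1 := hineq (fun θ : IrrCharacter K =>
      θ ≠ trivIrr K ∧ charDegree (θ : K → ℂ) < charDegree (θ₀ : K → ℂ))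
    (F.filter (fun ξ => ξ ∈ S₁ ∨ deg ξ < e * charDegree (θ₀ : K → ℂ)))
    (Finset.filter_subset _ _)
    (fun θ h x => ⟨hcjne θ h.1 x, by
      show charDegree (cj K (θ : K → ℂ) x) < _
      rw [hcj]; exact h.2⟩)
    (fun θ h => by
      rw [Finset.mem_filter]
      obtain ⟨h2, h3⟩ := hind θ h.1
      refine ⟨h2, Or.inr ?_⟩
      rw [h3]
      exact (Nat.mul_lt_mul_left hepos).mpr h.2)
  have h2 := hcount θ₀ hm
  calc 2 * e * (e * charDegree (θ₀ : K → ℂ)) = e * (2 * e * charDegree (θ₀ : K → ℂ)) := by ring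
    _ < e * ∑ θ ∈ Finset.univ.filter (fun θ : IrrCharacter K =>
          θ ≠ trivIrr K ∧ charDegree (θ : K → ℂ) < charDegree (θ₀ : K → ℂ)),
          charDegree (θ : K → ℂ) ^ 2 := (Nat.mul_lt_mul_left hepos).mpr h2
    _ ≤ _ := h1

end core

end Cfsg.Agent.Lib.Helper25
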