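import Mathlib
import Cfsg.Agent.Lib.Helper25.Feit2
import Cfsg.Agent.Lib.Helper25.Annih
import Cfsg.Agent.Lib.Helper91.ThompsonFpf2

/-!
# Feit's coherence theorem for Frobenius groups

`feit_coherence`: for a Frobenius group `N` with kernel `H`, the set of irreducible characters
of `N` not trivial on `H` is coherent for any isometry, unless `H` is a non-abelian `p`-group
with a small abelianization (or `|H| = [N:H] + 1`).
-/

set_option autoImplicit false

namespace Cfsg.Agent.Lib.Helper25

open Cfsg Cfsg.Agent.Lib.Helper80 Cfsg.Agent.Lib.Helper26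

/-- A nontrivial finite solvable group has a nontrivial linear character. -/
theorem exists_hom_ne_one {Q : Type*} [Group Q] [Finite Q] [Nontrivial Q]
    [hs : Group.IsSolvable Q] : ∃ f : Q →* ℂˣ, f ≠ 1 := by
  obtain ⟨y, -, hy⟩ := SetLike.exists_of_lt (Group.IsSolvable.commutator_lt_top_of_nontrivial Q)
  have hy' : (Abelianization.of y : Abelianization Q) ≠ 1 :=
    fun h => hy ((QuotientGroup.eq_one_iff y).mp h)
  obtain ⟨φ, hφ⟩ := exists_linChar_ne_one (fun a b : Abelianization Q => mul_comm a b) hy'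
  refine ⟨φ.comp Abelianization.of, fun h => hφ ?_⟩
  have h1 := congrArg (fun g : Q →* ℂˣ => g y) h
  simpa using h1

/-- A finite nilpotent group is the direct product of its Sylow `p`-subgroup and a subgroup of
order prime to `p`. -/
theorem nilpotent_prod_decomp {K : Type*} [Group K] [Finite K] (hnil : Group.IsNilpotent K)
    (p : ℕ) [hp : Fact p.Prime] :
    ∃ (A B : Subgroup K) (_ : ↥A × ↥B ≃* K) (a : ℕ),
      Nat.card A = p ^ a ∧ (Nat.card B).Coprime p := by
  obtain ⟨B, hBn, hBcop, k, hBk⟩ :=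
    Cfsg.Agent.Lib.Helper91.exists_normal_complement_of_nilpotent_aux p _ K rfl hnil
  obtain ⟨P⟩ : Nonempty (Sylow p K) := inferInstance
  haveI hPn : (P : Subgroup K).Normal :=
    P.normal_of_normalizerCondition Group.normalizerCondition_of_isNilpotent
  have hKcard : Nat.card K = Nat.card B * p ^ k := by
    rw [← hBk]
    exact (Subgroup.card_mul_index B).symm
  have hPcard : Nat.card (P : Subgroup K) = p ^ k := by
    rw [Sylow.card_eq_multiplicity, hKcard,
      Nat.factorization_mul Nat.card_pos.ne' (pow_ne_zero _ hp.out.ne_zero)]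
    congr 1
    have h1 : (Nat.card B).factorization p = 0 := by
      apply Nat.factorization_eq_zero_of_not_dvd
      intro h
      have h2 : p ∣ Nat.gcd (Nat.card B) p := Nat.dvd_gcd h (dvd_refl p)
      rw [hBcop] at h2
      exact hp.out.one_lt.ne' (Nat.dvd_one.mp h2)
    simp [h1, hp.out.factorization_pow]
  have hdisj : Disjoint (P : Subgroup K) B := by
    apply Subgroup.disjoint_of_coprime_natCard
    rw [hPcard]
    exact Nat.Coprime.pow_left k (Nat.Coprime.symm hBcop)
  have hcomm : ∀ (x : ↥(P : Subgroup K)) (y : ↥B),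
      Commute ((P : Subgroup K).subtype x) (B.subtype y) :=
    fun x y => Subgroup.commute_of_normal_of_disjoint _ _ hPn hBn hdisj x y x.2 y.2
  let f : ↥(P : Subgroup K) × ↥B →* K :=
    MonoidHom.noncommCoprod (P : Subgroup K).subtype B.subtype hcomm
  have hf : ∀ x : ↥(P : Subgroup K) × ↥B, f x = (x.1 : K) * (x.2 : K) :=
    fun x => MonoidHom.noncommCoprod_apply _ _ hcomm x
  have hinj : Function.Injective f := by
    rw [injective_iff_map_eq_one]
    rintro ⟨x, y⟩ h
    have h1 : (x : K) * (y : K) = 1 := (hf (x, y)).symm.trans h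
    have h2 : (x : K) ∈ B := by
      rw [eq_inv_of_mul_eq_one_left h1]
      exact B.inv_mem y.2
    have h3 : (x : K) = 1 := by
      have h4 : (x : K) ∈ (P : Subgroup K) ⊓ B := ⟨x.2, h2⟩
      rw [hdisj.eq_bot] at h4
      exact h4
    have h4 : (y : K) = 1 := by
      rw [h3, one_mul] at h1
      exact h1
    exact Prod.ext (Subtype.ext h3) (Subtype.ext h4)
  have hbij : Function.Bijective f := by
    apply hinj.bijective_of_nat_card_le
    rw [Nat.card_prod, hPcard, hKcard, mul_comm]
  exact ⟨P, B, MulEquiv.ofBijective f hbij, k, hPcard, hBcop⟩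

section inv

variable {N : Type*} [Group N] [Fintype N] (K : Subgroup N) [hK : K.Normal]

theorem charDegree_cj (θ : K → ℂ) (x : N) : charDegree (cj K θ x) = charDegree θ := by
  unfold charDegree
  rw [cj_apply_one]

theorem cj_irr_ne_triv (θ : IrrCharacter K) (hθ : θ ≠ trivIrr K) (x : N) :
    (⟨cj K (θ : K → ℂ) x, cj_irr K θ.2 x⟩ : IrrCharacter K) ≠ trivIrr K := by
  intro h
  exact cj_ne_one K (triv_coe_ne K hθ) x (congrArg Subtype.val h)

end inv

section prodlin

variable {K : Type*} [Group K] [Fintype K] [Fintype (IrrCharacter K)]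
  {A B : Type*} [Group A] [Fintype A] [Group B] [Fintype B] (φ : A × B ≃* K)

include φ in
open Classical in
/-- In the product situation there are at least `2e` non-principal linear characters. -/
theorem prod_lin_count {p a : ℕ} (hA : Nat.card A = p ^ a)
    (hB : (Nat.card B).Coprime p) (fA : A →* ℂˣ) (hfA : fA ≠ 1) (f : B →* ℂˣ) (hf : f ≠ 1)
    (e : ℕ) (he : 0 < e)
    (h1 : e ∣ (Finset.univ.filter (fun θ : IrrCharacter K =>
      θ ≠ trivIrr K ∧ charDegree (θ : K → ℂ) = 1)).card)
    (h2 : e ∣ (Finset.univ.filter (fun θ : IrrCharacter K =>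
      θ ≠ trivIrr K ∧ charDegree (θ : K → ℂ) = 1 ∧
        ∀ k : K, (∃ j : ℕ, k ^ (p ^ j) = 1) → (θ : K → ℂ) k = 1)).card) :
    2 * e ≤ (Finset.univ.filter (fun θ : IrrCharacter K =>
      θ ≠ trivIrr K ∧ charDegree (θ : K → ℂ) = 1)).card := by
  set U : Finset (IrrCharacter K) := Finset.univ.filter (fun θ : IrrCharacter K =>
      θ ≠ trivIrr K ∧ charDegree (θ : K → ℂ) = 1) with hU
  set W : Finset (IrrCharacter K) := Finset.univ.filter (fun θ : IrrCharacter K =>
      θ ≠ trivIrr K ∧ charDegree (θ : K → ℂ) = 1 ∧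
        ∀ k : K, (∃ j : ℕ, k ^ (p ^ j) = 1) → (θ : K → ℂ) k = 1) with hW
  have hWne : W.Nonempty := by
    obtain ⟨y, hy⟩ : ∃ y, f y ≠ 1 := by
      by_contra hcon
      push Not at hcon
      exact hf (MonoidHom.ext hcon)
    set lf : IrrCharacter B := ⟨fun y => ((f y : ℂˣ) : ℂ), isIrrCharacter_of_hom f⟩ with hlf
    refine ⟨prodIrr φ (trivIrr A) lf, ?_⟩
    rw [hW, Finset.mem_filter]
    refine ⟨Finset.mem_univ _, ?_, ?_, ?_⟩
    · intro h
      have h3 := congrArg (fun θ : IrrCharacter K => (θ : K → ℂ) (φ (1, y))) h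
      simp only [prodIrr_apply, trivIrr_apply, one_mul] at h3
      apply hy
      exact Units.ext h3
    · rw [charDegree_prodIrr, charDegree_trivIrr, one_mul]
      rw [linear_iff]
      simp [hlf]
    · rintro k ⟨j, hj⟩
      rw [prodIrr_apply', trivIrr_apply, one_mul]
      have h3 : (φ.symm k).2 ^ (p ^ j) = 1 := by
        have h4 := congrArg (fun x => (φ.symm x).2) hj
        simpa using h4
      have h5 : (φ.symm k).2 = 1 := by
        rw [← orderOf_eq_one_iff]
        have h6 : orderOf (φ.symm k).2 ∣ p ^ j := orderOf_dvd_of_pow_eq_one h3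
        have h7 : orderOf (φ.symm k).2 ∣ Nat.card B := orderOf_dvd_natCard _
        exact Nat.eq_one_of_dvd_coprimes (Nat.Coprime.pow_right j hB) h7 h6
      rw [h5]
      simp [hlf]
  have hWe : e ≤ W.card := Nat.le_of_dvd (Finset.card_pos.mpr hWne) h2
  have hWU : W ⊆ U := by
    intro θ hθ
    rw [hW, Finset.mem_filter] at hθ
    rw [hU, Finset.mem_filter]
    exact ⟨hθ.1, hθ.2.1, hθ.2.2.1⟩
  obtain ⟨x, hx⟩ : ∃ x, fA x ≠ 1 := by
    by_contra hcon
    push Not at hcon
    exact hfA (MonoidHom.ext hcon)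
  set lA : IrrCharacter A := ⟨fun x => ((fA x : ℂˣ) : ℂ), isIrrCharacter_of_hom fA⟩ with hlA
  have hθ'U : prodIrr φ lA (trivIrr B) ∈ U := by
    rw [hU, Finset.mem_filter]
    refine ⟨Finset.mem_univ _, ?_, ?_⟩
    · intro h
      have h3 := congrArg (fun θ : IrrCharacter K => (θ : K → ℂ) (φ (x, 1))) h
      simp only [prodIrr_apply, trivIrr_apply, mul_one] at h3
      apply hx
      exact Units.ext h3
    · rw [charDegree_prodIrr, charDegree_trivIrr, mul_one]
      rw [linear_iff]
      simp [hlA]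
  have hθ'W : prodIrr φ lA (trivIrr B) ∉ W := by
    intro h
    rw [hW, Finset.mem_filter] at h
    have h3 := h.2.2.2 (φ (x, 1)) (by
      obtain ⟨j, hj⟩ := (IsPGroup.of_card hA) x
      refine ⟨j, ?_⟩
      rw [← map_pow, Prod.pow_mk, hj, one_pow]
      exact map_one φ)
    rw [prodIrr_apply, trivIrr_apply, mul_one] at h3
    apply hx
    exact Units.ext h3
  have hlt : W.card < U.card := Finset.card_lt_card ⟨hWU, fun h => hθ'W (h hθ'U)⟩
  obtain ⟨s, hs⟩ := h1
  have hs2 : 2 ≤ s := by
    by_contra hcon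
    push Not at hcon
    interval_cases s
    · omega
    · omega
  rw [hs]
  calc 2 * e = e * 2 := by ring
    _ ≤ e * s := Nat.mul_le_mul_left _ hs2

end prodlin

end Cfsg.Agent.Lib.Helper25
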