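import Mathlib
import Cfsg.Agent.Lib.Helper25.Feit4

/-!
# Feit's coherence theorem for Frobenius groups: the statement
-/

set_option autoImplicit false

namespace Cfsg.Agent.Lib.Helper25

open Cfsg Cfsg.Agent.Lib.Helper80 Cfsg.Agent.Lib.Helper26

theorem commutator_subgroupOf {N : Type*} [Group N] (H : Subgroup N) :
    commutator H = ⁅H, H⁆.subgroupOf H := by
  unfold commutator
  apply Subgroup.map_injective H.subtype_injective
  rw [Subgroup.map_commutator, Subgroup.subgroupOf_map_subtype, ← MonoidHom.range_eq_map,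
    Subgroup.range_subtype]
  refine (inf_of_le_left ?_).symm
  rw [Subgroup.commutator_le]
  intro g₁ h₁ g₂ h₂
  rw [commutatorElement_def]
  exact H.mul_mem (H.mul_mem (H.mul_mem h₁ h₂) (H.inv_mem h₁)) (H.inv_mem h₂)

/-- **Feit's coherence theorem** for a Frobenius group `N` with kernel `H`. -/
theorem feit_coherence {N : Type*} [Group N] [Fintype N] {G : Type*} [Group G] [Fintype G]
    (H : Subgroup N) [H.Normal] (hH1 : H ≠ ⊥) (hH2 : H ≠ ⊤)
    (hC : ∀ h ∈ H, h ≠ 1 → Subgroup.centralizer ({h} : Set N) ≤ H)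
    (he : Nat.card H ≠ H.index + 1) (τ : (N → ℂ) → (G → ℂ))
    (hτ : IsLinearIsometryOn
      (zspanOn {χ : N → ℂ | IsIrrCharacter N χ ∧ ∃ h ∈ H, χ h ≠ χ 1} {1}ᶜ) τ)
    (hτ1 : ∀ α ∈ zspanOn {χ : N → ℂ | IsIrrCharacter N χ ∧ ∃ h ∈ H, χ h ≠ χ 1} {1}ᶜ,
      τ α 1 = 0) :
    IsCoherent {χ : N → ℂ | IsIrrCharacter N χ ∧ ∃ h ∈ H, χ h ≠ χ 1} {1}ᶜ τ ∨
      ∃ p : ℕ, p.Prime ∧ (∃ m : ℕ, Nat.card H = p ^ m) ∧ ¬ IsMulCommutative H ∧
        (⁅H, H⁆.subgroupOf H).index ≤ 4 * H.index ^ 2 + 1 := by
  classical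
  letI : Fintype (IrrCharacter H) := Fintype.ofFinite _
  set e := H.index with he'
  have hepos : 0 < e := Nat.pos_of_ne_zero Subgroup.index_ne_zero_of_finite
  haveI hnil : Group.IsNilpotent H := frobT_nilpotent H hC hH1 hH2
  have hdvd := frobT_index_dvd H hC
  have hcard1 : 1 < Nat.card H := (Subgroup.one_lt_card_iff_ne_bot H).mpr hH1
  have hcardge : 2 * e + 1 ≤ Nat.card H := by
    obtain ⟨t, ht⟩ := hdvd
    rw [← he'] at ht
    have ht0 : t ≠ 0 := by
      rintro rfl
      omega
    have ht1 : t ≠ 1 := by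
      rintro rfl
      apply he
      omega
    have h2 : 2 ≤ t := by omega
    have h3 : e * 2 ≤ e * t := Nat.mul_le_mul_left _ h2
    omega
  have h1 : ∀ m : ℕ, e ∣ (Finset.univ.filter (fun θ : IrrCharacter H =>
      θ ≠ trivIrr H ∧ charDegree (θ : H → ℂ) = m)).card := by
    intro m
    exact frobT_dvd_card H hC _ m (fun θ h x => ⟨cj_irr_ne_triv H θ h.1 x, by
      show charDegree (cj H (θ : H → ℂ) x) = m
      rw [charDegree_cj]; exact h.2⟩) (fun θ h => h.1) (fun θ h => h.2)
  have h2 : ∀ p : ℕ, e ∣ (Finset.univ.filter (fun θ : IrrCharacter H =>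
      θ ≠ trivIrr H ∧ charDegree (θ : H → ℂ) = 1 ∧
        ∀ k : H, (∃ j : ℕ, k ^ (p ^ j) = 1) → (θ : H → ℂ) k = 1)).card := by
    intro p
    refine frobT_dvd_card H hC _ 1 (fun θ h x => ⟨cj_irr_ne_triv H θ h.1 x, ?_, ?_⟩)
      (fun θ h => h.1) (fun θ h => h.2.1)
    · show charDegree (cj H (θ : H → ℂ) x) = 1
      rw [charDegree_cj]; exact h.2.1
    · rintro k ⟨j, hj⟩
      show cj H (θ : H → ℂ) x k = 1
      unfold cj
      apply h.2.2
      refine ⟨j, ?_⟩
      apply Subtype.ext
      rw [Subgroup.coe_pow]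
      show (x * (k : N) * x⁻¹) ^ (p ^ j) = 1
      rw [conj_pow, ← Subgroup.coe_pow, hj]
      simp
  have hlincard : (Finset.univ.filter (fun θ : IrrCharacter H =>
      θ ≠ trivIrr H ∧ charDegree (θ : H → ℂ) = 1)).card + 1 =
      (Finset.univ.filter (fun θ : IrrCharacter H => charDegree (θ : H → ℂ) = 1)).card := by
    have h3 : Finset.univ.filter (fun θ : IrrCharacter H => charDegree (θ : H → ℂ) = 1) =
        insert (trivIrr H) (Finset.univ.filter (fun θ : IrrCharacter H =>
          θ ≠ trivIrr H ∧ charDegree (θ : H → ℂ) = 1)) := by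
      ext θ
      simp only [Finset.mem_filter, Finset.mem_univ, true_and, Finset.mem_insert]
      constructor
      · intro h
        by_cases hθ : θ = trivIrr H
        · exact Or.inl hθ
        · exact Or.inr ⟨hθ, h⟩
      · rintro (rfl | ⟨-, h⟩)
        · exact charDegree_trivIrr
        · exact h
    rw [h3, Finset.card_insert_of_notMem (by simp)]
  have hlineq : (Finset.univ.filter (fun θ : IrrCharacter H =>
      charDegree (θ : H → ℂ) = 1)).card = (⁅H, H⁆.subgroupOf H).index := by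
    rw [card_linear_eq, commutator_subgroupOf]
  by_cases hpp : ∃ p : ℕ, p.Prime ∧ ∃ m : ℕ, Nat.card H = p ^ m
  · obtain ⟨p, hp, m, hm⟩ := hpp
    by_cases hcomm : IsMulCommutative H
    · left
      have hdeg1 : ∀ θ₀ : IrrCharacter H, charDegree (θ₀ : H → ℂ) = 1 :=
        fun θ₀ => comm_deg_one (fun a b => mul_comm' a b) θ₀
      apply frobT_coherent H hC _ _ τ hτ hτ1
      · have h3 : (Finset.univ.filter (fun θ : IrrCharacter H =>
            charDegree (θ : H → ℂ) = 1)).card = Nat.card H := by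
          rw [← sum_charDegree_sq (G := H), Finset.card_eq_sum_ones]
          rw [Finset.filter_true_of_mem (fun θ _ => hdeg1 θ)]
          refine Finset.sum_congr rfl (fun θ _ => ?_)
          rw [hdeg1 θ]
          norm_num
        omega
      · intro θ₀ h
        exfalso
        have := hdeg1 θ₀
        omega
    · by_cases hsmall : (⁅H, H⁆.subgroupOf H).index ≤ 4 * e ^ 2 + 1
      · right
        exact ⟨p, hp, ⟨m, hm⟩, hcomm, hsmall⟩
      · left
        push Not at hsmall
        have hlin' : 4 * e ^ 2 + 1 < (Finset.univ.filter (fun θ : IrrCharacter H =>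
            charDegree (θ : H → ℂ) = 1)).card := by
          rw [hlineq]
          exact hsmall
        apply frobT_coherent H hC _ _ τ hτ hτ1
        · have h3 : 2 * e ≤ 4 * e ^ 2 := by nlinarith
          omega
        · intro θ₀ h
          exact pgroup_count hp hm e hlin' θ₀ h
  · left
    push Not at hpp
    have hdec : ∀ p : ℕ, p.Prime → p ∣ Nat.card H →
        ∃ (A B : Subgroup H) (_ : ↥A × ↥B ≃* H) (a : ℕ), Nat.card A = p ^ a ∧
          (Nat.card B).Coprime p ∧ (∃ fA : A →* ℂˣ, fA ≠ 1) ∧ (∃ f : B →* ℂˣ, f ≠ 1) := by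
      intro p hp hpd
      haveI : Fact p.Prime := ⟨hp⟩
      obtain ⟨A, B, φ, a, hA, hB⟩ := nilpotent_prod_decomp hnil p
      have hcardH : Nat.card H = Nat.card A * Nat.card B := by
        rw [← Nat.card_prod]
        exact (Nat.card_congr φ.toEquiv).symm
      refine ⟨A, B, φ, a, hA, hB, ?_, ?_⟩
      · have ha : a ≠ 0 := by
          rintro rfl
          rw [hcardH, hA, pow_zero, one_mul] at hpd
          have h3 : p ∣ Nat.gcd (Nat.card B) p := Nat.dvd_gcd hpd (dvd_refl p)
          rw [hB] at h3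
          exact hp.one_lt.ne' (Nat.dvd_one.mp h3)
        haveI : Nontrivial A := by
          rw [← Finite.one_lt_card_iff_nontrivial, hA]
          exact Nat.one_lt_pow ha hp.one_lt
        exact exists_hom_ne_one
      · haveI : Nontrivial B := by
          rw [← Finite.one_lt_card_iff_nontrivial]
          by_contra hcon
          have h3 : Nat.card B = 1 := by
            have : 0 < Nat.card B := Nat.card_pos
            omega
          rw [h3, mul_one, hA] at hcardH
          exact hpp p hp a hcardH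
        exact exists_hom_ne_one
    apply frobT_coherent H hC _ _ τ hτ hτ1
    · obtain ⟨p, hp, hpd⟩ := Nat.exists_prime_and_dvd (ne_of_gt hcard1)
      obtain ⟨A, B, φ, a, hA, hB, ⟨fA, hfA⟩, ⟨f, hf⟩⟩ := hdec p hp hpd
      letI : Fintype A := Fintype.ofFinite _
      letI : Fintype B := Fintype.ofFinite _
      exact prod_lin_count φ hA hB fA hfA f hf e hepos (h1 1) (h2 p)
    · intro θ₀ hθ₀
      obtain ⟨p, hp, hpd⟩ := Nat.exists_prime_and_dvd (ne_of_gt hθ₀)
      have hpH : p ∣ Nat.card H := dvd_trans hpd (charDegree_dvd_card θ₀.2)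
      obtain ⟨A, B, φ, a, hA, hB, -, ⟨f, hf⟩⟩ := hdec p hp hpH
      letI : Fintype A := Fintype.ofFinite _
      letI : Fintype B := Fintype.ofFinite _
      exact prod_count φ hp hA hB f hf e hepos h1 (h2 p) θ₀ hpd

end Cfsg.Agent.Lib.Helper25
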