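import Mathlib
import Cfsg.Prelude.Def_OddOrderChar
import Cfsg.Agent.Lib.Helper25.PF66

/-!
# From the characters not trivial on a central subgroup to all characters

`coherent_of_contains_diff`: in the coherence set-up for `S = {Ind θ}` with `L` of odd order,
if a coherent conjugation-closed subset `T₀` of `S` contains `S ∖ S(Z)` for a nontrivial normal
subgroup `Z ≤ K` of `L` with `[L:K]` dividing `|Z| - 1`, and contains a character of degree
`[L:K]`, then `S` is coherent.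
-/

set_option autoImplicit false

namespace Cfsg.Agent.Lib.Helper25

open Cfsg Cfsg.Agent.Lib.Helper80 Cfsg.Agent.Lib.Helper26

theorem two_mul_add_one_le_of_odd (c e : ℕ) (hc : Odd c) (he : Odd e) (hc2 : 2 ≤ c)
    (hdvd : e ∣ c - 1) : 2 * e + 1 ≤ c := by
  obtain ⟨t, ht⟩ := hdvd
  have ht0 : t ≠ 0 := by
    rintro rfl
    omega
  have hteven : Even t := by
    by_contra hto
    rw [Nat.not_even_iff_odd] at hto
    have h5 : Odd (e * t) := Odd.mul he hto
    rw [← ht] at h5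
    obtain ⟨u, hu⟩ := hc
    obtain ⟨w, hw⟩ := h5
    omega
  obtain ⟨w, hw⟩ := hteven
  have h2t : 2 ≤ t := by omega
  have h6 : e * 2 ≤ e * t := Nat.mul_le_mul_left e h2t
  omega

section

variable {L : Type*} [Group L] [Fintype L] {G : Type*} [Group G] [Fintype G]
  (K : Subgroup L) [hK : K.Normal]

/-- Being nontrivial on a normal subgroup `Z` of `L` is invariant under conjugation. -/
theorem nz_cj (Z : Subgroup L) [hZ : Z.Normal] (θ' : K → ℂ)
    (h1 : ¬ ∀ x ∈ Z.subgroupOf K, θ' x = θ' 1) (x : L) :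
    ¬ ∀ y ∈ Z.subgroupOf K, cj K θ' x y = cj K θ' x 1 := by
  intro h
  apply h1
  intro y hy
  have hyx : x⁻¹ * (y : L) * x ∈ K := by simpa using hK.conj_mem y y.2 x⁻¹
  have hyZ : (⟨x⁻¹ * (y : L) * x, hyx⟩ : K) ∈ Z.subgroupOf K := by
    rw [Subgroup.mem_subgroupOf]
    simpa using hZ.conj_mem _ (Subgroup.mem_subgroupOf.mp hy) x⁻¹
  have h4 := h ⟨x⁻¹ * (y : L) * x, hyx⟩ hyZ
  have h5 : cj K θ' x ⟨x⁻¹ * (y : L) * x, hyx⟩ = θ' y := by
    unfold cj
    refine congrArg θ' (Subtype.ext ?_)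
    show x * (x⁻¹ * (y : L) * x) * x⁻¹ = (y : L)
    group
  have h6 : cj K θ' x 1 = θ' 1 := cj_apply_one K _ x
  exact h5.symm.trans (h4.trans h6)

theorem coherent_of_contains_diff {τ : (L → ℂ) → (G → ℂ)} {R : (L → ℂ) → Finset (G → ℂ)}
    (hS : IsCoherenceSystem (inducedIrrAbove K ⊥) τ R) (hodd : Odd (Nat.card L))
    (Z : Subgroup L) [hZ : Z.Normal] (hZK : Z ≤ K) (hZ1 : Z ≠ ⊥)
    (he : K.index ∣ Nat.card Z - 1)
    (T₀ : Set (L → ℂ)) (hT₀S : T₀ ⊆ inducedIrrAbove K ⊥)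
    (hT₀c : ∀ φ ∈ T₀, conjFun φ ∈ T₀) (hT₀ : IsCoherent T₀ {1}ᶜ τ)
    (hsub : inducedIrrAbove K ⊥ \ inducedIrrAbove K Z ⊆ T₀)
    (χ₁ : L → ℂ) (hχ₁ : χ₁ ∈ T₀) (hχ₁d : χ₁ 1 = (K.index : ℂ)) :
    IsCoherent (inducedIrrAbove K ⊥) {1}ᶜ τ := by
  classical
  haveI : Finite (IrrCharacter K) := irr_finite
  haveI : Fintype (IrrCharacter K) := Fintype.ofFinite _
  set S : Set (L → ℂ) := inducedIrrAbove K ⊥ with hSdef
  have hdn : ∀ φ : L → ℂ, φ ∈ S → ∃ k m : ℕ, φ 1 = (k : ℂ) ∧ Cfsg.classInner φ φ = (m : ℂ) := by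
    intro φ hφ
    have hc := hS.isCharacter φ hφ
    obtain ⟨k, hk⟩ := char_degree hc
    obtain ⟨m, hm⟩ := pair_char_nat hc hc
    exact ⟨k, m, hk, by rw [classInner_eq_pair _ hc]; exact hm⟩
  choose! d n hdn using hdn
  have hd : ∀ φ ∈ S, φ 1 = (d φ : ℂ) := fun φ hφ => (hdn φ hφ).1
  have hn : ∀ φ ∈ S, Cfsg.classInner φ φ = (n φ : ℂ) := fun φ hφ => (hdn φ hφ).2
  have he0 : 0 < K.index := Nat.pos_of_ne_zero (Subgroup.index_ne_zero_of_finite)
  have hdeg : ∀ θ' : ↥K → ℂ, Cfsg.IsIrrCharacter ↥K θ' → Cfsg.indFun K θ' ∈ S →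
      d (Cfsg.indFun K θ') = K.index * Cfsg.charDegree θ' := by
    intro θ' hθ' hmem
    have h1 := hd _ hmem
    rw [indFun_apply_one, char_one_eq_charDegree (isCharacter_of_isIrrCharacter hθ')] at h1
    exact_mod_cast h1.symm
  have hmem := mem_diff_above_iff K Z
  set Z' : Subgroup K := Z.subgroupOf K with hZ'
  haveI hZ'n : Z'.Normal := Subgroup.Normal.subgroupOf hZ K
  have hZ'card : Nat.card Z' = Nat.card Z :=
    Nat.card_congr (Subgroup.subgroupOfEquivOfLe hZK).toEquiv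
  have hZ2 : 2 ≤ Nat.card Z := by
    have h1 := (Subgroup.one_lt_card_iff_ne_bot Z).mpr hZ1
    omega
  have h2e : 2 * K.index + 1 ≤ Nat.card Z :=
    two_mul_add_one_le_of_odd _ _ (Odd.of_dvd_nat hodd (Subgroup.card_subgroup_dvd_card Z))
      (Odd.of_dvd_nat hodd (Subgroup.index_dvd_card K)) hZ2 he
  have hsumNZ : ∑ θ ∈ Finset.univ.filter (fun θ : IrrCharacter K =>
      ¬ ∀ x ∈ Z', (θ : K → ℂ) x = (θ : K → ℂ) 1), Cfsg.charDegree (θ : K → ℂ) ^ 2 + Z'.index =
      Nat.card K := by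
    have h := sum_charDegree_sq (G := K)
    rw [← Finset.sum_filter_add_sum_filter_not Finset.univ
      (fun θ : IrrCharacter K => ∀ x ∈ Z', (θ : K → ℂ) x = (θ : K → ℂ) 1),
      sum_charDegree_sq_filter_ker Z'] at h
    omega
  -- finite sets
  have hfS := above_finite K ⊥
  have hfT₀ : T₀.Finite := hfS.subset hT₀S
  set U : Finset (L → ℂ) := hfS.toFinset with hUdef
  set T₀' : Finset (L → ℂ) := hfT₀.toFinset with hT₀'def
  have hUS : (↑U : Set (L → ℂ)) ⊆ S := fun φ hφ => hfS.mem_toFinset.mp (Finset.mem_coe.mp hφ)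
  have hUc : ∀ φ ∈ U, Cfsg.conjFun φ ∈ U := fun φ hφ =>
    hfS.mem_toFinset.mpr (conj_mem_above K ⊥ (hfS.mem_toFinset.mp hφ))
  have hT₀U : T₀' ⊆ U := fun φ hφ => hfS.mem_toFinset.mpr (hT₀S (hfT₀.mem_toFinset.mp hφ))
  have hT₀'c : ∀ φ ∈ T₀', Cfsg.conjFun φ ∈ T₀' := fun φ hφ =>
    hfT₀.mem_toFinset.mpr (hT₀c φ (hfT₀.mem_toFinset.mp hφ))
  have hT₀coh : Cfsg.IsCoherent (↑T₀' : Set (L → ℂ)) {1}ᶜ τ := by
    rw [hT₀'def, Set.Finite.coe_toFinset]
    exact hT₀
  have hχ₁d' : d χ₁ = K.index := by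
    have h1 := hd χ₁ (hT₀S hχ₁)
    rw [hχ₁d] at h1
    exact_mod_cast h1.symm
  have hUcoh : Cfsg.IsCoherent (↑U : Set (L → ℂ)) {1}ᶜ τ := by
    apply coherent_of_step hS d n hd hn U T₀' hUS hUc hT₀U hT₀'c hT₀coh
    intro T hT₀T hTU hTc hTcoh hTne
    obtain ⟨ψ, hψU, hψT⟩ : ∃ ψ ∈ U, ψ ∉ T := by
      by_contra h
      push Not at h
      exact hTne (Finset.Subset.antisymm hTU h)
    obtain ⟨θ, hθ, hθne, -, hψeq⟩ := hfS.mem_toFinset.mp hψU
    have hψS : Cfsg.indFun K θ ∈ S := hψeq ▸ hUS (Finset.mem_coe.mpr hψU)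
    have hdψ : d ψ = K.index * Cfsg.charDegree θ := by
      rw [hψeq, hdeg θ hθ hψS]
    have hθZ : ∀ x ∈ Z', θ x = θ 1 := by
      by_contra hnz
      apply hψT
      apply hT₀T
      apply hfT₀.mem_toFinset.mpr
      apply hsub
      exact (hmem ψ).mpr ⟨θ, hθ, hnz, hψeq⟩
    refine ⟨ψ, hψU, hψT, χ₁, hT₀T (hfT₀.mem_toFinset.mpr hχ₁), ?_, ?_⟩
    · rw [hχ₁d', hdψ]
      exact dvd_mul_right _ _
    · let P : IrrCharacter K → Prop := fun χ =>
        ¬ ∀ x ∈ Z', (χ : ↥K → ℂ) x = (χ : ↥K → ℂ) 1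
      have hPinv : ∀ θ' : IrrCharacter K, P θ' →
          ∀ x : L, P ⟨cj K (θ' : ↥K → ℂ) x, cj_irr K θ'.2 x⟩ :=
        fun θ' h1 x => nz_cj K Z (θ' : ↥K → ℂ) h1 x
      have hPT : ∀ θ' : IrrCharacter K, P θ' → Cfsg.indFun K (θ' : ↥K → ℂ) ∈ T := by
        intro θ' h1
        apply hT₀T
        apply hfT₀.mem_toFinset.mpr
        apply hsub
        exact (hmem _).mpr ⟨θ', θ'.2, h1, rfl⟩
      have hsum := sum_sq_div_norm_ge K P hPinv T hPT d n
        (fun φ hφ => hd φ (hUS (Finset.mem_coe.mpr (hTU hφ))))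
        (fun φ hφ => hn φ (hUS (Finset.mem_coe.mpr (hTU hφ))))
      -- degree bound for θ
      have hdegθ : Cfsg.charDegree θ ^ 2 + 1 ≤ Z'.index := by
        have h1 := sum_charDegree_sq_filter_ker Z'
        have hθmem : (⟨θ, hθ⟩ : IrrCharacter K) ∈ Finset.univ.filter
            (fun χ : IrrCharacter K => ∀ x ∈ Z', (χ : K → ℂ) x = (χ : K → ℂ) 1) :=
          Finset.mem_filter.mpr ⟨Finset.mem_univ _, hθZ⟩
        have htmem : trivIrr K ∈ Finset.univ.filter
            (fun χ : IrrCharacter K => ∀ x ∈ Z', (χ : K → ℂ) x = (χ : K → ℂ) 1) :=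
          Finset.mem_filter.mpr ⟨Finset.mem_univ _, fun x _ => rfl⟩
        have hne : (⟨θ, hθ⟩ : IrrCharacter K) ≠ trivIrr K := by
          intro h
          apply hθne
          have h2 := congrArg Subtype.val h
          exact h2
        have h3 : ∑ χ ∈ ({⟨θ, hθ⟩, trivIrr K} : Finset (IrrCharacter K)),
            Cfsg.charDegree (χ : K → ℂ) ^ 2 ≤
            ∑ χ ∈ Finset.univ.filter
              (fun χ : IrrCharacter K => ∀ x ∈ Z', (χ : K → ℂ) x = (χ : K → ℂ) 1),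
              Cfsg.charDegree (χ : K → ℂ) ^ 2 := by
          apply Finset.sum_le_sum_of_subset
          intro χ hχ
          rcases Finset.mem_insert.mp hχ with h | h
          · rw [h]; exact hθmem
          · rw [Finset.mem_singleton.mp h]; exact htmem
        rw [Finset.sum_pair hne, charDegree_trivIrr, one_pow, h1] at h3
        exact h3
      have hθpos : 0 < Cfsg.charDegree θ := charDegree_pos hθ
      have hNZ : ∑ θ' ∈ Finset.univ.filter P, Cfsg.charDegree (θ' : ↥K → ℂ) ^ 2 =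
          Z'.index * (Nat.card Z - 1) := by
        have h3 : Nat.card Z' * Z'.index = Nat.card K := Subgroup.card_mul_index Z'
        rw [hZ'card] at h3
        have h4 : ∑ θ' ∈ Finset.univ.filter P, Cfsg.charDegree (θ' : ↥K → ℂ) ^ 2 =
            Nat.card K - Z'.index := Nat.eq_sub_of_add_eq hsumNZ
        rw [h4, ← h3, Nat.mul_sub, mul_one, mul_comm]
      have harith : 2 * (K.index * Cfsg.charDegree θ) * K.index <
          K.index * (Z'.index * (Nat.card Z - 1)) := by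
        have h1 : Cfsg.charDegree θ ≤ Cfsg.charDegree θ ^ 2 := by nlinarith
        have h2 : 2 * K.index ≤ Nat.card Z - 1 := by omega
        have h3 : 2 * K.index * Cfsg.charDegree θ < Z'.index * (Nat.card Z - 1) := by
          calc 2 * K.index * Cfsg.charDegree θ ≤ (Nat.card Z - 1) * Cfsg.charDegree θ :=
                Nat.mul_le_mul_right _ h2
            _ < (Nat.card Z - 1) * Z'.index := by
                apply Nat.mul_lt_mul_of_pos_left _ (by omega)
                omega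
            _ = Z'.index * (Nat.card Z - 1) := mul_comm _ _
        calc 2 * (K.index * Cfsg.charDegree θ) * K.index
            = K.index * (2 * K.index * Cfsg.charDegree θ) := by ring
          _ < K.index * (Z'.index * (Nat.card Z - 1)) := Nat.mul_lt_mul_of_pos_left h3 he0
      rw [hχ₁d', hdψ]
      have hNZ' : ((Z'.index * (Nat.card Z - 1) : ℕ) : ℝ) =
          ∑ θ ∈ Finset.univ.filter P, (Cfsg.charDegree (θ : ↥K → ℂ) : ℝ) ^ 2 := by
        rw [← hNZ]
        push_cast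
        rfl
      calc (2 * ((K.index * Cfsg.charDegree θ : ℕ) : ℝ) * (K.index : ℝ))
          = ((2 * (K.index * Cfsg.charDegree θ) * K.index : ℕ) : ℝ) := by push_cast; ring
        _ < ((K.index * (Z'.index * (Nat.card Z - 1)) : ℕ) : ℝ) := by exact_mod_cast harith
        _ = (K.index : ℝ) * ((Z'.index * (Nat.card Z - 1) : ℕ) : ℝ) := by push_cast; ring
        _ = (K.index : ℝ) *
            ∑ θ ∈ Finset.univ.filter P, (Cfsg.charDegree (θ : ↥K → ℂ) : ℝ) ^ 2 := by rw [hNZ']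
        _ ≤ _ := hsum
  rw [hUdef, Set.Finite.coe_toFinset] at hUcoh
  exact hUcoh

end

end Cfsg.Agent.Lib.Helper25
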