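import Mathlib
import Cfsg.Prelude.Def_Characters
import Cfsg.Agent.Lib.Helper3.CharValues
import Cfsg.Agent.Lib.Helper80.CharKer

/-!
# Rationality of character values fixed by the power maps
-/

set_option autoImplicit false

namespace Cfsg.Agent.Lib.Helper25

open Cfsg.Agent.Lib.Helper3

universe u

variable {G : Type u} [Group G] [Finite G]

/-- The values of a character at the powers of `g` are the power sums of roots of unity of
order dividing the order of `g`. -/
theorem exists_char_pow_sum {χ : G → ℂ} (hχ : Cfsg.IsCharacter G χ) (g : G) :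
    ∃ (ι : Type) (_ : Fintype ι) (d : ι → ℂ), (∀ i, d i ^ orderOf g = 1) ∧
      ∀ k : ℕ, χ (g ^ k) = ∑ i, d i ^ k := by
  obtain ⟨n, ρ, hρ⟩ := hχ
  obtain ⟨ι, hι, b, d, hd, -, hb, -⟩ := exists_eigen_data ρ g
  refine ⟨ι, hι, d, hd, ?_⟩
  have hpow : ∀ (k : ℕ) (i : ι), ρ (g ^ k) (b i) = (d i ^ k) • b i := by
    intro k i
    rw [map_pow]
    induction k with
    | zero => simp
    | succ j ih =>
      rw [pow_succ, Module.End.mul_apply, hb i, map_smul, ih, smul_smul, pow_succ, mul_comm]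
  intro k
  rw [← hρ, Representation.character, trace_eq_sum_of_eigenbasis b _ _ (hpow k)]

/-- A field automorphism raising the roots of unity of order dividing the order of `g` to the
`k`-th power sends `χ g` to `χ (g ^ k)`. -/
theorem char_galois_pow_of_orderOf {χ : G → ℂ} (hχ : Cfsg.IsCharacter G χ) (g : G)
    (σ : ℂ ≃+* ℂ) (k : ℕ) (hσ : ∀ ζ : ℂ, ζ ^ orderOf g = 1 → σ ζ = ζ ^ k) :
    σ (χ g) = χ (g ^ k) := by
  obtain ⟨ι, hι, d, hd, hval⟩ := exists_char_pow_sum hχ g
  have h1 := hval 1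
  rw [pow_one] at h1
  rw [h1, hval k, map_sum]
  refine Finset.sum_congr rfl (fun i _ => ?_)
  rw [pow_one]
  exact hσ _ (hd i)

/-- A character value unchanged by all power maps prime to the order of the element is
rational. -/
theorem char_rat_of_pow_invariant {χ : G → ℂ} (hχ : Cfsg.IsCharacter G χ) (g : G)
    (h : ∀ m : ℕ, m.Coprime (orderOf g) → χ (g ^ m) = χ g) : ∃ q : ℚ, χ g = (q : ℂ) := by
  classical
  obtain ⟨ι, hι, d, hd, hval⟩ := exists_char_pow_sum hχ g
  set N := orderOf g with hN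
  have hNpos : 0 < N := orderOf_pos g
  have : NeZero N := ⟨hNpos.ne'⟩
  let K := CyclotomicField N ℚ
  have hcyc : IsCyclotomicExtension {N} ℚ K := CyclotomicField.isCyclotomicExtension N ℚ
  have hgal : IsGalois ℚ K := IsCyclotomicExtension.isGalois {N} ℚ K
  have hfd : FiniteDimensional ℚ K := IsCyclotomicExtension.finiteDimensional {N} ℚ K
  let φ : K →ₐ[ℚ] ℂ := IsAlgClosed.lift
  have hz : IsPrimitiveRoot (IsCyclotomicExtension.zeta N ℚ K) N :=
    IsCyclotomicExtension.zeta_spec N ℚ K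
  set ζ := IsCyclotomicExtension.zeta N ℚ K with hζ
  have hω : IsPrimitiveRoot (φ ζ) N := hz.map_of_injective φ.injective
  have hex : ∀ i, ∃ a : ℕ, φ ζ ^ a = d i := by
    intro i
    obtain ⟨a, -, ha⟩ := hω.eq_pow_of_pow_eq_one (hd i)
    exact ⟨a, ha⟩
  choose a ha using hex
  let x : K := ∑ i, ζ ^ a i
  have hx : ∀ k : ℕ, φ (∑ i, ζ ^ (a i * k)) = χ (g ^ k) := by
    intro k
    rw [hval k, map_sum]
    refine Finset.sum_congr rfl (fun i _ => ?_)
    rw [map_pow, pow_mul, ha]
  have hx1 : φ x = χ g := by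
    have h1 := hx 1
    simpa [x] using h1
  have hfix : ∀ f : K ≃ₐ[ℚ] K, f x = x := by
    intro f
    have hfz : IsPrimitiveRoot (f ζ) N := hz.map_of_injective f.injective
    obtain ⟨m, -, hm⟩ := hz.eq_pow_of_pow_eq_one hfz.pow_eq_one
    have hcop : m.Coprime N := by
      rw [← hm] at hfz
      exact (hz.pow_iff_coprime hNpos m).mp hfz
    apply φ.injective
    show φ (f x) = φ x
    have h2 : f x = ∑ i, ζ ^ (a i * m) := by
      simp only [x, map_sum, map_pow]
      refine Finset.sum_congr rfl (fun i _ => ?_)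
      rw [← hm, ← pow_mul, mul_comm]
    rw [h2, hx m, hx1]
    exact h m hcop
  obtain ⟨q, hq⟩ := (IsGalois.mem_range_algebraMap_iff_fixed x).mpr hfix
  refine ⟨q, ?_⟩
  rw [← hx1, ← hq]
  simp

/-- A character value unchanged by all power maps prime to the order of the element is a
rational integer. -/
theorem char_int_of_pow_invariant {χ : G → ℂ} (hχ : Cfsg.IsCharacter G χ) (g : G)
    (h : ∀ m : ℕ, m.Coprime (orderOf g) → χ (g ^ m) = χ g) : ∃ z : ℤ, χ g = (z : ℂ) := by
  obtain ⟨q, hq⟩ := char_rat_of_pow_invariant hχ g h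
  have hint : IsIntegral ℤ (χ g) := Cfsg.Agent.Lib.Helper80.isIntegral_char_val hχ g
  rw [hq] at hint
  have hint' : IsIntegral ℤ q := by
    have h1 : IsIntegral ℤ (algebraMap ℚ ℂ q) := by
      simpa using hint
    exact (isIntegral_algebraMap_iff (algebraMap ℚ ℂ).injective).mp h1
  obtain ⟨z, hz⟩ := IsIntegrallyClosed.isIntegral_iff.mp hint'
  refine ⟨z, ?_⟩
  rw [hq, ← hz]
  simp

end Cfsg.Agent.Lib.Helper25
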