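import Mathlib
import Cfsg.Agent.Lib.Helper4.Sib8
import Cfsg.Agent.Lib.Helper25.Feit5
import Cfsg.Agent.Lib.Helper80.ItoConverse

/-!
# The Feit-Sibley coherence theorem for a nilpotent TI subgroup with Frobenius normaliser
-/

set_option autoImplicit false

namespace Cfsg.Agent.Lib.Helper25

open Cfsg Cfsg.Agent.Lib.Helper26 Cfsg.Agent.Lib.Helper4.Sib

section fs

variable {G : Type*} [Group G] [Fintype G] (K : Subgroup G)
  [Fintype (Subgroup.normalizer (K : Set G))]

omit [Fintype G] [Fintype (Subgroup.normalizer (K : Set G))] in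
theorem sub_hC (hC : ∀ k ∈ K, k ≠ 1 → Subgroup.centralizer ({k} : Set G) ≤ K) :
    ∀ k ∈ K.subgroupOf (Subgroup.normalizer (K : Set G)), k ≠ 1 →
      Subgroup.centralizer ({k} : Set ↥(Subgroup.normalizer (K : Set G))) ≤
        K.subgroupOf (Subgroup.normalizer (K : Set G)) := by
  intro k hk hk1 c hc
  rw [Subgroup.mem_subgroupOf] at hk ⊢
  apply hC (k : G) hk (fun h => hk1 (Subtype.ext h))
  rw [Subgroup.mem_centralizer_iff] at hc ⊢
  intro y hy
  rw [Set.mem_singleton_iff] at hy
  rw [hy]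
  exact congrArg Subtype.val (hc k (Set.mem_singleton k))

/-- The abelian case: either there is a single character and `K` is elementary abelian of order
`[N:K] + 1`, or the characters are coherent. -/
theorem tifn_abelian (hK1 : K ≠ ⊥) (hTI : IsTISubset (K : Set G))
    (hlt : K < Subgroup.normalizer (K : Set G))
    (hC : ∀ k ∈ K, k ≠ 1 → Subgroup.centralizer ({k} : Set G) ≤ K)
    (hab : ∀ a ∈ K, ∀ b ∈ K, a * b = b * a) :
    (Nat.card {χ : ↥(Subgroup.normalizer (K : Set G)) → ℂ //
        IsIrrCharacter ↥(Subgroup.normalizer (K : Set G)) χ ∧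
        ∃ x : ↥(Subgroup.normalizer (K : Set G)), (x : G) ∈ K ∧ χ x ≠ χ 1} = 1 ∧
      Nat.card K = (K.subgroupOf (Subgroup.normalizer (K : Set G))).index + 1 ∧
      ∃ p : ℕ, p.Prime ∧ IsElementaryAbelian p K) ∨
    IsCoherent {χ : ↥(Subgroup.normalizer (K : Set G)) → ℂ |
        IsIrrCharacter ↥(Subgroup.normalizer (K : Set G)) χ ∧
        ∃ x : ↥(Subgroup.normalizer (K : Set G)), (x : G) ∈ K ∧ χ x ≠ χ 1} {1}ᶜ
      (fun α => indFun (Subgroup.normalizer (K : Set G)) α) := by
  classical
  have hHL : K ≤ Subgroup.normalizer (K : Set G) := Subgroup.le_normalizer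
  obtain ⟨W, hWL, hW1, hinf, hsup, hfpf⟩ := sector_complement K hlt
    (fun h hh hh1 => inf_le_right.trans (hC h hh hh1))
  haveI hKn : (K.subgroupOf (Subgroup.normalizer (K : Set G))).Normal :=
    Subgroup.normal_in_normalizer
  have hirrInd : ∀ θ : K.subgroupOf (Subgroup.normalizer (K : Set G)) → ℂ,
      IsIrrCharacter (K.subgroupOf (Subgroup.normalizer (K : Set G))) θ → θ ≠ (fun _ => 1) →
      IsIrrCharacter (Subgroup.normalizer (K : Set G))
        (indFun (K.subgroupOf (Subgroup.normalizer (K : Set G))) θ) :=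
    fun θ hθ hθ1 => frob_induced_irr K _ W hHL hWL hinf hsup hfpf hθ hθ1
  have hset := tifn_set_eq_bot K (Subgroup.normalizer (K : Set G)) hirrInd
  have hKH : K.subgroupOf (Subgroup.normalizer (K : Set G)) ≃* K :=
    Subgroup.subgroupOfEquivOfLe hHL
  have hKcard : Nat.card (K.subgroupOf (Subgroup.normalizer (K : Set G))) = Nat.card K :=
    Nat.card_congr hKH.toEquiv
  set F : Finset (↥(Subgroup.normalizer (K : Set G)) → ℂ) :=
    irrKer (⊥ : Subgroup ↥(Subgroup.normalizer (K : Set G))) \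
      irrKer (K.subgroupOf (Subgroup.normalizer (K : Set G))) with hFdef
  have hFS : (↑F : Set (↥(Subgroup.normalizer (K : Set G)) → ℂ)) =
      {χ : ↥(Subgroup.normalizer (K : Set G)) → ℂ |
        IsIrrCharacter ↥(Subgroup.normalizer (K : Set G)) χ ∧
        ∃ x : ↥(Subgroup.normalizer (K : Set G)), (x : G) ∈ K ∧ χ x ≠ χ 1} := by
    ext a
    rw [Finset.mem_coe, hFdef, Finset.mem_sdiff, mem_irrKer, mem_irrKer]
    constructor
    · rintro ⟨⟨h1, -⟩, h3⟩
      refine ⟨h1, ?_⟩
      by_contra hcon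
      push Not at hcon
      exact h3 ⟨h1, fun x hx => hcon x (Subgroup.mem_subgroupOf.mp hx)⟩
    · rintro ⟨h1, z, hz, hne⟩
      exact ⟨⟨h1, fun x hx => by rw [Subgroup.mem_bot.mp hx]⟩,
        fun h => hne (h.2 z (Subgroup.mem_subgroupOf.mpr hz))⟩
  have hFabove : ∀ a ∈ F, ∃ θ : K.subgroupOf (Subgroup.normalizer (K : Set G)) → ℂ,
      IsIrrCharacter (K.subgroupOf (Subgroup.normalizer (K : Set G))) θ ∧
      a = indFun (K.subgroupOf (Subgroup.normalizer (K : Set G))) θ := by
    intro a ha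
    have h1 : a ∈ (↑F : Set (↥(Subgroup.normalizer (K : Set G)) → ℂ)) := Finset.mem_coe.mpr ha
    rw [hFS, hset] at h1
    obtain ⟨θ, hθ, -, -, rfl⟩ := h1
    exact ⟨θ, hθ, rfl⟩
  have hirrF : ∀ a ∈ F, IsIrrCharacter ↥(Subgroup.normalizer (K : Set G)) a := by
    intro a ha
    rw [hFdef, Finset.mem_sdiff, mem_irrKer] at ha
    exact ha.1.1
  have hdeg : ∀ a ∈ F,
      a 1 = ((K.subgroupOf (Subgroup.normalizer (K : Set G))).index : ℂ) := by
    intro a ha
    obtain ⟨θ, hθ, rfl⟩ := hFabove a ha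
    rw [indFun_apply_one]
    have h1 : θ 1 = 1 := by
      apply Cfsg.Agent.Lib.Helper82.irr_one_eq_one_of_comm _ hθ
      intro x y
      exact Subtype.ext (Subtype.ext (hab _ (Subgroup.mem_subgroupOf.mp x.2) _
        (Subgroup.mem_subgroupOf.mp y.2)))
    rw [h1, mul_one]
  have hvan : ∀ a ∈ F, ∀ x : ↥(Subgroup.normalizer (K : Set G)),
      (x : G) ∉ (K : Set G) → a x = 0 := by
    intro a ha x hx
    obtain ⟨θ, hθ, rfl⟩ := hFabove a ha
    apply indFun_apply_of_notMem
    intro h
    exact hx (Subgroup.mem_subgroupOf.mp h)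
  have hcount := tifn_abelian_count (K.subgroupOf (Subgroup.normalizer (K : Set G))) hdeg
  rw [← hFdef, hKcard] at hcount
  by_cases h2 : 2 ≤ F.card
  · right
    rw [← hFS]
    exact coherent_of_exceptional (K : Set G) hHL hTI F h2 hirrF hvan
      (fun a ha b hb => by rw [hdeg a ha, hdeg b hb])
  · left
    have hH2 : 1 < Nat.card K := (Subgroup.one_lt_card_iff_ne_bot K).mpr hK1
    have hF1 : F.card = 1 := by
      have h0 : F.card ≠ 0 := by
        intro h0
        rw [h0, zero_mul] at hcount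
        omega
      omega
    rw [hF1, one_mul] at hcount
    have hcardH : Nat.card K =
        (K.subgroupOf (Subgroup.normalizer (K : Set G))).index + 1 := by omega
    obtain ⟨p, hp, hpd⟩ := Nat.exists_prime_and_dvd (ne_of_gt hH2)
    haveI : Fact p.Prime := ⟨hp⟩
    refine ⟨?_, hcardH, p, hp, ⟨⟨fun a b => Subtype.ext (hab _ a.2 _ b.2)⟩⟩, ?_⟩
    · have h3 : Nat.card {χ : ↥(Subgroup.normalizer (K : Set G)) → ℂ //
          IsIrrCharacter ↥(Subgroup.normalizer (K : Set G)) χ ∧
          ∃ x : ↥(Subgroup.normalizer (K : Set G)), (x : G) ∈ K ∧ χ x ≠ χ 1} =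
          Nat.card ↥(↑F : Set (↥(Subgroup.normalizer (K : Set G)) → ℂ)) := by
        rw [hFS]
        rfl
      rw [h3, Nat.card_coe_set_eq, Set.ncard_coe_finset, hF1]
    · exact tifn_elementary K p hpd hab hC hcardH

end fs

theorem index_commutator_congr {A B : Type*} [Group A] [Group B] (f : A ≃* B) :
    (commutator A).index = (commutator B).index := by
  rw [Subgroup.index_eq_card, Subgroup.index_eq_card]
  exact Nat.card_congr (MulEquiv.abelianizationCongr f).toEquiv

section fs2

open Cfsg.Agent.Lib.Helper80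

variable {G : Type*} [Group G] [Fintype G] (K : Subgroup G)
  [Fintype (Subgroup.normalizer (K : Set G))]

omit [Fintype (Subgroup.normalizer (K : Set G))] in
/-- A `2`-subgroup with self-centralising non-identity elements is a Sylow `2`-subgroup. -/
theorem sylow_of_two_group_hC (hK1 : K ≠ ⊥)
    (hC : ∀ k ∈ K, k ≠ 1 → Subgroup.centralizer ({k} : Set G) ≤ K) {m : ℕ}
    (hm : Nat.card K = 2 ^ m) : Nat.card K = 2 ^ (Nat.card G).factorization 2 := by
  haveI : Fact (Nat.Prime 2) := ⟨Nat.prime_two⟩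
  obtain ⟨T, hT⟩ := (IsPGroup.of_card hm).exists_le_sylow
  obtain ⟨k₀, hk₀1⟩ := (Subgroup.ne_bot_iff_exists_ne_one).mp hK1
  haveI : Nontrivial (T : Subgroup G) :=
    ⟨⟨⟨(k₀ : G), hT k₀.2⟩, 1, fun h => hk₀1 (Subtype.ext
      (show (k₀ : G) = 1 from congrArg (fun x : (T : Subgroup G) => (x : G)) h))⟩⟩
  haveI := IsPGroup.center_nontrivial T.2
  obtain ⟨z, hz1⟩ := exists_ne (1 : Subgroup.center (T : Subgroup G))
  have hzc : ∀ t ∈ (T : Subgroup G), t * ((z : (T : Subgroup G)) : G) =
      ((z : (T : Subgroup G)) : G) * t := by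
    intro t ht
    have h1 := Subgroup.mem_center_iff.mp z.2 ⟨t, ht⟩
    exact congrArg Subtype.val h1
  have hzK : ((z : (T : Subgroup G)) : G) ∈ K := by
    apply hC (k₀ : G) k₀.2 (fun h => hk₀1 (Subtype.ext h))
    rw [Subgroup.mem_centralizer_iff]
    intro y hy
    rw [Set.mem_singleton_iff] at hy
    rw [hy]
    exact hzc _ (hT k₀.2)
  have hz1' : ((z : (T : Subgroup G)) : G) ≠ 1 := by
    intro h
    apply hz1
    exact Subtype.ext (Subtype.ext h)
  have hTK : (T : Subgroup G) ≤ K := by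
    intro t ht
    apply hC _ hzK hz1'
    rw [Subgroup.mem_centralizer_iff]
    intro y hy
    rw [Set.mem_singleton_iff] at hy
    rw [hy]
    exact (hzc t ht).symm
  have hKT : K = (T : Subgroup G) := le_antisymm hT hTK
  rw [hKT]
  exact Sylow.card_eq_multiplicity T

/-- The **Feit-Sibley theorem**. -/
theorem feit_sibley (hK1 : K ≠ ⊥) (hTI : IsTISubset (K : Set G))
    (hlt : K < Subgroup.normalizer (K : Set G))
    (hC : ∀ k ∈ K, k ≠ 1 → Subgroup.centralizer ({k} : Set G) ≤ K) :
    (Nat.card {χ : ↥(Subgroup.normalizer (K : Set G)) → ℂ //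
        IsIrrCharacter ↥(Subgroup.normalizer (K : Set G)) χ ∧
        ∃ k : ↥(Subgroup.normalizer (K : Set G)), (k : G) ∈ K ∧ χ k ≠ χ 1} = 1 ∧
      Nat.card K = (K.subgroupOf (Subgroup.normalizer (K : Set G))).index + 1 ∧
      ∃ p : ℕ, p.Prime ∧ IsElementaryAbelian p K) ∨
    (Nat.card K = 2 ^ (Nat.card G).factorization 2 ∧
      (⁅K, K⁆.subgroupOf K).index <
        4 * (K.subgroupOf (Subgroup.normalizer (K : Set G))).index ^ 2) ∨
    IsCoherent {χ : ↥(Subgroup.normalizer (K : Set G)) → ℂ |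
        IsIrrCharacter ↥(Subgroup.normalizer (K : Set G)) χ ∧
        ∃ k : ↥(Subgroup.normalizer (K : Set G)), (k : G) ∈ K ∧ χ k ≠ χ 1} {1}ᶜ
      (fun α => indFun (Subgroup.normalizer (K : Set G)) α) := by
  classical
  by_cases hab : ∀ a ∈ K, ∀ b ∈ K, a * b = b * a
  · rcases tifn_abelian K hK1 hTI hlt hC hab with h | h
    · exact Or.inl h
    · exact Or.inr (Or.inr h)
  have hHL : K ≤ Subgroup.normalizer (K : Set G) := Subgroup.le_normalizer
  haveI hKn : (K.subgroupOf (Subgroup.normalizer (K : Set G))).Normal :=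
    Subgroup.normal_in_normalizer
  set K' : Subgroup ↥(Subgroup.normalizer (K : Set G)) :=
    K.subgroupOf (Subgroup.normalizer (K : Set G)) with hK'
  have hC' := sub_hC K hC
  have hKK' : K' ≃* K := Subgroup.subgroupOfEquivOfLe hHL
  have hcardK' : Nat.card K' = Nat.card K := Nat.card_congr hKK'.toEquiv
  have hK'1 : K' ≠ ⊥ := by
    have h1 : 1 < Nat.card K := (Subgroup.one_lt_card_iff_ne_bot K).mpr hK1
    rw [← hcardK'] at h1
    exact (Subgroup.one_lt_card_iff_ne_bot K').mp h1
  have hK'2 : K' ≠ ⊤ := by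
    intro h
    apply not_le_of_gt hlt
    intro x hx
    have h2 : (⟨x, hx⟩ : Subgroup.normalizer (K : Set G)) ∈ K' := by
      rw [h]
      trivial
    exact Subgroup.mem_subgroupOf.mp h2
  have hnab' : ¬ IsMulCommutative K' := by
    intro h
    apply hab
    intro a ha b hb
    have h1 := mul_comm' (⟨⟨a, hHL ha⟩, Subgroup.mem_subgroupOf.mpr ha⟩ : K')
      ⟨⟨b, hHL hb⟩, Subgroup.mem_subgroupOf.mpr hb⟩
    exact congrArg (fun x : K' => ((x : Subgroup.normalizer (K : Set G)) : G)) h1
  letI : Fintype (IrrCharacter K') := Fintype.ofFinite _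
  have hepos : 0 < K'.index := Nat.pos_of_ne_zero Subgroup.index_ne_zero_of_finite
  have he : Nat.card K' ≠ K'.index + 1 := by
    intro hcard
    apply hnab'
    apply isMulCommutative_of_forall_charDegree_eq_one
    intro θ₀
    by_contra hne
    have hm2 : 2 ≤ charDegree (θ₀ : K' → ℂ) := by
      have := charDegree_pos θ₀.2
      omega
    have h1 := frobT_dvd_card K' hC' (fun θ : IrrCharacter K' =>
        θ ≠ trivIrr K' ∧ charDegree (θ : K' → ℂ) = charDegree (θ₀ : K' → ℂ))
      (charDegree (θ₀ : K' → ℂ))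
      (fun θ h x => ⟨cj_irr_ne_triv K' θ h.1 x, by
        show charDegree (cj K' (θ : K' → ℂ) x) = _
        rw [charDegree_cj]; exact h.2⟩) (fun θ h => h.1) (fun θ h => h.2)
    set U := Finset.univ.filter (fun θ : IrrCharacter K' =>
        θ ≠ trivIrr K' ∧ charDegree (θ : K' → ℂ) = charDegree (θ₀ : K' → ℂ)) with hU
    have hθ₀U : θ₀ ∈ U := by
      rw [hU, Finset.mem_filter]
      refine ⟨Finset.mem_univ _, ?_, rfl⟩
      intro h
      rw [h, charDegree_trivIrr] at hne
      exact hne rfl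
    have hUe : K'.index ≤ U.card := Nat.le_of_dvd (Finset.card_pos.mpr ⟨_, hθ₀U⟩) h1
    have htot := sum_charDegree_sq (G := K')
    have htriv : trivIrr K' ∉ U := by
      rw [hU, Finset.mem_filter]
      exact fun h => h.2.1 rfl
    have h3 : ∑ θ ∈ insert (trivIrr K') U, charDegree (θ : K' → ℂ) ^ 2 ≤
        ∑ θ : IrrCharacter K', charDegree (θ : K' → ℂ) ^ 2 :=
      Finset.sum_le_sum_of_subset (Finset.subset_univ _)
    rw [Finset.sum_insert htriv, charDegree_trivIrr, htot, hcard] at h3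
    have h4 : ∑ θ ∈ U, charDegree (θ : K' → ℂ) ^ 2 =
        U.card * charDegree (θ₀ : K' → ℂ) ^ 2 := by
      rw [Finset.card_eq_sum_ones, Finset.sum_mul]
      refine Finset.sum_congr rfl (fun θ hθ => ?_)
      rw [(Finset.mem_filter.mp hθ).2.2, one_mul]
    rw [h4] at h3
    have h5 : K'.index * 4 ≤ U.card * charDegree (θ₀ : K' → ℂ) ^ 2 :=
      Nat.mul_le_mul hUe (by nlinarith)
    omega
  obtain ⟨W, hWL, hW1, hinf, hsup, hfpf⟩ := sector_complement K hlt
    (fun h hh hh1 => inf_le_right.trans (hC h hh hh1))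
  have hirrInd : ∀ θ : K' → ℂ, IsIrrCharacter K' θ → θ ≠ (fun _ => 1) →
      IsIrrCharacter (Subgroup.normalizer (K : Set G)) (indFun K' θ) :=
    fun θ hθ hθ1 => frob_induced_irr K _ W hHL hWL hinf hsup hfpf hθ hθ1
  have hset := tifn_set_eq_bot K (Subgroup.normalizer (K : Set G)) hirrInd
  have hiso := frob_isometry K (Subgroup.normalizer (K : Set G)) hTI rfl
  rw [← hset] at hiso
  rcases feit_coherence K' hK'1 hK'2 hC' he
    (fun α => indFun (Subgroup.normalizer (K : Set G)) α) hiso.1 hiso.2 with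
    h | ⟨p, hp, ⟨m, hm⟩, hnc, hsmall⟩
  · exact Or.inr (Or.inr h)
  · rw [hcardK'] at hm
    by_cases hp2 : p = 2
    · subst hp2
      right
      left
      refine ⟨sylow_of_two_group_hC K hK1 hC hm, ?_⟩
      have hidx : (⁅K, K⁆.subgroupOf K).index = (⁅K', K'⁆.subgroupOf K').index := by
        rw [← commutator_subgroupOf, ← commutator_subgroupOf]
        exact (index_commutator_congr hKK').symm
      rw [hidx]
      have hcdvd : (⁅K', K'⁆.subgroupOf K').index ∣ 2 ^ m := by
        rw [← hm, ← hcardK']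
        exact Subgroup.index_dvd_card _
      obtain ⟨j, -, hj⟩ := (Nat.dvd_prime_pow Nat.prime_two).mp hcdvd
      have hcop : (Nat.card K').Coprime K'.index := frobT_coprime K' hC'
      rw [hcardK', hm] at hcop
      have hm0 : m ≠ 0 := by
        rintro rfl
        rw [pow_zero] at hm
        have := (Subgroup.one_lt_card_iff_ne_bot K).mpr hK1
        omega
      have he2 : Nat.Coprime 2 K'.index :=
        Nat.Coprime.coprime_dvd_left (dvd_pow_self 2 hm0) hcop
      have heodd : K'.index % 2 = 1 := by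
        rcases Nat.even_or_odd K'.index with h | h
        · exfalso
          have h3 : 2 ∣ Nat.gcd 2 K'.index := Nat.dvd_gcd (dvd_refl 2) h.two_dvd
          rw [he2] at h3
          omega
        · exact Nat.odd_iff.mp h
      have he1 : K'.index ≠ 1 := fun h => hK'2 (Subgroup.index_eq_one.mp h)
      by_contra hge
      push Not at hge
      rcases Nat.eq_or_lt_of_le hge with h | h
      · have hed : K'.index ∣ 2 ^ j := by
          rw [← hj, ← h]
          exact Dvd.intro_left (4 * K'.index) (by ring)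
        obtain ⟨i, -, hi⟩ := (Nat.dvd_prime_pow Nat.prime_two).mp hed
        rcases Nat.eq_zero_or_pos i with h0 | h0
        · rw [h0, pow_zero] at hi
          exact he1 hi
        · have h3 : 2 ∣ K'.index := by
            rw [hi]
            exact dvd_pow_self 2 (by omega)
          omega
      · have hc' : (⁅K', K'⁆.subgroupOf K').index = 4 * K'.index ^ 2 + 1 := by omega
        rcases Nat.eq_zero_or_pos j with h0 | h0
        · rw [h0, pow_zero] at hj
          nlinarith
        · have h3 : 2 ∣ (⁅K', K'⁆.subgroupOf K').index := by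
            rw [hj]
            exact dvd_pow_self 2 (by omega)
          omega
    · rcases tifn_sibley K p m hp hp2 hm hK1 hTI hlt hC with ⟨-, ⟨hab', -⟩, -⟩ | h
      · exact absurd hab' hab
      · exact Or.inr (Or.inr h)

end fs2

end Cfsg.Agent.Lib.Helper25
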