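import Mathlib
import Cfsg.Prelude.Def_Characters
import Cfsg.Agent.Lib.Helper80.Orthogonality
import Cfsg.Agent.Lib.Helper80.CharKer
import Cfsg.Agent.Lib.Helper75.GaloisChar

/-!
# Irreducible characters up to sign
-/

set_option autoImplicit false

namespace Cfsg.Agent.Lib.Helper25

open Cfsg.Agent.Lib.Helper80

open scoped ComplexConjugate

universe u

variable {G : Type u} [Group G] [Fintype G]

/-- An irreducible character up to sign. -/
def IsSignedIrr (f : G → ℂ) : Prop := Cfsg.IsIrrCharacter G f ∨ Cfsg.IsIrrCharacter G (-f)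

omit [Fintype G] in
theorem IsSignedIrr.exists_eq {f : G → ℂ} (hf : IsSignedIrr f) :
    ∃ (θ : G → ℂ) (ε : ℂ), Cfsg.IsIrrCharacter G θ ∧ (ε = 1 ∨ ε = -1) ∧ f = ε • θ := by
  rcases hf with h | h
  · exact ⟨f, 1, h, Or.inl rfl, (one_smul _ _).symm⟩
  · exact ⟨-f, -1, h, Or.inr rfl, by simp⟩

/-- The inner product of two signed irreducible characters. -/
theorem classInner_signedIrr {f h : G → ℂ} (hf : IsSignedIrr f) (hh : IsSignedIrr h) :
    (Cfsg.classInner f h = 0) ∨ (Cfsg.classInner f h = 1 ∧ f = h) ∨
      (Cfsg.classInner f h = -1 ∧ f = -h) := by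
  obtain ⟨θ, ε, hθ, hε, rfl⟩ := hf.exists_eq
  obtain ⟨θ', ε', hθ', hε', rfl⟩ := hh.exists_eq
  rw [classInner_smul_left, classInner_smul_right, classInner_irr_fun hθ hθ']
  by_cases e : θ = θ'
  · subst e
    rw [if_pos rfl]
    rcases hε with rfl | rfl <;> rcases hε' with rfl | rfl
    · right; left; simp
    · right; right; simp
    · right; right; simp
    · right; left; simp
  · rw [if_neg e]
    left
    simp

theorem classInner_self_signedIrr {f : G → ℂ} (hf : IsSignedIrr f) : Cfsg.classInner f f = 1 := by
  obtain ⟨θ, ε, hθ, hε, rfl⟩ := hf.exists_eq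
  rw [classInner_smul_left, classInner_smul_right, classInner_irr_fun hθ hθ, if_pos rfl]
  rcases hε with rfl | rfl <;> simp

theorem classInner_neg_left (f h : G → ℂ) : Cfsg.classInner (-f) h = -Cfsg.classInner f h := by
  have e : -f = (-1 : ℂ) • f := by simp
  rw [e, classInner_smul_left]
  ring

theorem classInner_sub_right (f h₁ h₂ : G → ℂ) :
    Cfsg.classInner f (h₁ - h₂) = Cfsg.classInner f h₁ - Cfsg.classInner f h₂ := by
  have e : h₁ - h₂ = h₁ + (-1 : ℂ) • h₂ := by
    funext g
    simp only [Pi.sub_apply, Pi.add_apply, Pi.smul_apply, smul_eq_mul]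
    ring
  rw [e, classInner_add_right, classInner_smul_right]
  simp only [map_neg, map_one]
  ring

/-- A signed irreducible character is orthogonal to one of two orthogonal signed irreducible
characters. -/
theorem classInner_eq_zero_of_orth {f h₁ h₂ : G → ℂ} (hf : IsSignedIrr f) (h1 : IsSignedIrr h₁)
    (horth : Cfsg.classInner h₁ h₂ = 0) (hne : Cfsg.classInner f h₁ ≠ 0) :
    Cfsg.classInner f h₂ = 0 := by
  rcases classInner_signedIrr hf h1 with e | ⟨-, e⟩ | ⟨-, e⟩
  · exact absurd e hne
  · rw [e]
    exact horth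
  · rw [e, classInner_neg_left, horth, neg_zero]

theorem IsSignedIrr.galois (σ : ℂ ≃+* ℂ) {f : G → ℂ} (hf : IsSignedIrr f) :
    IsSignedIrr (fun g => σ (f g)) := by
  rcases hf with h | h
  · exact Or.inl (Cfsg.Agent.Lib.Helper75.isIrrCharacter_galois σ h)
  · right
    have h1 := Cfsg.Agent.Lib.Helper75.isIrrCharacter_galois σ h
    have e : (fun g => σ ((-f) g)) = -(fun g => σ (f g)) := by
      funext g
      simp
    rwa [e] at h1

/-- Galois conjugation preserves inner products of signed irreducible characters. -/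
theorem classInner_galois (σ : ℂ ≃+* ℂ) {f h : G → ℂ} (hf : IsSignedIrr f) (hh : IsSignedIrr h) :
    Cfsg.classInner (fun g => σ (f g)) (fun g => σ (h g)) = Cfsg.classInner f h := by
  have hinj : ∀ a b : G → ℂ, (fun g => σ (a g)) = (fun g => σ (b g)) → a = b := by
    intro a b hab
    funext g
    exact σ.injective (congrFun hab g)
  rcases classInner_signedIrr hf hh with e | ⟨e, e'⟩ | ⟨e, e'⟩
  · rw [e]
    rcases classInner_signedIrr (hf.galois σ) (hh.galois σ) with e2 | ⟨-, e2⟩ | ⟨-, e2⟩
    · exact e2
    · have h1 := hinj f h e2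
      rw [h1, classInner_self_signedIrr hh] at e
      exact absurd e one_ne_zero
    · have h2 : (fun g => σ (f g)) = (fun g => σ ((-h) g)) := by
        rw [e2]
        funext g
        simp
      have h1 := hinj f (-h) h2
      rw [h1, classInner_neg_left, classInner_self_signedIrr hh] at e
      norm_num at e
  · rw [e, e']
    exact classInner_self_signedIrr (hh.galois σ)
  · rw [e, e']
    have h2 : (fun g => σ ((-h) g)) = -(fun g => σ (h g)) := by
      funext g
      simp
    rw [h2, classInner_neg_left, classInner_self_signedIrr (hh.galois σ)]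

/-- The determination step: a signed irreducible character satisfying two relations against
orthogonal signed irreducible characters equals their common member. -/
theorem eq_of_two_relations {f ha hb hc hb' hc' : G → ℂ} (hf : IsSignedIrr f)
    (sa : IsSignedIrr ha) (sb : IsSignedIrr hb) (sc : IsSignedIrr hc)
    (o1 : Cfsg.classInner ha hb = 0) (o2 : Cfsg.classInner ha hc = 0)
    (o3 : Cfsg.classInner hb hb' = 0) (o4 : Cfsg.classInner hb hc' = 0)
    (o5 : Cfsg.classInner hc hb' = 0) (o6 : Cfsg.classInner hc hc' = 0)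
    (e1 : Cfsg.classInner f ha + Cfsg.classInner f hb - Cfsg.classInner f hc = 1)
    (e2 : Cfsg.classInner f ha + Cfsg.classInner f hb' - Cfsg.classInner f hc' = 1) : f = ha := by
  by_cases h0 : Cfsg.classInner f ha = 0
  · exfalso
    rw [h0, zero_add] at e1 e2
    by_cases hb0 : Cfsg.classInner f hb = 0
    · have hc0 : Cfsg.classInner f hc ≠ 0 := by
        intro h
        rw [hb0, h] at e1
        simp at e1
      have x1 := classInner_eq_zero_of_orth hf sc o5 hc0
      have x2 := classInner_eq_zero_of_orth hf sc o6 hc0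
      rw [x1, x2] at e2
      simp at e2
    · have x1 := classInner_eq_zero_of_orth hf sb o3 hb0
      have x2 := classInner_eq_zero_of_orth hf sb o4 hb0
      rw [x1, x2] at e2
      simp at e2
  · have x1 := classInner_eq_zero_of_orth hf sa o1 h0
    have x2 := classInner_eq_zero_of_orth hf sa o2 h0
    rw [x1, x2, add_zero, sub_zero] at e1
    rcases classInner_signedIrr hf sa with e | ⟨-, e⟩ | ⟨e, -⟩
    · exact absurd e h0
    · exact e
    · rw [e] at e1
      norm_num at e1

end Cfsg.Agent.Lib.Helper25
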