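import Mathlib
import Cfsg.Prelude.Def_LieExceptional
import Cfsg.Prelude.Def_Solvable
import Cfsg.Prelude.Def_OddOrderLocal
import Cfsg.Agent.S0035
import Cfsg.Agent.S0878

/-!
# The Frobenius kernel of a point stabiliser of a Zassenhaus group

`zass_kernel`: a finite Zassenhaus group on `Ω` has a subgroup `K` of order `|Ω| - 1` which is a
TI subgroup containing the centralisers of its non-identity elements, properly contained in its
normaliser, a point stabiliser.
-/

set_option autoImplicit false

namespace Cfsg.Agent.Lib.Helper25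

open Cfsg
open scoped Pointwise

theorem mem_conj_smul_iff {G : Type*} [Group G] (H : Subgroup G) (g x : G) :
    x ∈ MulAut.conj g • H ↔ g⁻¹ * x * g ∈ H := by
  rw [Subgroup.mem_pointwise_smul_iff_inv_smul_mem]
  simp [MulAut.smul_def]

theorem zass_kernel {G Ω : Type*} [Group G] [Finite G] [MulAction G Ω] [Fintype Ω]
    (hZ : Cfsg.IsZassenhausGroup G Ω) :
    ∃ K : Subgroup G, K ≠ ⊥ ∧ IsTISubset (K : Set G) ∧
      K < Subgroup.normalizer (K : Set G) ∧
      (∀ k ∈ K, k ≠ 1 → Subgroup.centralizer ({k} : Set G) ≤ K) ∧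
      (Subgroup.normalizer (K : Set G)).index = Nat.card K + 1 ∧
      Nat.card K + 1 = Fintype.card Ω := by
  classical
  have hZ' := hZ
  obtain ⟨hfaith, h2t, h3, ⟨g₀, hg₀, a, b, hab, hga, hgb⟩, -⟩ := hZ'
  haveI : MulAction.IsPretransitive G Ω :=
    MulAction.isPretransitive_of_is_two_pretransitive (h2 := h2t)
  have h2t' : ∀ {a b c d : Ω}, a ≠ b → c ≠ d → ∃ g : G, g • a = c ∧ g • b = d :=
    fun h h' => MulAction.is_two_pretransitive_iff.mp h2t h h'
  obtain ⟨c, hc⟩ : ∃ c : Ω, g₀ • c ≠ c := by
    by_contra h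
    push Not at h
    exact hg₀ (FaithfulSMul.eq_of_smul_eq_smul (α := Ω) (fun c => by rw [h c, one_smul]))
  have hca : c ≠ a := fun h => hc (h ▸ hga)
  have hcb : c ≠ b := fun h => hc (h ▸ hgb)
  set Ga : Subgroup G := MulAction.stabilizer G a with hGa
  set H' : Subgroup Ga := (Ga ⊓ MulAction.stabilizer G b).subgroupOf Ga with hH'
  have memH' : ∀ x : Ga, x ∈ H' ↔ (x : G) • b = b := by
    intro x
    rw [hH', Subgroup.mem_subgroupOf, Subgroup.mem_inf, MulAction.mem_stabilizer_iff]
    constructor
    · exact fun h => h.2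
    · exact fun h => ⟨x.2, h⟩
  have hFC : Cfsg.IsFrobeniusComplement H' := by
    refine ⟨?_, ?_, ?_⟩
    · intro h
      have h1 : (⟨g₀, hga⟩ : Ga) ∈ H' := (memH' _).mpr hgb
      rw [h, Subgroup.mem_bot] at h1
      exact hg₀ (congrArg Subtype.val h1)
    · intro h
      obtain ⟨g, hg1, hg2⟩ := h2t' hab (Ne.symm hca)
      have h1 : (⟨g, hg1⟩ : Ga) ∈ H' := by
        rw [h]
        trivial
      rw [memH'] at h1
      exact hcb (hg2.symm.trans h1)
    · intro g hg
      rw [eq_bot_iff]
      intro x hx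
      rw [Subgroup.mem_inf, mem_conj_smul_iff, memH', memH'] at hx
      obtain ⟨hx1, hx2⟩ := hx
      rw [memH'] at hg
      have hga' : (g : G) • a = a := g.2
      have hxa : (x : G) • a = a := x.2
      have hx3 : (x : G) • ((g : G) • b) = (g : G) • b := by
        have h4 : ((g : G)⁻¹ * (x : G) * (g : G)) • b = b := hx2
        rw [mul_smul, mul_smul, inv_smul_eq_iff] at h4
        exact h4
      have hgba : a ≠ (g : G) • b := by
        intro h
        apply hab
        apply MulAction.injective (g : G)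
        show (g : G) • a = (g : G) • b
        rw [hga']
        exact h
      have h5 := h3 (x : G) a b ((g : G) • b) hab (Ne.symm hg) hgba hxa hx1 hx3
      rw [Subgroup.mem_bot]
      exact Subtype.ext h5
  obtain ⟨N', hN'set, hN'n, hN'c⟩ := Cfsg.Agent.S0035.result H' hFC
  set K : Subgroup G := N'.map Ga.subtype with hK
  have hKle : K ≤ Ga := by
    rintro _ ⟨x, -, rfl⟩
    exact x.2
  have hcardK : Nat.card K = Nat.card N' :=
    Subgroup.card_map_of_injective Ga.subtype_injective
  have hcardN' : Nat.card N' = H'.index := hN'c.index_eq_card.symm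
  have hstab : H' = MulAction.stabilizer Ga b := by
    ext x
    rw [memH', MulAction.mem_stabilizer_iff]
    rfl
  have horb : MulAction.orbit Ga b = ({a} : Set Ω)ᶜ := by
    ext d
    rw [Set.mem_compl_iff, Set.mem_singleton_iff]
    constructor
    · rintro ⟨x, rfl⟩ h
      apply hab
      apply MulAction.injective (x : G)
      show (x : G) • a = (x : G) • b
      rw [show (x : G) • a = a from x.2]
      exact h.symm
    · intro hd
      obtain ⟨g, hg1, hg2⟩ := h2t' hab (Ne.symm hd)
      exact ⟨⟨g, hg1⟩, hg2⟩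
  have hidxH' : H'.index + 1 = Fintype.card Ω := by
    rw [hstab, MulAction.index_stabilizer, horb, ← Nat.card_eq_fintype_card,
      ← Set.ncard_add_ncard_compl ({a} : Set Ω), Set.ncard_singleton]
    ring
  have hKcard : Nat.card K + 1 = Fintype.card Ω := by
    rw [hcardK, hcardN', hidxH']
  have hKfix : ∀ u ∈ K, u ≠ 1 → ∀ d : Ω, u • d = d → d = a := by
    rintro _ ⟨u, hu, rfl⟩ hu1 d hd
    by_contra hda
    obtain ⟨g, hg1, hg2⟩ := h2t' hab (Ne.symm hda)
    have hu' : u ∈ Cfsg.frobeniusKernel H' := by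
      rw [← hN'set]
      exact hu
    rcases hu' with h | h
    · apply hu1
      rw [h]
      rfl
    · apply h ⟨g, hg1⟩
      rw [mem_conj_smul_iff, memH']
      show (g⁻¹ * (u : G) * g) • b = b
      rw [mul_smul, mul_smul, hg2, inv_smul_eq_iff, hg2]
      exact hd
  obtain ⟨hTI0, hnorm⟩ := Cfsg.Agent.S0878.result hZ a K hKle hKcard hKfix
  have hcard3 : 2 < Fintype.card Ω :=
    Fintype.two_lt_card_iff.mpr ⟨a, b, c, hab, Ne.symm hca, Ne.symm hcb⟩
  have hK1 : K ≠ ⊥ := by
    intro h
    rw [h, Subgroup.card_bot] at hKcard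
    omega
  have hmul := hN'c.card_mul_card
  refine ⟨K, hK1, ?_, ?_, ?_, ?_, hKcard⟩
  · intro g hg x hx hgx
    rw [hnorm] at hg
    exact hTI0 g hg x hx hgx
  · rw [hnorm]
    refine lt_of_le_of_ne hKle (fun h => ?_)
    have h1 : Nat.card K = Nat.card Ga := by rw [h]
    rw [hcardK] at h1
    rw [h1] at hmul
    have h2 : Nat.card H' = 1 := by
      have hpos : 0 < Nat.card Ga := Nat.card_pos
      exact Nat.eq_of_mul_eq_mul_left hpos (by rw [hmul, mul_one])
    exact hFC.1 (Subgroup.card_eq_one.mp h2)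
  · intro k hk hk1 c' hc'
    rw [Subgroup.mem_centralizer_iff] at hc'
    have hck : k * c' = c' * k := hc' k (Set.mem_singleton k)
    have hka : k • a = a := hKle hk
    have hca' : c' • a = a := by
      apply hKfix k hk hk1
      rw [← mul_smul, hck, mul_smul, hka]
    by_contra hcK
    have hcN' : (⟨c', hca'⟩ : Ga) ∉ N' := fun h => hcK ⟨_, h, rfl⟩
    have hcF : (⟨c', hca'⟩ : Ga) ∉ Cfsg.frobeniusKernel H' := by
      rw [← hN'set]
      exact hcN'
    simp only [Cfsg.frobeniusKernel, Set.mem_ofPred_eq, not_or, not_forall, not_not] at hcF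
    obtain ⟨-, g, hg⟩ := hcF
    rw [mem_conj_smul_iff, memH'] at hg
    have hcb' : c' • ((g : G) • b) = (g : G) • b := by
      have h4 : ((g : G)⁻¹ * c' * (g : G)) • b = b := hg
      rw [mul_smul, mul_smul, inv_smul_eq_iff] at h4
      exact h4
    have hb'a : (g : G) • b ≠ a := by
      intro h
      apply hab
      apply MulAction.injective (g : G)
      show (g : G) • a = (g : G) • b
      rw [show (g : G) • a = a from g.2]
      exact h.symm
    have hkb' : k • ((g : G) • b) ≠ (g : G) • b := fun h => hb'a (hKfix k hk hk1 _ h)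
    have hkb'a : k • ((g : G) • b) ≠ a := by
      intro h
      apply hb'a
      apply MulAction.injective k
      show k • ((g : G) • b) = k • a
      rw [hka]
      exact h
    have hckb' : c' • (k • ((g : G) • b)) = k • ((g : G) • b) := by
      rw [← mul_smul, ← hck, mul_smul, hcb']
    have h5 := h3 c' a ((g : G) • b) (k • ((g : G) • b)) (Ne.symm hb'a) (Ne.symm hkb')
      (Ne.symm hkb'a) hca' hcb' hckb'
    exact hcK (h5 ▸ K.one_mem)
  · rw [hnorm, MulAction.index_stabilizer_of_transitive G a, Nat.card_eq_fintype_card, hKcard]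

end Cfsg.Agent.Lib.Helper25
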