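import Mathlib
import Cfsg.Agent.Lib.Helper25.Feit6
import Cfsg.Agent.Lib.Helper25.CN6
import Cfsg.Agent.Lib.Helper25.CN4
import Cfsg.Agent.Lib.Helper25.IndAbove
import Cfsg.Agent.Lib.Helper77.CharBasic
import Cfsg.Agent.Lib.Helper80.CharKer

/-!
# A TI subgroup with Frobenius normaliser of index `|K| + 1` in a simple group

If `K` is a TI subgroup of `G` whose non-identity elements have their centralisers in `K`,
`K < N_G(K)` and `[G : N_G(K)] = |K| + 1`, and `|K|` is not a prime power, then `G` has a proper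
non-trivial normal subgroup (Feit).
-/

set_option autoImplicit false

namespace Cfsg.Agent.Lib.Helper25

open Cfsg Cfsg.Agent.Lib.Helper80 Cfsg.Agent.Lib.Helper26
open scoped ComplexConjugate

/-- Normal Sylow subgroups of a Frobenius kernel have order at least `[N:K] + 1`. -/
theorem frobT_sylow {N : Type*} [Group N] [Finite N] (K : Subgroup N) [hK : K.Normal]
    (hC : ∀ k ∈ K, k ≠ 1 → Subgroup.centralizer ({k} : Set N) ≤ K)
    (hK1 : K ≠ ⊥) (hK2 : K ≠ ⊤) (p : ℕ) [hp : Fact p.Prime] (hpd : p ∣ Nat.card K) :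
    ∃ X : Subgroup N, X.Normal ∧ X ≤ K ∧ X ≠ ⊥ ∧
      Nat.card X = p ^ (Nat.card K).factorization p ∧ K.index + 1 ≤ Nat.card X := by
  haveI hnil : Group.IsNilpotent K := frobT_nilpotent K hC hK1 hK2
  obtain ⟨P⟩ : Nonempty (Sylow p K) := inferInstance
  haveI hPn : (P : Subgroup K).Normal :=
    P.normal_of_normalizerCondition Group.normalizerCondition_of_isNilpotent
  haveI hPc : (P : Subgroup K).Characteristic := P.characteristic_of_normal hPn
  haveI hXn : ((P : Subgroup K).map K.subtype).Normal :=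
    ConjAct.normal_of_characteristic_of_normal
  have hXK : (P : Subgroup K).map K.subtype ≤ K := by
    rintro _ ⟨x, -, rfl⟩
    exact x.2
  have hXcard : Nat.card ((P : Subgroup K).map K.subtype) =
      p ^ (Nat.card K).factorization p := by
    rw [Subgroup.card_map_of_injective K.subtype_injective]
    exact P.card_eq_multiplicity
  have hfac : (Nat.card K).factorization p ≠ 0 := by
    have hpos : 0 < (Nat.card K).factorization p :=
      hp.out.factorization_pos_of_dvd Nat.card_pos.ne' hpd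
    omega
  have hX2 : 2 ≤ Nat.card ((P : Subgroup K).map K.subtype) := by
    rw [hXcard]
    calc 2 ≤ p := hp.out.two_le
      _ = p ^ 1 := (pow_one p).symm
      _ ≤ p ^ (Nat.card K).factorization p :=
        Nat.pow_le_pow_right hp.out.pos (Nat.one_le_iff_ne_zero.mpr hfac)
  have hdvd := frob_count_le K ((P : Subgroup K).map K.subtype)
    (fun x hx hx1 => hC x (hXK hx) hx1)
  refine ⟨(P : Subgroup K).map K.subtype, hXn, hXK, ?_, hXcard, ?_⟩
  · intro h
    rw [h, Subgroup.card_bot] at hX2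
    omega
  · have h1 := Nat.le_of_dvd (by omega) hdvd
    omega

/-- The conjugates of the non-identity elements of a TI subgroup are pairwise disjoint, so a
non-negative class function has total sum at least the sum over these conjugates. -/
theorem ti_sum_le {G : Type*} [Group G] [Fintype G] (K : Subgroup G) [Fintype K]
    (hTI : IsTISubset (K : Set G)) (F : G → ℝ) (hF0 : ∀ g, 0 ≤ F g)
    (hF : ∀ g x : G, F (x * g * x⁻¹) = F g) :
    F 1 + ((Subgroup.normalizer (K : Set G)).index : ℝ) * (∑ k : K, F k - F 1) ≤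
      ∑ g : G, F g := by
  classical
  set N : Subgroup G := Subgroup.normalizer (K : Set G) with hN
  have hf1 : ∀ x : (G ⧸ N) × {h : K // h ≠ 1},
      x.1.out * (x.2.1 : G) * (x.1.out)⁻¹ ≠ 1 := by
    intro x h
    have h2 : ((x.2.1 : K) : G) = 1 := by
      have := congrArg (fun t => (x.1.out)⁻¹ * t * x.1.out) h
      simpa [mul_assoc] using this
    exact x.2.2 (Subtype.ext h2)
  let f : (G ⧸ N) × {h : K // h ≠ 1} → {g : G // g ≠ 1} :=
    fun x => ⟨x.1.out * (x.2.1 : G) * (x.1.out)⁻¹, hf1 x⟩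
  have hinj : Function.Injective f := by
    rintro ⟨c, h, hh⟩ ⟨c', h', hh'⟩ hEq
    have hEq' : c.out * (h : G) * (c.out)⁻¹ = c'.out * (h' : G) * (c'.out)⁻¹ :=
      congrArg Subtype.val hEq
    have ht : (c'.out)⁻¹ * c.out * (h : G) * ((c'.out)⁻¹ * c.out)⁻¹ = (h' : G) := by
      have := congrArg (fun t => (c'.out)⁻¹ * t * c'.out) hEq'
      simp only [mul_assoc, inv_mul_cancel_left, inv_mul_cancel, mul_one] at this
      simp only [mul_inv_rev, inv_inv, mul_assoc]
      exact this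
    have htN : (c'.out)⁻¹ * c.out ∈ N := by
      by_contra hnot
      have := hTI _ hnot (h : G) h.2 (by rw [ht]; exact h'.2)
      exact hh (Subtype.ext this)
    have hcc : c = c' := by
      have h1 : ((c'.out : G) : G ⧸ N) = ((c.out : G) : G ⧸ N) :=
        QuotientGroup.eq.mpr htN
      rw [QuotientGroup.out_eq', QuotientGroup.out_eq'] at h1
      exact h1.symm
    subst hcc
    have hh2 : (h : G) = (h' : G) := by
      have := congrArg (fun t => (c.out)⁻¹ * t * c.out) hEq'
      simpa [mul_assoc] using this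
    have hh3 : h = h' := Subtype.ext hh2
    subst hh3
    rfl
  haveI : Fintype (G ⧸ N) := Fintype.ofFinite _
  have hsplit : ∑ g : G, F g = F 1 + ∑ g : {g : G // g ≠ 1}, F g := by
    rw [← Finset.add_sum_erase Finset.univ F (Finset.mem_univ (1 : G))]
    congr 1
    exact Finset.sum_subtype (Finset.univ.erase (1 : G)) (by simp) F
  rw [hsplit]
  have hle : ∑ y ∈ Finset.univ.image f, F (y : G) ≤ ∑ g : {g : G // g ≠ 1}, F g :=
    Finset.sum_le_sum_of_subset_of_nonneg (Finset.subset_univ _) (fun g _ _ => hF0 _)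
  rw [Finset.sum_image (fun x _ y _ h => hinj h), Fintype.sum_prod_type] at hle
  have hin : ∀ c : G ⧸ N, ∑ h : {h : K // h ≠ 1}, F ((f (c, h) : {g : G // g ≠ 1}) : G) =
      ∑ k : K, F k - F 1 := by
    intro c
    have h1 : ∀ h : {h : K // h ≠ 1}, F ((f (c, h) : {g : G // g ≠ 1}) : G) =
        F ((h : K) : G) := by
      intro h
      exact hF _ _
    rw [Finset.sum_congr rfl (fun h _ => h1 h),
      ← Finset.sum_subtype (Finset.univ.erase (1 : K)) (by simp)
        (fun k : K => F (k : G)),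
      Finset.sum_erase_eq_sub (Finset.mem_univ _)]
    rfl
  rw [Finset.sum_congr rfl (fun c _ => hin c), Finset.sum_const, Finset.card_univ,
    nsmul_eq_mul] at hle
  have hidx : (Fintype.card (G ⧸ N) : ℝ) = (N.index : ℝ) := by
    rw [← Nat.card_eq_fintype_card]
    rfl
  rw [hidx] at hle
  linarith

/-- A Frobenius kernel whose order is not a prime power has a proper non-trivial subgroup normal
in the whole group, and its order is at least `([N:K] + 1) ^ 2`. -/
theorem frobT_two_primes {N : Type*} [Group N] [Finite N] (K : Subgroup N) [hK : K.Normal]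
    (hC : ∀ k ∈ K, k ≠ 1 → Subgroup.centralizer ({k} : Set N) ≤ K)
    (hK1 : K ≠ ⊥) (hK2 : K ≠ ⊤) (hnpp : ¬ IsPrimePow (Nat.card K)) :
    ∃ X : Subgroup N, X.Normal ∧ X < K ∧ X ≠ ⊥ ∧ (K.index + 1) ^ 2 ≤ Nat.card K := by
  have hn1 : Nat.card K ≠ 1 := by
    intro h
    exact hK1 (Subgroup.card_eq_one.mp h)
  have hn0 : Nat.card K ≠ 0 := Nat.card_pos.ne'
  obtain ⟨p, hp, hpd⟩ := Nat.exists_prime_and_dvd hn1
  haveI : Fact p.Prime := ⟨hp⟩
  have hq : ∃ q : ℕ, q.Prime ∧ q ∣ Nat.card K ∧ q ≠ p := by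
    by_contra hcon
    push Not at hcon
    apply hnpp
    have h1 := Nat.eq_prime_pow_of_unique_prime_dvd hn0 (fun {q} hq hqd => hcon q hq hqd)
    rw [h1]
    apply hp.isPrimePow.pow
    intro h0
    rw [h0, pow_zero] at h1
    exact hn1 h1
  obtain ⟨q, hq, hqd, hqp⟩ := hq
  haveI : Fact q.Prime := ⟨hq⟩
  obtain ⟨X, hXn, hXK, hX1, hXc, hXe⟩ := frobT_sylow K hC hK1 hK2 p hpd
  obtain ⟨Y, hYn, hYK, hY1, hYc, hYe⟩ := frobT_sylow K hC hK1 hK2 q hqd
  have hcop : Nat.Coprime (p ^ (Nat.card K).factorization p) (q ^ (Nat.card K).factorization q) :=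
    Nat.Coprime.pow _ _ ((Nat.coprime_primes hp hq).mpr (Ne.symm hqp))
  have hdvd : p ^ (Nat.card K).factorization p * q ^ (Nat.card K).factorization q ∣ Nat.card K :=
    Nat.Coprime.mul_dvd_of_dvd_of_dvd hcop (Nat.ordProj_dvd _ _) (Nat.ordProj_dvd _ _)
  have hle := Nat.le_of_dvd Nat.card_pos hdvd
  rw [← hXc, ← hYc] at hle
  refine ⟨X, hXn, lt_of_le_of_ne hXK ?_, hX1, ?_⟩
  · intro h
    apply hnpp
    rw [← h, hXc]
    apply hp.isPrimePow.pow
    intro h0
    rw [h0, pow_zero] at hXc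
    exact hX1 (Subgroup.card_eq_one.mp hXc)
  · calc (K.index + 1) ^ 2 = (K.index + 1) * (K.index + 1) := by ring
      _ ≤ Nat.card X * Nat.card Y := Nat.mul_le_mul hXe hYe
      _ ≤ Nat.card K := hle

section sector

variable {G : Type*} [Group G] [Fintype G] {K : Subgroup G}
  [Fintype ↥(Subgroup.normalizer (K : Set G))] (P : SectorPkg K)

/-- If a sector has many classes, the exceptional characters restrict to the sector without
a constant term. -/
theorem sector_d_zero (hlt : K < Subgroup.normalizer (K : Set G)) (hK1 : K ≠ ⊥)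
    (hTI : IsTISubset (K : Set G))
    (hfrob : ∀ h ∈ K, h ≠ 1 →
      Subgroup.normalizer (K : Set G) ⊓ Subgroup.centralizer ({h} : Set G) ≤ K)
    (ht : secE K + 2 ≤ secT K) : P.d = 0 := by
  classical
  haveI : Fintype (IrrCharacter G) := Fintype.ofFinite _
  obtain ⟨k₀, hk₀⟩ := (Subgroup.ne_bot_iff_exists_ne_one).mp hK1
  have hk1 : (k₀ : G) ≠ 1 := fun h => hk₀ (Subtype.ext h)
  have h2 := second_orthogonality_of_isConj (IsConj.refl (k₀ : G))
  have h2r : ∑ Y : IrrCharacter G, Complex.normSq ((Y : G → ℂ) k₀) =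
      (Nat.card (Subgroup.centralizer ({(k₀ : G)} : Set G)) : ℝ) := by
    have hC : ((∑ Y : IrrCharacter G, Complex.normSq ((Y : G → ℂ) k₀) : ℝ) : ℂ) =
        ((Nat.card (Subgroup.centralizer ({(k₀ : G)} : Set G)) : ℝ) : ℂ) := by
      push_cast
      rw [← h2]
      exact Finset.sum_congr rfl (fun Y _ => (Complex.mul_conj _).symm)
    exact_mod_cast hC
  have hinj : Set.InjOn P.X
      ((relChars (K.subgroupOf (Subgroup.normalizer (K : Set G))) :
        Finset (IrrCharacter ↥(Subgroup.normalizer (K : Set G)))) : Set _) :=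
    fun χ hχ χ' hχ' h => P.inj χ (Finset.mem_coe.mp hχ) χ' (Finset.mem_coe.mp hχ') h
  have htriv : trivIrr G ∉
      (relChars (K.subgroupOf (Subgroup.normalizer (K : Set G)))).image P.X := by
    intro h
    obtain ⟨χ, hχ, hpe⟩ := Finset.mem_image.mp h
    obtain ⟨a, ha, b, hb, ha1, hb1, hne⟩ := P.v4 χ hχ
    rw [hpe] at hne
    exact hne rfl
  have hle : ∑ Y ∈ insert (trivIrr G)
      ((relChars (K.subgroupOf (Subgroup.normalizer (K : Set G)))).image P.X),
      Complex.normSq ((Y : G → ℂ) k₀) ≤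
      ∑ Y : IrrCharacter G, Complex.normSq ((Y : G → ℂ) k₀) :=
    Finset.sum_le_sum_of_subset_of_nonneg (Finset.subset_univ _)
      (fun _ _ _ => Complex.normSq_nonneg _)
  rw [Finset.sum_insert htriv, Finset.sum_image hinj, h2r] at hle
  have e1 : Complex.normSq ((trivIrr G : G → ℂ) k₀) = 1 := by
    rw [trivIrr_apply]
    exact map_one _
  have e2 := sector_sum_self P hlt hTI hfrob k₀.2 hk1
  rw [e1, e2] at hle
  by_contra hd
  have hd1 : (1 : ℝ) ≤ (P.d : ℝ) ^ 2 := by
    have h3 : 0 < P.d ^ 2 := by positivity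
    have h4 : 1 ≤ P.d ^ 2 := h3
    exact_mod_cast h4
  have h1 : (P.d : ℝ) ≤ (P.d : ℝ) ^ 2 := by exact_mod_cast Int.le_self_sq P.d
  have h2' : -(P.d : ℝ) ≤ (P.d : ℝ) ^ 2 := by
    have h3 := Int.le_self_sq (-P.d)
    rw [neg_sq] at h3
    exact_mod_cast h3
  have ht' : (secE K : ℝ) + 2 ≤ (secT K : ℝ) := by exact_mod_cast ht
  have he0 : (0 : ℝ) ≤ (secE K : ℝ) := Nat.cast_nonneg _
  have h5 : (P.d : ℝ) ^ 2 * ((secE K : ℝ) + 2) ≤ (P.d : ℝ) ^ 2 * (secT K : ℝ) :=
    mul_le_mul_of_nonneg_left ht' (by positivity)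
  have h6 : (secE K : ℝ) ≤ (P.d : ℝ) ^ 2 * (secE K : ℝ) := by nlinarith
  rcases P.hε with h | h <;> rw [h] at hle <;> push_cast at hle <;> nlinarith

end sector

/-- **Feit's theorem on Zassenhaus groups, character-theoretic core.**  If `K` is a TI subgroup
of `G` containing the centralisers of its non-identity elements, properly contained in its
normaliser `N`, with `[G : N] = |K| + 1` and `|K|` not a prime power, then `G` has a proper
non-trivial normal subgroup. -/
theorem ti_frob_not_simple {G : Type*} [Group G] [Fintype G] (K : Subgroup G)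
    [Fintype ↥(Subgroup.normalizer (K : Set G))]
    (hK1 : K ≠ ⊥) (hTI : IsTISubset (K : Set G))
    (hlt : K < Subgroup.normalizer (K : Set G))
    (hC : ∀ k ∈ K, k ≠ 1 → Subgroup.centralizer ({k} : Set G) ≤ K)
    (hidx : (Subgroup.normalizer (K : Set G)).index = Nat.card K + 1)
    (hnpp : ¬ IsPrimePow (Nat.card K)) :
    ∃ M : Subgroup G, M.Normal ∧ M ≠ ⊥ ∧ M ≠ ⊤ := by
  classical
  haveI : Fintype K := Fintype.ofFinite _
  have hfrob : ∀ h ∈ K, h ≠ 1 →
      Subgroup.normalizer (K : Set G) ⊓ Subgroup.centralizer ({h} : Set G) ≤ K :=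
    fun h hh hh1 => inf_le_right.trans (hC h hh hh1)
  have hKN : K ≤ Subgroup.normalizer (K : Set G) := hlt.le
  haveI hKn : (K.subgroupOf (Subgroup.normalizer (K : Set G))).Normal :=
    Subgroup.normal_in_normalizer
  set K' : Subgroup ↥(Subgroup.normalizer (K : Set G)) :=
    K.subgroupOf (Subgroup.normalizer (K : Set G)) with hK'
  have hC' := sub_hC K hC
  have hKK' : K' ≃* K := Subgroup.subgroupOfEquivOfLe hKN
  have hcardK' : Nat.card K' = Nat.card K := Nat.card_congr hKK'.toEquiv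
  have hK'1 : K' ≠ ⊥ := by
    have h1 : 1 < Nat.card K := (Subgroup.one_lt_card_iff_ne_bot K).mpr hK1
    rw [← hcardK'] at h1
    exact (Subgroup.one_lt_card_iff_ne_bot K').mp h1
  have hK'2 : K' ≠ ⊤ := by
    intro h
    apply not_le_of_gt hlt
    intro x hx
    have h2 : (⟨x, hx⟩ : Subgroup.normalizer (K : Set G)) ∈ K' := by
      rw [h]
      trivial
    exact Subgroup.mem_subgroupOf.mp h2
  -- coherence
  have hcoh : IsCoherent (inducedIrrAbove K' ⊥) {1}ᶜ
      (fun α : ↥(Subgroup.normalizer (K : Set G)) → ℂ =>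
        Cfsg.indFun (Subgroup.normalizer (K : Set G)) α) := by
    rw [sector_induced_eq K hlt hTI hfrob]
    rcases feit_sibley K hK1 hTI hlt hC with h | h | h
    · exfalso
      obtain ⟨-, -, p, hp, hel⟩ := h
      haveI : Fact p.Prime := ⟨hp⟩
      have hpg : IsPGroup p K := by
        intro a
        refine ⟨1, ?_⟩
        rw [pow_one]
        exact Subtype.ext (hel.2 (a : G) a.2)
      obtain ⟨j, hj⟩ := IsPGroup.iff_card.mp hpg
      apply hnpp
      rw [hj]
      apply hp.isPrimePow.pow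
      intro h0
      rw [h0, pow_zero] at hj
      exact hK1 (Subgroup.card_eq_one.mp hj)
    · exfalso
      obtain ⟨h1, -⟩ := h
      apply hnpp
      rw [h1]
      apply Nat.prime_two.isPrimePow.pow
      intro h0
      rw [h0, pow_zero] at h1
      exact hK1 (Subgroup.card_eq_one.mp h1)
    · exact h
  obtain ⟨P⟩ := exists_sectorPkg' K hlt hK1 hTI hfrob hcoh
  obtain ⟨X, hXn, hXK, hX1, hsq⟩ := frobT_two_primes K' hC' hK'1 hK'2
    (by rw [hcardK']; exact hnpp)
  have he : K'.index = secE K := rfl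
  rw [he, hcardK'] at hsq
  have het := secE_mul_secT K hfrob
  have ht : secE K + 2 ≤ secT K := by
    by_contra hcon
    push Not at hcon
    have h1 : secE K * secT K ≤ secE K * (secE K + 1) := Nat.mul_le_mul_left _ (by omega)
    have hepos : 0 < secE K := Nat.pos_of_ne_zero Subgroup.index_ne_zero_of_finite
    have h2 : (secE K + 1) ^ 2 = secE K * (secE K + 1) + 1 + secE K := by ring
    omega
  have hd := sector_d_zero P hlt hK1 hTI hfrob ht
  -- a character of the normaliser induced from a linear character trivial on `X`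
  haveI hnil : Group.IsNilpotent K' := frobT_nilpotent K' hC' hK'1 hK'2
  have hsolv : Group.IsSolvable K' := inferInstance
  obtain ⟨θ, hθ, hθ1, hθdeg, hθX⟩ := exists_linear_above K' hsolv X hXK
  have hψirr := frobT_induced_irr K' hC' hθ hθ1
  set ψ : IrrCharacter ↥(Subgroup.normalizer (K : Set G)) := ⟨Cfsg.indFun K' θ, hψirr⟩ with hψdef
  have hψ : ψ ∈ relChars K' := by
    rw [mem_relChars]
    intro hall
    obtain ⟨k, hk, hne⟩ := frobT_ind_rel K' hθ hθ1
    exact hne (hall k hk)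
  have hψ1 : (ψ : ↥(Subgroup.normalizer (K : Set G)) → ℂ) 1 = (secE K : ℂ) := by
    show Cfsg.indFun K' θ 1 = _
    rw [indFun_apply_one, hθdeg, mul_one]
    rfl
  have hn0 : (Nat.card K : ℂ) ≠ 0 := by exact_mod_cast (Nat.card_pos (α := K)).ne'
  have hψX : ∀ x : ↥(Subgroup.normalizer (K : Set G)), x ∈ X →
      (ψ : ↥(Subgroup.normalizer (K : Set G)) → ℂ) x = (secE K : ℂ) := by
    intro x hx
    have hxK : x ∈ K' := hXK.le hx
    show Cfsg.indFun K' θ x = _
    have h1 := indFun_apply_coe K' θ ⟨x, hxK⟩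
    have h2 : ∀ y : ↥(Subgroup.normalizer (K : Set G)), cj K' θ y ⟨x, hxK⟩ = 1 := by
      intro y
      unfold cj
      rw [hθX _ (hXn.conj_mem x hx y), hθdeg]
    rw [show ((⟨x, hxK⟩ : K') : ↥(Subgroup.normalizer (K : Set G))) = x from rfl] at h1
    rw [h1, Finset.sum_congr rfl (fun y _ => h2 y), Finset.sum_const, Finset.card_univ,
      nsmul_eq_mul, mul_one, ← Nat.card_eq_fintype_card, card_sector_normalizer K, hcardK']
    push_cast
    field_simp
  -- the exceptional character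
  set Y : IrrCharacter G := P.X ψ with hY
  have hYchar := isCharacter_of_isIrrCharacter Y.2
  have hY1 : (Y : G → ℂ) 1 = (charDegree (Y : G → ℂ) : ℂ) := char_one_eq_charDegree hYchar
  have hfpos := charDegree_pos Y.2
  have hv : ∀ k : K, k ≠ 1 → (Y : G → ℂ) k =
      (P.ε : ℂ) * (ψ : ↥(Subgroup.normalizer (K : Set G)) → ℂ) ⟨(k : G), hKN k.2⟩ := by
    intro k hk1
    have h2 := P.v1 ψ hψ ⟨(k : G), hKN k.2⟩ k.2 (fun h => hk1 (Subtype.ext
      (congrArg (fun x : ↥(Subgroup.normalizer (K : Set G)) => (x : G)) h)))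
    rw [h2, hd]
    simp
  have hfrob' := Cfsg.Agent.Lib.Helper4.frob_of_hC K (sector_cent K hTI hfrob)
  have hvan : ∀ x : ↥(Subgroup.normalizer (K : Set G)), (x : G) ∉ K →
      (ψ : ↥(Subgroup.normalizer (K : Set G)) → ℂ) x = 0 := fun x hx =>
    rel_vanish' K' hfrob' hψ (fun h => hx (Subgroup.mem_subgroupOf.mp h))
  have hS1 : ∑ k : K, (ψ : ↥(Subgroup.normalizer (K : Set G)) → ℂ) ⟨(k : G), hKN k.2⟩ = 0 := by
    rw [← sum_eq_sum_subgroup (Subgroup.normalizer (K : Set G)) K hKN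
      (fun x => (ψ : ↥(Subgroup.normalizer (K : Set G)) → ℂ) x) hvan]
    exact rel_sum_eq_zero' K' hψ
  obtain ⟨m, hm⟩ := Cfsg.Agent.Lib.Helper77.sum_subgroup_char K (Y : G → ℂ) hYchar
  have hsumY : ∑ k : K, (Y : G → ℂ) k =
      (charDegree (Y : G → ℂ) : ℂ) - (P.ε : ℂ) * (secE K : ℂ) := by
    rw [← Finset.add_sum_erase Finset.univ _ (Finset.mem_univ (1 : K))]
    have h3 : ∑ k ∈ Finset.univ.erase (1 : K), (Y : G → ℂ) k =
        ∑ k ∈ Finset.univ.erase (1 : K), (P.ε : ℂ) *
          (ψ : ↥(Subgroup.normalizer (K : Set G)) → ℂ) ⟨(k : G), hKN k.2⟩ :=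
      Finset.sum_congr rfl (fun k hk => hv k (Finset.mem_erase.mp hk).1)
    rw [h3, ← Finset.mul_sum, Finset.sum_erase_eq_sub (Finset.mem_univ _), hS1]
    have hone : (⟨((1 : K) : G), hKN (1 : K).2⟩ : ↥(Subgroup.normalizer (K : Set G))) = 1 := rfl
    rw [hone, hψ1, show ((1 : K) : G) = 1 from rfl, hY1]
    ring
  have hfm : (charDegree (Y : G → ℂ) : ℤ) =
      P.ε * (secE K : ℤ) + (Nat.card K : ℤ) * (m : ℤ) := by
    have h3 : ((charDegree (Y : G → ℂ) : ℤ) : ℂ) =
        ((P.ε * (secE K : ℤ) + (Nat.card K : ℤ) * (m : ℤ) : ℤ) : ℂ) := by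
      push_cast
      rw [← hm, hsumY]
      ring
    exact_mod_cast h3
  -- the norm of the exceptional character
  have hnorm := sector_norm P hlt hTI hfrob hψ hψ1
  have hti := ti_sum_le K hTI (fun g => Complex.normSq ((Y : G → ℂ) g))
    (fun g => Complex.normSq_nonneg _)
    (fun g x => by
      show Complex.normSq ((Y : G → ℂ) (x * g * x⁻¹)) = Complex.normSq ((Y : G → ℂ) g)
      rw [char_conj_eq hYchar g x])
  have hsumG : ∑ g : G, Complex.normSq ((Y : G → ℂ) g) = (Nat.card G : ℝ) := by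
    have h := sum_irr_mul_conj Y Y
    rw [if_pos rfl] at h
    have hCC : ((∑ g : G, Complex.normSq ((Y : G → ℂ) g) : ℝ) : ℂ) = ((Nat.card G : ℝ) : ℂ) := by
      push_cast
      rw [← h]
      exact Finset.sum_congr rfl (fun g _ => (Complex.mul_conj _).symm)
    exact_mod_cast hCC
  have hG : (Nat.card G : ℝ) =
      ((Nat.card K : ℝ) + 1) * ((secE K : ℝ) * (Nat.card K : ℝ)) := by
    rw [← sector_index_mul K, hidx]
    push_cast
    ring
  have hYn1 : Complex.normSq ((Y : G → ℂ) 1) = (charDegree (Y : G → ℂ) : ℝ) ^ 2 := by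
    rw [hY1, Complex.normSq_natCast]
    ring
  rw [hnorm, hsumG, hG, hidx, hYn1, hd] at hti
  push_cast at hti
  have hf2 : (charDegree (Y : G → ℂ) : ℝ) ^ 2 ≤
      ((Nat.card K : ℝ) + 1) * (secE K : ℝ) ^ 2 := by
    nlinarith [hti]
  have hsqR : ((secE K : ℝ) + 1) ^ 2 ≤ (Nat.card K : ℝ) := by exact_mod_cast hsq
  have he0 : (0 : ℝ) ≤ (secE K : ℝ) := Nat.cast_nonneg _
  have hm0 : m = 0 := by
    by_contra hm1
    have hm1' : (1 : ℤ) ≤ (m : ℤ) := by exact_mod_cast Nat.one_le_iff_ne_zero.mpr hm1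
    have hfge : (Nat.card K : ℤ) - (secE K : ℤ) ≤ (charDegree (Y : G → ℂ) : ℤ) := by
      rw [hfm]
      have h3 : (Nat.card K : ℤ) * 1 ≤ (Nat.card K : ℤ) * (m : ℤ) :=
        mul_le_mul_of_nonneg_left hm1' (Int.natCast_nonneg _)
      have h4 : (0 : ℤ) ≤ (secE K : ℤ) := Int.natCast_nonneg _
      rcases P.hε with h | h <;> rw [h] <;> linarith
    have hfgeR : (Nat.card K : ℝ) - (secE K : ℝ) ≤ (charDegree (Y : G → ℂ) : ℝ) := by
      exact_mod_cast hfge
    have h5 : (secE K : ℝ) ^ 2 + (secE K : ℝ) + 1 ≤ (Nat.card K : ℝ) - (secE K : ℝ) := by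
      nlinarith
    have h6 : ((Nat.card K : ℝ) - (secE K : ℝ)) ^ 2 ≤ (charDegree (Y : G → ℂ) : ℝ) ^ 2 := by
      apply pow_le_pow_left₀ _ hfgeR
      nlinarith
    have h7 : ((Nat.card K : ℝ) - (secE K : ℝ)) * ((secE K : ℝ) ^ 2 + (secE K : ℝ) + 1) ≤
        ((Nat.card K : ℝ) - (secE K : ℝ)) ^ 2 := by
      have h50 : (0 : ℝ) ≤ (Nat.card K : ℝ) - (secE K : ℝ) := by nlinarith
      have h51 := mul_le_mul_of_nonneg_left h5 h50
      nlinarith
    have h8 : ((Nat.card K : ℝ) + 1) * (secE K : ℝ) ^ 2 <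
        ((Nat.card K : ℝ) - (secE K : ℝ)) * ((secE K : ℝ) ^ 2 + (secE K : ℝ) + 1) := by
      have h9 : 0 < ((secE K : ℝ) + 1) * ((Nat.card K : ℝ) - (secE K : ℝ) * ((secE K : ℝ) + 1)) := by
        apply mul_pos
        · linarith
        · nlinarith
      nlinarith
    linarith
  rw [hm0] at hfm
  simp only [Nat.cast_zero, mul_zero, add_zero] at hfm
  have hε1 : P.ε = 1 := by
    rcases P.hε with h | h
    · exact h
    · exfalso
      rw [h] at hfm
      have h3 : (0 : ℤ) < (charDegree (Y : G → ℂ) : ℤ) := by exact_mod_cast hfpos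
      have h4 : (0 : ℤ) ≤ (secE K : ℤ) := Int.natCast_nonneg _
      linarith
  rw [hε1, one_mul] at hfm
  have hfe : charDegree (Y : G → ℂ) = secE K := by exact_mod_cast hfm
  -- the kernel
  obtain ⟨M, hMn, hM⟩ := exists_ker_subgroup hYchar
  refine ⟨M, hMn, ?_, ?_⟩
  · obtain ⟨x, hx, hx1⟩ : ∃ x ∈ X, x ≠ 1 := by
      by_contra hcon
      push Not at hcon
      exact hX1 ((Subgroup.eq_bot_iff_forall X).mpr hcon)
    intro hbot
    have hxM : (x : G) ∈ M := by
      rw [hM]
      have hxK : (x : G) ∈ K := Subgroup.mem_subgroupOf.mp (hXK.le hx)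
      have h2 := P.v1 ψ hψ x hxK hx1
      show (Y : G → ℂ) x = (Y : G → ℂ) 1
      rw [hY1, h2, hd, hψX x hx, hε1, hfe]
      simp
    rw [hbot, Subgroup.mem_bot] at hxM
    exact hx1 (Subtype.ext hxM)
  · intro htop
    obtain ⟨a, ha, b, hb, ha1, hb1, hne⟩ := P.v4 ψ hψ
    apply hne
    have h1 : a ∈ M := by
      rw [htop]
      trivial
    have h2 : b ∈ M := by
      rw [htop]
      trivial
    rw [(hM a).mp h1, (hM b).mp h2]

end Cfsg.Agent.Lib.Helper25
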